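import Mathlib.GroupTheory.Sylow
import Mathlib.GroupTheory.Nilpotent
import Mathlib.Data.Fintype.Order
import Mathlib.Tactic.Group
import Mathlib.Tactic.Abel
import Mathlib.Tactic.Ring

/-!
# A maximal Sylow 2-subgroup centralizing an involution

`Ctx P z`: `P` is a 2-subgroup maximal in `G`, `G` has no nontrivial normal 2-subgroup and `z` is a
central involution of `P`.  A member is a subgroup which is not a 2-group and normalizes a 2-subgroup
containing a conjugate of `z`.  `Bound z k` bounds the 2-subgroups of members by `2 ^ k`.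
-/

set_option autoImplicit false
set_option linter.style.haveILetI false
set_option linter.unusedSectionVars false

namespace CfsgLib.MaxTwo

open Subgroup

universe u

variable {G : Type u} [Group G] [Finite G]

theorem two_fact : Fact (Nat.Prime 2) := ⟨Nat.prime_two⟩

/-- Order two. -/
def Inv2 (z : G) : Prop := z ≠ 1 ∧ z * z = 1

/-- The setting. -/
structure Ctx (P : Subgroup G) (z : G) : Prop where
  p2 : IsPGroup 2 P
  max : IsCoatom P
  core : ∀ N : Subgroup G, N.Normal → IsPGroup 2 N → N = ⊥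
  zP : z ∈ P
  z1 : z ≠ 1
  z2 : z * z = 1
  zc : ∀ p ∈ P, z * p = p * z

/-- Members. -/
def Member (z : G) (X : Subgroup G) : Prop :=
  ¬ IsPGroup 2 X ∧ ∃ R : Subgroup G, IsPGroup 2 R ∧ R ≤ X ∧ X ≤ normalizer (R : Set G) ∧
    ∃ g : G, g * z * g⁻¹ ∈ R

/-- All 2-subgroups of members have order at most `2 ^ k`. -/
def Bound (z : G) (k : ℕ) : Prop :=
  ∀ X : Subgroup G, Member z X → ∀ S : Subgroup G, S ≤ X → IsPGroup 2 S → Nat.card S ≤ 2 ^ k

theorem not_two_group {X : Subgroup G} {x : G} (hx : x ∈ X) (h1 : x ≠ 1) (ho : Odd (orderOf x)) :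
    ¬ IsPGroup 2 X := fun h => by
  obtain ⟨j, hj⟩ := IsPGroup.iff_orderOf.1 h ⟨x, hx⟩
  rw [Subgroup.orderOf_mk] at hj
  rcases j with _ | j
  · exact h1 (orderOf_eq_one_iff.1 (by simpa using hj))
  · exact absurd ho (by rw [hj, Nat.not_odd_iff_even, pow_succ']; exact even_two_mul _)

theorem exists_odd_element {X : Subgroup G} (h : ¬ IsPGroup 2 X) :
    ∃ x ∈ X, x ≠ 1 ∧ Odd (orderOf x) := by
  by_contra hc
  push Not at hc
  refine h fun g => ?_
  obtain ⟨a, m, hm, he⟩ := Nat.exists_eq_two_pow_mul_odd (orderOf_pos g).ne'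
  refine ⟨a, ?_⟩
  have h1 : orderOf (g ^ 2 ^ a) = m := by
    rw [orderOf_pow' _ (pow_ne_zero _ two_ne_zero), he, Nat.gcd_mul_right_left,
      Nat.mul_div_cancel_left _ (Nat.two_pow_pos a)]
  rcases eq_or_ne (g ^ 2 ^ a) 1 with e | e
  · exact e
  · exact absurd (show Odd (orderOf ((g ^ 2 ^ a : X) : G)) by rw [orderOf_coe, h1]; exact hm)
      (hc _ (g ^ 2 ^ a).2 fun e' => e (Subtype.ext e'))

theorem card_sup_of_normalizes {A B : Subgroup G} (hA : IsPGroup 2 A) (hB : IsPGroup 2 B)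
    (h : A ≤ normalizer (B : Set G)) : IsPGroup 2 ↥(A ⊔ B) :=
  hA.to_sup_of_normal_right' hB h

theorem lt_inf_normalizer {A B : Subgroup G} (hB : IsPGroup 2 B) (h : A < B) :
    A < B ⊓ normalizer (A : Set G) := by
  haveI := two_fact
  haveI : Group.IsNilpotent B := hB.isNilpotent
  refine lt_of_le_of_ne (le_inf h.le le_normalizer) fun he => ?_
  have hAB : A.subgroupOf B < ⊤ := lt_top_iff_ne_top.2 fun e => h.not_ge (subgroupOf_eq_top.1 e)
  have hn := Group.normalizerCondition_of_isNilpotent (G := B) _ hAB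
  obtain ⟨b, hb, hbA⟩ := SetLike.exists_of_lt hn
  refine hbA (mem_subgroupOf.2 (he.ge ⟨b.2, mem_normalizer_iff.2 fun a => ⟨fun ha => ?_, fun ha => ?_⟩⟩))
  · exact mem_subgroupOf.1 ((mem_normalizer_iff.1 hb ⟨a, h.le ha⟩).1 (mem_subgroupOf.2 ha))
  · have haB : a ∈ B := by
      have := B.mul_mem (B.mul_mem (B.inv_mem b.2) (h.le ha)) b.2
      simpa [mul_assoc] using this
    exact mem_subgroupOf.1 ((mem_normalizer_iff.1 hb ⟨a, haB⟩).2 (mem_subgroupOf.2 ha))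

namespace Ctx

variable {P : Subgroup G} {z : G}

theorem orderOf_z (h : Ctx P z) : orderOf z = 2 :=
  orderOf_eq_prime (by rw [pow_two, h.z2]) h.z1

theorem exists_sylow (h : Ctx P z) : ∃ S : Sylow 2 G, (S : Subgroup G) = P := by
  obtain ⟨S, hS⟩ := h.p2.exists_le_sylow
  refine ⟨S, (h.max.le_iff.1 hS).resolve_left fun ht => h.z1 ?_⟩
  have h2 : IsPGroup 2 (⊤ : Subgroup G) := ht ▸ S.2
  exact mem_bot.1 (h.core ⊤ inferInstance h2 ▸ mem_top z)

theorem le_conj (h : Ctx P z) {U : Subgroup G} (hU : IsPGroup 2 U) :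
    ∃ k : G, ∀ u ∈ U, k⁻¹ * u * k ∈ P := by
  haveI := two_fact
  obtain ⟨S, hS⟩ := h.exists_sylow
  obtain ⟨Q, hQ⟩ := hU.exists_le_sylow
  obtain ⟨k, hk⟩ := MulAction.exists_smul_eq G S Q
  refine ⟨k, fun u hu => ?_⟩
  have hu' : u ∈ ((k • S : Sylow 2 G) : Subgroup G) := hk.symm ▸ hQ hu
  rw [Sylow.coe_subgroup_smul, Subgroup.mem_pointwise_smul_iff_inv_smul_mem] at hu'
  rw [← hS]
  simpa [MulAut.smul_def, ← map_inv] using hu'

theorem normalizer_eq (h : Ctx P z) {U : Subgroup G} (hU : IsPGroup 2 U) (h1 : U ≠ ⊥)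
    (hle : P ≤ normalizer (U : Set G)) : normalizer (U : Set G) = P :=
  (h.max.le_iff.1 hle).resolve_left fun ht => h1 (h.core U (normalizer_eq_top_iff.1 ht) hU)

theorem normalizer_self (h : Ctx P z) : normalizer (P : Set G) = P :=
  h.normalizer_eq h.p2 (fun e => h.z1 (mem_bot.1 (e ▸ h.zP))) le_normalizer

theorem cent_central (h : Ctx P z) {t : G} (ht : t ∈ P) (h2 : t * t = 1) (h1 : t ≠ 1)
    (hc : ∀ p ∈ P, t * p = p * t) : centralizer ({t} : Set G) = P := by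
  refine (h.max.le_iff.1 fun p hp => mem_centralizer_singleton_iff.2 (hc p hp).symm).resolve_left fun e => h1 ?_
  have hn : (zpowers t).Normal := ⟨fun y hy g => by
    obtain ⟨i, rfl⟩ := mem_zpowers_iff.1 hy
    have hg : Commute g t := mem_centralizer_singleton_iff.1 (e ▸ mem_top g)
    rw [(hg.zpow_right i).eq, mul_inv_cancel_right]
    exact ⟨i, rfl⟩⟩
  have hp : IsPGroup 2 (zpowers t) := h.p2.to_le (zpowers_le.2 ht)
  exact mem_bot.1 (h.core _ hn hp ▸ mem_zpowers t)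

theorem cent_z (h : Ctx P z) : centralizer ({z} : Set G) = P :=
  h.cent_central h.zP h.z2 h.z1 h.zc

theorem mem_P_of_comm (h : Ctx P z) {x : G} (hx : x * z = z * x) : x ∈ P :=
  h.cent_z.le (mem_centralizer_singleton_iff.2 hx)

theorem mem_P_of_fix (h : Ctx P z) {x : G} (hx : x * z * x⁻¹ = z) : x ∈ P :=
  h.mem_P_of_comm (mul_inv_eq_iff_eq_mul.1 hx)

/-- The centralizer of `g z g⁻¹`. -/
theorem mem_cent_conj (h : Ctx P z) {g a : G} :
    a ∈ centralizer ({g * z * g⁻¹} : Set G) ↔ g⁻¹ * a * g ∈ P := by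
  rw [← h.cent_z, mem_centralizer_singleton_iff, mem_centralizer_singleton_iff]
  constructor
  · intro e
    calc g⁻¹ * a * g * z = g⁻¹ * (a * (g * z * g⁻¹)) * g := by group
      _ = g⁻¹ * ((g * z * g⁻¹) * a) * g := by rw [e]
      _ = z * (g⁻¹ * a * g) := by group
  · intro e
    calc a * (g * z * g⁻¹) = g * (g⁻¹ * a * g * z) * g⁻¹ := by group
      _ = g * (z * (g⁻¹ * a * g)) * g⁻¹ := by rw [e]
      _ = g * z * g⁻¹ * a := by group

theorem conj_isPGroup (h : Ctx P z) (g : G) : IsPGroup 2 (centralizer ({g * z * g⁻¹} : Set G)) := by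
  refine fun a => ?_
  obtain ⟨j, hj⟩ := h.p2 ⟨g⁻¹ * (a : G) * g, h.mem_cent_conj.1 a.2⟩
  refine ⟨j, Subtype.ext ?_⟩
  have hj' : (g⁻¹ * (a : G) * g) ^ 2 ^ j = 1 := by simpa using congrArg Subtype.val hj
  rw [show (g⁻¹ * (a : G) * g) = g⁻¹ * (a : G) * g⁻¹⁻¹ by rw [inv_inv], conj_pow] at hj'
  simpa using conj_eq_one_iff.1 hj'

/-- A central conjugate of `z` is `z`. -/
theorem eq_of_central (h : Ctx P z) {g : G} (hf : g * z * g⁻¹ ∈ P)
    (hc : ∀ p ∈ P, g * z * g⁻¹ * p = p * (g * z * g⁻¹)) : g * z * g⁻¹ = z := by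
  have h2 : g * z * g⁻¹ * (g * z * g⁻¹) = 1 := by
    rw [show g * z * g⁻¹ * (g * z * g⁻¹) = g * (z * z) * g⁻¹ by group, h.z2]; group
  have e := h.cent_central hf h2 (fun e => h.z1 (conj_eq_one_iff.1 e)) hc
  have hg : g ∈ normalizer (P : Set G) := mem_normalizer_iff.2 fun a => by
    conv_rhs => rw [← e]
    rw [h.mem_cent_conj, show g⁻¹ * (g * a * g⁻¹) * g = a by group]
  rw [h.normalizer_self] at hg
  rw [← h.zc g hg, mul_inv_cancel_right]

theorem conj_self (h : Ctx P z) {g : G} (hg : g * z * g⁻¹ = z) {a : G} :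
    g⁻¹ * a * g ∈ P ↔ a ∈ P := by
  have hgP := h.mem_P_of_fix hg
  exact ⟨fun ha => by simpa [mul_assoc] using P.mul_mem (P.mul_mem hgP ha) (P.inv_mem hgP),
    fun ha => P.mul_mem (P.mul_mem (P.inv_mem hgP) ha) hgP⟩

theorem card_lt (h : Ctx P z) {k : ℕ} (hk : Bound z k) {X S : Subgroup G} (hX : Member z X)
    (hS : S ≤ X) (hS2 : IsPGroup 2 S) : Nat.card S ≤ 2 ^ k := hk X hX S hS hS2

theorem cent_not_le (h : Ctx P z) {g : G} (hf : g * z * g⁻¹ ∈ P) (hne : g * z * g⁻¹ ≠ z) :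
    ¬ P ≤ centralizer ({g * z * g⁻¹} : Set G) ∧ ¬ centralizer ({g * z * g⁻¹} : Set G) ≤ P := by
  have hPQ : ¬ P ≤ centralizer ({g * z * g⁻¹} : Set G) := fun hle' =>
    hne (h.eq_of_central hf fun p hp => (mem_centralizer_singleton_iff.1 (hle' hp)).symm)
  refine ⟨hPQ, fun hle' => hPQ fun p hp => ?_⟩
  have hc : Nat.card P ≤ Nat.card (centralizer ({g * z * g⁻¹} : Set G)) := by
    refine Nat.card_le_card_of_injective (fun a : P => (⟨g * a * g⁻¹, h.mem_cent_conj.2 (by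
      rw [show g⁻¹ * (g * (a : G) * g⁻¹) * g = a by group]; exact a.2)⟩ :
        centralizer ({g * z * g⁻¹} : Set G))) fun a b e => ?_
    exact Subtype.ext (mul_left_cancel (mul_right_cancel (congrArg Subtype.val e)))
  exact (eq_of_le_of_card_ge hle' hc).ge hp

/-- A maximal intersection has a normalizer which is not a 2-group. -/
theorem normalizer_not_two (h : Ctx P z) {g : G} (hf : g * z * g⁻¹ ∈ P) (hne : g * z * g⁻¹ ≠ z)
    (hmax : ∀ a : G, a * z * a⁻¹ ∈ P → a * z * a⁻¹ ≠ z →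
      ¬ P ⊓ centralizer ({g * z * g⁻¹} : Set G) < P ⊓ centralizer ({a * z * a⁻¹} : Set G)) :
    ¬ IsPGroup 2 (normalizer ((P ⊓ centralizer ({g * z * g⁻¹} : Set G) : Subgroup G) : Set G)) := by
  haveI := two_fact
  set Q := centralizer ({g * z * g⁻¹} : Set G)
  set D := P ⊓ Q
  have hzD : z ∈ D := ⟨h.zP, mem_centralizer_singleton_iff.2 (h.zc _ hf)⟩
  obtain ⟨hPQ, hQP⟩ := h.cent_not_le hf hne
  have hN1 := lt_inf_normalizer h.p2 (lt_of_le_of_ne inf_le_left fun e => hPQ (inf_eq_left.1 e) : D < P)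
  have hN2 := lt_inf_normalizer (h.conj_isPGroup g)
    (lt_of_le_of_ne inf_le_right fun e => hQP (inf_eq_right.1 e) : D < Q)
  intro hN
  obtain ⟨a, ha⟩ := h.le_conj hN
  have hle' : ∀ y ∈ normalizer (D : Set G), y ∈ centralizer ({a * z * a⁻¹} : Set G) := fun y hy =>
    h.mem_cent_conj.2 (ha y hy)
  by_cases hz : a * z * a⁻¹ = z
  · exact hN2.not_ge fun y hy => ⟨(h.conj_self hz).1 (ha y hy.2), hy.1⟩
  · exact hmax a (h.mem_P_of_comm (mem_centralizer_singleton_iff.1 (hle' z (le_normalizer hzD))).symm)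
      hz (hN1.trans_le fun y hy => ⟨hy.1, hle' y hy.2⟩)

theorem two_mul_card_le {A B : Subgroup G} (hlt : A < B) : 2 * Nat.card A ≤ Nat.card B := by
  obtain ⟨c, hc⟩ := Subgroup.card_dvd_of_le hlt.le
  have hl := Set.Finite.card_lt_card (Set.toFinite _) (SetLike.coe_ssubset_coe.2 hlt)
  rw [SetLike.coe_sort_coe, SetLike.coe_sort_coe, hc] at hl
  rw [hc, mul_comm (Nat.card A) c]
  exact Nat.mul_le_mul_right _ (by rcases c with _ | _ | c <;> simp at hl ⊢)

/-- A conjugate of `z` in `P` different from `z` gives a member. -/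
theorem exists_member (h : Ctx P z) {g : G} (hf : g * z * g⁻¹ ∈ P) (hne : g * z * g⁻¹ ≠ z) :
    ∃ D : Subgroup G, P ⊓ centralizer ({g * z * g⁻¹} : Set G) ≤ D ∧ D < P ⊓ normalizer (D : Set G) ∧
      Member z (normalizer (D : Set G)) := by
  obtain ⟨g₁, ⟨hg₁, hne₁, hle⟩, hmax⟩ := Set.Finite.exists_maximalFor
    (fun a : G => Nat.card ↥(P ⊓ centralizer ({a * z * a⁻¹} : Set G)))
    {a | a * z * a⁻¹ ∈ P ∧ a * z * a⁻¹ ≠ z ∧
      P ⊓ centralizer ({g * z * g⁻¹} : Set G) ≤ P ⊓ centralizer ({a * z * a⁻¹} : Set G)}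
    (Set.toFinite _) ⟨g, hf, hne, le_rfl⟩
  refine ⟨_, hle, lt_inf_normalizer h.p2 (lt_of_le_of_ne inf_le_left fun e =>
    (h.cent_not_le hg₁ hne₁).1 (inf_eq_left.1 e)), h.normalizer_not_two hg₁ hne₁ ?_,
    _, h.p2.to_le inf_le_left, le_normalizer, le_rfl, 1,
    by simpa using (show z ∈ P ⊓ centralizer ({g₁ * z * g₁⁻¹} : Set G) from ⟨h.zP, mem_centralizer_singleton_iff.2 (h.zc _ hg₁)⟩)⟩
  intro a ha haz hlt
  have hl := Set.Finite.card_lt_card (Set.toFinite _) (SetLike.coe_ssubset_coe.2 hlt)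
  exact hl.not_ge (hmax ⟨ha, haz, hle.trans hlt.le⟩ hl.le)

/-- The basic bound for intersections. -/
theorem two_mul_inter (h : Ctx P z) {k : ℕ} (hk : Bound z k) {g : G} (hf : g * z * g⁻¹ ∈ P)
    (hne : g * z * g⁻¹ ≠ z) :
    2 * Nat.card ↥(P ⊓ centralizer ({g * z * g⁻¹} : Set G)) ≤ 2 ^ k := by
  obtain ⟨D, hle, hlt, hm⟩ := h.exists_member hf hne
  have h3 := h.card_lt hk hm inf_le_right (h.p2.to_le inf_le_left : IsPGroup 2 ↥(P ⊓ normalizer (D : Set G)))
  have h4 := two_mul_card_le hlt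
  have h5 := Nat.card_le_card_of_injective _ (Subgroup.inclusion_injective hle)
  omega

end Ctx

/-- The least bound is attained. -/
theorem exists_bound {z : G} (hm : ∃ X : Subgroup G, Member z X) :
    ∃ k : ℕ, Bound z k ∧ ∃ X S : Subgroup G, Member z X ∧ S ≤ X ∧ IsPGroup 2 S ∧ Nat.card S = 2 ^ k := by
  haveI := two_fact
  obtain ⟨X₀, hX₀⟩ := hm
  obtain ⟨S, ⟨X, hX, hSX, hS⟩, hmax⟩ := Set.Finite.exists_maximalFor (fun S : Subgroup G => Nat.card S)
    {S | ∃ X, Member z X ∧ S ≤ X ∧ IsPGroup 2 S} (Set.toFinite _) ⟨⊥, X₀, hX₀, bot_le, IsPGroup.of_bot⟩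
  obtain ⟨k, hk⟩ := IsPGroup.iff_card.1 hS
  refine ⟨k, fun X' hX' S' hS' hS'2 => ?_, X, S, hX, hSX, hS, hk⟩
  by_contra hlt
  push Not at hlt
  rw [← hk] at hlt
  exact hlt.not_ge (hmax ⟨X', hX', hS', hS'2⟩ hlt.le)

end CfsgLib.MaxTwo
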