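import Cfsg.Agent.MaxTwo.Basic

/-!
# Members with 2-subgroups of largest order
-/

set_option autoImplicit false
set_option linter.style.haveILetI false
set_option linter.unusedSectionVars false

namespace CfsgLib.MaxTwo

open Subgroup

universe u

variable {G : Type u} [Group G] [Finite G]

/-- A member in standard position. -/
structure Std (P : Subgroup G) (z : G) (k : ℕ) (X R : Subgroup G) : Prop where
  RX : R ≤ X
  RP : R ≤ P
  zR : z ∈ R
  nR : X ≤ normalizer (R : Set G)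
  non : ¬ IsPGroup 2 X
  card : Nat.card ↥(X ⊓ P) = 2 ^ k

/-- A standard member with the largest `R` and, for that, the smallest `X`. -/
structure Best (P : Subgroup G) (z : G) (k : ℕ) (X R : Subgroup G) : Prop extends Std P z k X R where
  rmax : ∀ X' R' : Subgroup G, Std P z k X' R' → Nat.card R' ≤ Nat.card R
  xmin : ∀ X' : Subgroup G, Std P z k X' R → X' ≤ X → X' = X

variable {P : Subgroup G} {z : G} {k : ℕ} {X R : Subgroup G}

theorem exists_best (hs : ∃ X R : Subgroup G, Std P z k X R) :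
    ∃ X R : Subgroup G, Best P z k X R := by
  obtain ⟨X₁, R₁, h₁⟩ := hs
  obtain ⟨R, ⟨X₀, hX₀⟩, hR⟩ := Set.Finite.exists_maximalFor (fun R : Subgroup G => Nat.card R)
    {R | ∃ X, Std P z k X R} (Set.toFinite _) ⟨R₁, X₁, h₁⟩
  obtain ⟨X, hX, hXmin⟩ := Set.Finite.exists_minimalFor id {X | Std P z k X R} (Set.toFinite _) ⟨X₀, hX₀⟩
  refine ⟨X, R, hX, fun X' R' h' => ?_, fun X' h' hle => le_antisymm hle (hXmin h' hle)⟩
  by_contra hlt
  push Not at hlt
  exact hlt.not_ge (hR ⟨X', h'⟩ hlt.le)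

theorem Std.member (s : Std P z k X R) (hp : IsPGroup 2 P) : Member z X :=
  ⟨s.non, R, hp.to_le s.RP, s.RX, s.nR, 1, by simpa using s.zR⟩

theorem member_normalizer {z : G} {X R : Subgroup G} (hX : ¬ IsPGroup 2 X) (hle : X ≤ normalizer (R : Set G))
    (hR : IsPGroup 2 R) (hz : z ∈ R) : Member z (normalizer (R : Set G)) :=
  ⟨fun hn => hX (hn.to_le hle), R, hR, le_normalizer, le_rfl, 1, by simpa using hz⟩

theorem sup_inf_eq_of_le {A B C : Subgroup G} (h₁ : A ≤ C) (h₂ : B ≤ A) : B ⊔ A = A := sup_eq_right.2 h₂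

/-- Moving a member into standard position. -/
theorem exists_std (h : Ctx P z) (hk : Bound z k) {X S : Subgroup G} (hX : Member z X) (hSX : S ≤ X)
    (hS : IsPGroup 2 S) (hcard : Nat.card S = 2 ^ k) : ∃ X R : Subgroup G, Std P z k X R := by
  haveI := two_fact
  obtain ⟨a, ha⟩ := h.le_conj hS
  set φ : G →* G := (MulAut.conj a⁻¹).toMonoidHom with hφdef
  have hφi : Function.Injective φ := (MulAut.conj a⁻¹).injective
  have hφ : ∀ y, φ y = a⁻¹ * y * a := fun y => by simp [hφdef]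
  obtain ⟨hnon, R, hR, hRX, hXR, g, hg⟩ := hX
  set X' := X.map φ with hX'
  set R' := R.map φ with hR'
  set S' := S.map φ with hS'
  have hS'P : S' ≤ P := by
    rintro _ ⟨y, hy, rfl⟩
    rw [hφ]; exact ha y hy
  have hS'card : Nat.card S' = 2 ^ k := (card_map_of_injective hφi).trans hcard
  have hR'2 : IsPGroup 2 R' := hR.map φ
  have hR'X' : R' ≤ X' := map_mono hRX
  have hnorm : X' ≤ normalizer (R' : Set G) := by
    rintro _ ⟨y, hy, rfl⟩
    exact le_normalizer_map φ ⟨y, hXR hy, rfl⟩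
  have hnon' : ¬ IsPGroup 2 X' := fun hp => hnon (hp.comap_of_injective φ hφi |>.to_le (le_comap_map φ X))
  have hg' : φ g * φ z * (φ g)⁻¹ ∈ R' := ⟨_, hg, by rw [map_mul, map_mul, map_inv]⟩
  obtain ⟨g', hg'⟩ : ∃ g', g' * z * g'⁻¹ ∈ R' := ⟨a⁻¹ * g, by
    convert hg' using 1; simp only [hφ]; group⟩
  have hmem' : Member z X' := ⟨hnon', R', hR'2, hR'X', hnorm, g', hg'⟩
  have hsup : S' ⊔ R' = S' := by
    refine (eq_of_le_of_card_ge le_sup_left ?_).symm
    rw [hS'card]
    exact h.card_lt hk hmem' (_root_.sup_le (map_mono hSX) hR'X')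
      ((hS.map φ).to_sup_of_normal_right' hR'2 ((map_mono hSX).trans hnorm))
  have hR'P : R' ≤ P := (hsup ▸ le_sup_right : R' ≤ S').trans hS'P
  have hR'ne : R' ≤ normalizer (R' : Set G) := le_normalizer
  -- `z` normalizes `R'` and lies in `S'`
  have hzN : zpowers z ≤ normalizer (R' : Set G) := zpowers_le.2 (mem_normalizer_iff.2 fun y =>
    ⟨fun hy => by rw [h.zc y (hR'P hy), mul_inv_cancel_right]; exact hy, fun hy => by
      have hyP : y ∈ P := by
        have := P.mul_mem (P.mul_mem (P.inv_mem h.zP) (hR'P hy)) h.zP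
        simpa [mul_assoc] using this
      rwa [h.zc y hyP, mul_inv_cancel_right] at hy⟩)
  have hzS : z ∈ S' := by
    set M : Subgroup G := normalizer (R' : Set G)
    have hM : Member z M := ⟨fun hn => hnon' (hn.to_le hnorm), R', hR'2, le_normalizer, le_rfl, g', hg'⟩
    have h1 : Nat.card ↥(S' ⊔ zpowers z) ≤ 2 ^ k := h.card_lt hk hM
      (_root_.sup_le ((map_mono hSX).trans hnorm) hzN) (h.p2.to_le (_root_.sup_le hS'P (zpowers_le.2 h.zP)))
    rw [← hS'card] at h1
    exact (eq_of_le_of_card_ge le_sup_left h1).ge (mem_sup_right (mem_zpowers z))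
  -- the kernel of the action on `R'`
  set C := X' ⊓ centralizer (R' : Set G) with hC
  have hC2 : IsPGroup 2 C := (h.conj_isPGroup g').to_le fun c hc =>
    mem_centralizer_singleton_iff.2 (mem_centralizer_iff.1 hc.2 _ hg').symm
  have hCn : X' ≤ normalizer (C : Set G) := by
    intro y hy
    refine mem_normalizer_iff.2 fun c => ?_
    have key : ∀ y ∈ X', ∀ c ∈ C, y * c * y⁻¹ ∈ C := fun y hy c hc => ⟨X'.mul_mem (X'.mul_mem hy hc.1) (X'.inv_mem hy),
      mem_centralizer_iff.2 fun r hr => by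
        have h1 : y⁻¹ * r * y ∈ R' := by
          simpa using (mem_normalizer_iff.1 (hnorm (X'.inv_mem hy)) r).1 hr
        have h2 := mem_centralizer_iff.1 hc.2 _ h1
        calc r * (y * c * y⁻¹) = y * ((y⁻¹ * r * y) * c) * y⁻¹ := by group
          _ = y * (c * (y⁻¹ * r * y)) * y⁻¹ := by rw [h2]
          _ = y * c * y⁻¹ * r := by group⟩
    exact ⟨fun hc => key y hy c hc, fun hc => by
      have := key y⁻¹ (X'.inv_mem hy) _ hc
      simpa [mul_assoc] using this⟩
  set R'' := R' ⊔ C with hR''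
  have hR''2 : IsPGroup 2 R'' := hR'2.to_sup_of_normal_right' hC2 (hR'X'.trans hCn)
  have hR''X : R'' ≤ X' := _root_.sup_le hR'X' inf_le_left
  have hnR'' : X' ≤ normalizer (R'' : Set G) := by
    intro y hy
    refine mem_normalizer_iff_map_conj_eq.2 ?_
    rw [hR'', Subgroup.map_sup, mem_normalizer_iff_map_conj_eq.1 (hnorm hy),
      mem_normalizer_iff_map_conj_eq.1 (hCn hy)]
  have hsup2 : S' ⊔ R'' = S' := by
    refine (eq_of_le_of_card_ge le_sup_left ?_).symm
    rw [hS'card]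
    exact h.card_lt hk hmem' (_root_.sup_le (map_mono hSX) hR''X)
      ((hS.map φ).to_sup_of_normal_right' hR''2 ((map_mono hSX).trans hnR''))
  have hR''P : R'' ≤ P := (hsup2 ▸ le_sup_right : R'' ≤ S').trans hS'P
  refine ⟨X', R'', hR''X, hR''P, mem_sup_right ⟨map_mono hSX hzS, mem_centralizer_iff.2 fun y hy =>
    (h.zc y (hR'P hy)).symm⟩, hnR'', hnon', le_antisymm ?_ ?_⟩
  · exact h.card_lt hk hmem' inf_le_left (h.p2.to_le inf_le_right)
  · rw [← hS'card]
    exact Nat.card_le_card_of_injective _ (inclusion_injective (le_inf (map_mono hSX) hS'P))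

namespace Best

theorem zX (b : Best P z k X R) : z ∈ X ⊓ P := ⟨b.RX b.zR, b.RP b.zR⟩

theorem lt_top (h : Ctx P z) (b : Best P z k X R) : ¬ P ≤ X := fun hle => by
  rcases h.max.le_iff.1 hle with e | e
  · have hN : R.Normal := normalizer_eq_top_iff.1 (top_le_iff.1 (e ▸ b.nR))
    exact h.z1 (mem_bot.1 (h.core R hN (h.p2.to_le b.RP) ▸ b.zR))
  · exact b.non (e ▸ h.p2)

theorem T_lt_P (h : Ctx P z) (b : Best P z k X R) : X ⊓ P < P :=
  lt_of_le_of_ne inf_le_right fun e => b.lt_top h (inf_eq_right.1 e)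

/-- No member has a larger 2-subgroup; in particular `R` is not normalized beyond `X ⊓ P`. -/
theorem normalizer_R (h : Ctx P z) (hk : Bound z k) (b : Best P z k X R) :
    P ⊓ normalizer (R : Set G) = X ⊓ P := by
  refine (eq_of_le_of_card_ge (le_inf inf_le_right (inf_le_left.trans b.nR)) ?_).symm
  rw [b.card]
  exact h.card_lt hk (member_normalizer b.non b.nR (h.p2.to_le b.RP) b.zR) inf_le_right
    (h.p2.to_le inf_le_left)

/-- The Sylow 2-subgroup is not normal. -/
theorem not_normalizes (h : Ctx P z) (hk : Bound z k) (b : Best P z k X R) :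
    ¬ X ≤ normalizer ((X ⊓ P : Subgroup G) : Set G) := fun hle => by
  have h1 := h.card_lt hk (member_normalizer b.non hle (h.p2.to_le inf_le_right) b.zX) inf_le_right
    (h.p2.to_le inf_le_left : IsPGroup 2 ↥(P ⊓ normalizer ((X ⊓ P : Subgroup G) : Set G)))
  have hlt := lt_inf_normalizer h.p2 (b.T_lt_P h)
  have h2 := Set.Finite.card_lt_card (Set.toFinite _) (SetLike.coe_ssubset_coe.2 hlt)
  simp only [SetLike.coe_sort_coe] at h2
  have := b.card
  omega

theorem le_R (h : Ctx P z) (hk : Bound z k) (b : Best P z k X R) {N : Subgroup G} (hNX : N ≤ X)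
    (hN : IsPGroup 2 N) (hn : X ≤ normalizer (N : Set G)) : N ≤ R := by
  haveI := two_fact
  have hT : IsPGroup 2 ↥(X ⊓ P) := h.p2.to_le inf_le_right
  have hsup : (X ⊓ P) ⊔ N = X ⊓ P := by
    refine (eq_of_le_of_card_ge le_sup_left ?_).symm
    rw [b.card]
    exact h.card_lt hk (b.member h.p2) (_root_.sup_le inf_le_left hNX)
      (hT.to_sup_of_normal_right' hN (inf_le_left.trans hn))
  have hNP : N ≤ P := (hsup ▸ le_sup_right : N ≤ X ⊓ P).trans inf_le_right
  have hs : Std P z k X (R ⊔ N) := ⟨_root_.sup_le b.RX hNX, _root_.sup_le b.RP hNP, mem_sup_left b.zR,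
    fun y hy => mem_normalizer_iff_map_conj_eq.2 (by
      rw [Subgroup.map_sup, mem_normalizer_iff_map_conj_eq.1 (b.nR hy),
        mem_normalizer_iff_map_conj_eq.1 (hn hy)]), b.non, b.card⟩
  exact (eq_of_le_of_card_ge le_sup_left (b.rmax _ _ hs)).ge.trans' le_sup_right

theorem R_lt (h : Ctx P z) (hk : Bound z k) (b : Best P z k X R) : R < X ⊓ P :=
  lt_of_le_of_ne (le_inf b.RX b.RP) fun e => b.not_normalizes h hk (e ▸ b.nR)

theorem maximal (h : Ctx P z) (hk : Bound z k) (b : Best P z k X R) {Y : Subgroup G} (h1 : X ⊓ P ≤ Y)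
    (h2 : Y ≤ X) : Y = X ⊓ P ∨ Y = X := by
  by_cases hY : IsPGroup 2 Y
  · refine Or.inl (eq_of_le_of_card_ge h1 ?_).symm
    rw [b.card]
    exact h.card_lt hk (b.member h.p2) h2 hY
  · refine Or.inr (b.xmin Y ⟨(le_inf b.RX b.RP).trans h1, b.RP, b.zR, h2.trans b.nR, hY, ?_⟩ h2)
    rw [show Y ⊓ P = X ⊓ P from le_antisymm (inf_le_inf_right _ h2) (le_inf h1 inf_le_right), b.card]

theorem mem_P_iff (b : Best P z k X R) {x : G} (hx : x ∈ X) : x ∈ X ⊓ P ↔ x ∈ P :=
  ⟨fun h => h.2, fun h => ⟨hx, h⟩⟩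

theorem exists_odd (h : Ctx P z) (b : Best P z k X R) : ∃ x ∈ X, x ∉ P ∧ Odd (orderOf x) := by
  obtain ⟨x, hx, h1, ho⟩ := exists_odd_element b.non
  exact ⟨x, hx, fun hP => not_two_group hP h1 ho h.p2, ho⟩

theorem f_ne (h : Ctx P z) {x : G} (hxP : x ∉ P) : x * z * x⁻¹ ≠ z := fun e => hxP (h.mem_P_of_fix e)

theorem f_mem (b : Best P z k X R) {x : G} (hx : x ∈ X) : x * z * x⁻¹ ∈ R :=
  (mem_normalizer_iff.1 (b.nR hx) z).1 b.zR

theorem f_central (h : Ctx P z) (b : Best P z k X R) {x : G} (hx : x ∈ X) {r : G} (hr : r ∈ R) :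
    x * z * x⁻¹ * r = r * (x * z * x⁻¹) := by
  have hr' : x⁻¹ * r * x ∈ P := b.RP (by
    simpa using (mem_normalizer_iff.1 (b.nR (X.inv_mem hx)) r).1 hr)
  exact (mem_centralizer_singleton_iff.1 (h.mem_cent_conj.2 hr')).symm

theorem centralizer_R (h : Ctx P z) (hk : Bound z k) (b : Best P z k X R) :
    P ⊓ centralizer (R : Set G) ≤ R := by
  intro c hc
  have hcX : c ∈ X := by
    have : c ∈ P ⊓ normalizer (R : Set G) := ⟨hc.1, centralizer_le_normalizer _ hc.2⟩
    rw [b.normalizer_R h hk] at this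
    exact this.1
  refine b.le_R h hk (N := X ⊓ centralizer (R : Set G)) inf_le_left ?_ ?_ ⟨hcX, hc.2⟩
  · exact h.p2.to_le fun y hy => h.mem_P_of_comm (mem_centralizer_iff.1 hy.2 z b.zR).symm
  · intro y hy
    refine mem_normalizer_iff_map_conj_eq.2 (eq_of_le_of_card_ge ?_ ?_)
    · rintro _ ⟨a, ha, rfl⟩
      refine ⟨X.mul_mem (X.mul_mem hy ha.1) (X.inv_mem hy), mem_centralizer_iff.2 fun r hr => ?_⟩
      have h1 : y⁻¹ * r * y ∈ R := by simpa using (mem_normalizer_iff.1 (b.nR (X.inv_mem hy)) r).1 hr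
      have h2 := mem_centralizer_iff.1 ha.2 _ h1
      show r * (y * a * y⁻¹) = y * a * y⁻¹ * r
      calc r * (y * a * y⁻¹) = y * ((y⁻¹ * r * y) * a) * y⁻¹ := by group
        _ = y * (a * (y⁻¹ * r * y)) * y⁻¹ := by rw [h2]
        _ = y * a * y⁻¹ * r := by group
    · exact (card_map_of_injective (MulAut.conj y).injective).ge

end Best

end CfsgLib.MaxTwo
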