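import Mathlib.GroupTheory.Sylow
import Mathlib.Order.Fin.Basic

/-!
# Chains through a 2-subgroup
-/

set_option autoImplicit false

namespace CfsgLib.MaxTwo

universe u

variable {G : Type u} [Group G] [Finite G]

theorem exists_two_chain : ∀ (n : ℕ) (S : Subgroup G), Nat.card S = 2 ^ n →
    ∃ c : Fin (n + 1) → Subgroup G, StrictMono c ∧ c (Fin.last n) = S := by
  haveI : Fact (Nat.Prime 2) := ⟨Nat.prime_two⟩
  intro n
  induction n with
  | zero => exact fun S _ => ⟨fun _ => S, Subsingleton.strictMono (f := fun _ : Fin 1 => S), rfl⟩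
  | succ n ih =>
    intro S hS
    obtain ⟨K, hK, -⟩ := Sylow.exists_subgroup_card_pow_prime_le (G := S) 2 (m := n)
      (hS ▸ dvd_pow_self_pow n) ⊥ (n := 0) (by simp) (Nat.zero_le n)
    have hK' : Nat.card (K.map S.subtype) = 2 ^ n := by
      rw [Subgroup.card_map_of_injective S.subtype_injective, hK]
    obtain ⟨c, hc, hlast⟩ := ih _ hK'
    refine ⟨Fin.snoc c S, Fin.strictMono_iff_lt_succ.2 fun i => ?_, Fin.snoc_last _ _⟩
    rw [Fin.snoc_castSucc]
    rcases Fin.eq_castSucc_or_eq_last i.succ with ⟨j, hj⟩ | hj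
    · rw [hj, Fin.snoc_castSucc]
      exact hc (by
        have := congrArg Fin.val hj
        simp only [Fin.val_succ, Fin.val_castSucc] at this
        exact Fin.lt_def.2 (by omega))
    · rw [hj, Fin.snoc_last]
      have : i = Fin.last n := Fin.ext (by
        have := congrArg Fin.val hj
        simp only [Fin.val_succ, Fin.val_last] at this ⊢
        omega)
      rw [this, hlast]
      refine lt_of_le_of_ne (Subgroup.map_subtype_le _) fun e => ?_
      rw [e, hS] at hK'
      have := Nat.pow_right_injective le_rfl hK'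
      omega
where
  dvd_pow_self_pow (n : ℕ) : 2 ^ n ∣ 2 ^ (n + 1) := pow_dvd_pow 2 (Nat.le_succ n)

/-- No ten-term chain. -/
def NoLongChain (G : Type u) [Group G] : Prop := ∀ c : Fin 10 → Subgroup G, ¬ StrictMono c

theorem noLongChain_of_anti (h : ∀ c : Fin 10 → Subgroup G, ¬ StrictAnti c) : NoLongChain G :=
  fun c hc => h (fun i => c i.rev) fun _ _ hab => hc (Fin.rev_lt_rev.2 hab)

theorem false_of_chain_sixty_four (h : NoLongChain G) {S A B C : Subgroup G} (hS : Nat.card S = 2 ^ 6)
    (h1 : S < A) (h2 : A < B) (h3 : B < C) : False := by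
  obtain ⟨c, hc, hlast⟩ := exists_two_chain 6 S hS
  refine h (Fin.snoc (Fin.snoc (Fin.snoc c A) B) C) (Fin.strictMono_iff_lt_succ.2 fun i => ?_)
  have hlast' : c 6 = S := hlast
  fin_cases i <;> simp [Fin.snoc, hlast', h1, h2, h3]
  all_goals first
    | (refine hc ?_; decide)
    | exact lt_of_eq_of_lt hlast h1

theorem false_of_chain_thirty_two (h : NoLongChain G) {S A B C D : Subgroup G} (hS : Nat.card S = 2 ^ 5)
    (h1 : S < A) (h2 : A < B) (h3 : B < C) (h4 : C < D) : False := by
  obtain ⟨c, hc, hlast⟩ := exists_two_chain 5 S hS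
  refine h (Fin.snoc (Fin.snoc (Fin.snoc (Fin.snoc c A) B) C) D) (Fin.strictMono_iff_lt_succ.2 fun i => ?_)
  have hlast' : c 5 = S := hlast
  fin_cases i <;> simp [Fin.snoc, hlast', h1, h2, h3, h4]
  all_goals first
    | (refine hc ?_; decide)
    | exact lt_of_eq_of_lt hlast h1

end CfsgLib.MaxTwo

namespace CfsgLib.MaxTwo

universe v

theorem false_of_chain_128 {G : Type v} [Group G] [Finite G] (h : NoLongChain G) {S A B : Subgroup G}
    (hS : Nat.card S = 2 ^ 7) (h1 : S < A) (h2 : A < B) : False := by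
  obtain ⟨c, hc, hlast⟩ := exists_two_chain 7 S hS
  refine h (Fin.snoc (Fin.snoc c A) B) (Fin.strictMono_iff_lt_succ.2 fun i => ?_)
  have hlast' : c 7 = S := hlast
  fin_cases i <;> simp [Fin.snoc, h2]
  all_goals first
    | (refine hc ?_; decide)
    | exact lt_of_eq_of_lt hlast h1

end CfsgLib.MaxTwo
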