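import Cfsg.Agent.MaxTwo.Frame
import Cfsg.Agent.Solvable.Basics
import Cfsg.Agent.Grun.First
import Mathlib.RingTheory.Coprime.Lemmas
import Mathlib.Tactic.Linarith

/-!
# The focal subgroup is small
-/

set_option autoImplicit false
set_option linter.style.haveILetI false
set_option linter.unusedSectionVars false

namespace CfsgLib.MaxTwo

open Subgroup
open scoped commutatorElement

universe u

variable {G : Type u} [Group G] [Finite G] {P E : Subgroup G} {z f : G}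

/-- Generators of `P` adapted to the elementary group `E`. -/
structure Gens (P E : Subgroup G) (z f u p c : G) (i : ℤ) : Prop where
  gen : zpowers c = ⁅P, P⁆
  four : 4 ∣ orderOf c
  zc : ∃ t : ℤ, z = c ^ (2 * t)
  pP : p ∈ P
  pf : p * f * p⁻¹ = f * c
  pc : p * c * p⁻¹ = c ^ i
  i4 : i % 4 = 1
  uE : u ∈ E
  uout : u ∉ ⁅P, P⁆
  uc : u * c = c * u
  up : u * p = z * (p * u)
  full : ∀ q ∈ P, ∃ (r : ℤ) (w : G), (w = 1 ∨ w = u ∨ w = f ∨ w = f * u) ∧
    (q = c ^ r * w ∨ q = p * (c ^ r * w))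

theorem four_dvd_of_zpow_eq {c : G} (hc : 4 ∣ orderOf c) {a b : ℤ} (h : c ^ a = c ^ b) :
    (4 : ℤ) ∣ a - b :=
  (Int.natCast_dvd_natCast.2 hc).trans (orderOf_dvd_iff_zpow_eq_one.2 (by rw [zpow_sub, h, mul_inv_cancel]))

theorem conj_f_zpow {c : G} (hf2 : f * f = 1) (hinv : f * c * f = c⁻¹) (r : ℤ) :
    f * c ^ r * f = (c ^ r)⁻¹ := by
  have h1 : f⁻¹ = f := inv_eq_of_mul_eq_one_right hf2
  calc f * c ^ r * f = f * c ^ r * f⁻¹ := by rw [h1]
    _ = (f * c * f⁻¹) ^ r := conj_zpow.symm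
    _ = (c ^ r)⁻¹ := by rw [h1, hinv, inv_zpow]

namespace EightData

theorem exists_gens (h : Ctx P z) (d : EightData P z f E) (h32 : 32 ≤ Nat.card P) :
    ∃ (u p c : G) (i : ℤ), Gens P E z f u p c i := by
  classical
  haveI := two_fact
  obtain ⟨c, hgen, h4⟩ := d.derived_cyclic h h32
  obtain ⟨horb, hcard⟩ := d.orbit h h32
  obtain ⟨hzD, hint⟩ := d.inter h h32
  have hcD : c ∈ ⁅P, P⁆ := hgen ▸ mem_zpowers c
  have hcP : c ∈ P := commutator_le_self P hcD
  have hinv : f * c * f = c⁻¹ := d.inverts h h32 hcD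
  have hzc : ∀ r : ℤ, f * c ^ r * f = (c ^ r)⁻¹ := conj_f_zpow d.f_sq hinv
  have hcc : ∀ r : ℤ, c ^ r * f * (c ^ r)⁻¹ = f * c ^ (-(2 * r)) := fun r => by
    calc c ^ r * f * (c ^ r)⁻¹ = f * (f * c ^ r * f) * (c ^ r)⁻¹ := by
          simp only [← mul_assoc, d.f_sq, one_mul]
      _ = f * c ^ (-(2 * r)) := by rw [hzc, mul_assoc, ← zpow_neg, ← zpow_add, ← neg_add, ← two_mul]
  obtain ⟨t, ht⟩ : ∃ t : ℤ, z = c ^ (2 * t) := by
    obtain ⟨e, he⟩ := mem_zpowers_iff.1 (hgen ▸ hzD : z ∈ zpowers c)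
    have h1 : c ^ (e * 2) = c ^ (0 : ℤ) := by rw [zpow_mul, he, zpow_zero, zpow_two, h.z2]
    have h2 := four_dvd_of_zpow_eq h4 h1
    exact ⟨e / 2, by rw [Int.mul_ediv_cancel' (by omega), he]⟩
  obtain ⟨p₀, hp₀, hpf₀⟩ := horb c hcD
  have hnorm : ∀ q ∈ P, ∃ j : ℤ, q * c * q⁻¹ = c ^ j := fun q hq => by
    have : q * c * q⁻¹ ∈ ⁅P, P⁆ := by
      have hc' := commutator_mem_commutator (H₁ := P) (H₂ := P) hq hcP
      rw [commutatorElement_def] at hc'
      simpa [mul_assoc] using (⁅P, P⁆).mul_mem hc' hcD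
    obtain ⟨j, hj⟩ := mem_zpowers_iff.1 (hgen ▸ this : q * c * q⁻¹ ∈ zpowers c)
    exact ⟨j, hj.symm⟩
  -- the involution centralizing the derived group
  have hf1 := d.f_ne_one h
  obtain ⟨F, hF4, hzF, hfF, hFmem, -⟩ := exists_four h.z2 d.f_sq h.z1 hf1 (Ne.symm d.fne) (h.zc f d.fP)
  have hFE : F ≤ E := fun v hv => by
    rcases (hFmem v).1 hv with rfl | rfl | rfl | rfl
    exacts [E.one_mem, d.zE, d.fE, E.mul_mem d.zE d.fE]
  obtain ⟨u₀, hu₀, hu₀F⟩ : ∃ u₀ ∈ E, u₀ ∉ F := SetLike.not_le_iff_exists.1 fun hle => by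
    have := Nat.card_le_card_of_injective _ (inclusion_injective hle)
    rw [hF4, d.card] at this
    omega
  obtain ⟨u, hu, huF, huc⟩ : ∃ u ∈ E, u ∉ F ∧ u * c = c * u := by
    obtain ⟨j, hj⟩ := hnorm u₀ (d.EP hu₀)
    obtain ⟨l, hl⟩ : ∃ l : ℤ, u₀ * p₀ * u₀⁻¹ * p₀⁻¹ = c ^ l := by
      have := commutator_mem_commutator (H₁ := P) (H₂ := P) (d.EP hu₀) hp₀
      rw [commutatorElement_def] at this
      obtain ⟨l, hl⟩ := mem_zpowers_iff.1 (hgen ▸ this : _ ∈ zpowers c)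
      exact ⟨l, hl.symm⟩
    have hl' : u₀ * p₀ * u₀⁻¹ = c ^ l * p₀ := mul_inv_eq_iff_eq_mul.1 hl
    have hu0f : u₀ * f * u₀⁻¹ = f := by rw [d.comm _ hu₀ _ d.fE, mul_inv_cancel_right]
    have e1 : c ^ j = c ^ (1 - 2 * l) := by
      refine mul_left_cancel (a := f) ?_
      calc f * c ^ j = (u₀ * f * u₀⁻¹) * (u₀ * c * u₀⁻¹) := by rw [hu0f, hj]
        _ = u₀ * (p₀ * f * p₀⁻¹) * u₀⁻¹ := by rw [hpf₀]; group
        _ = (u₀ * p₀ * u₀⁻¹) * (u₀ * f * u₀⁻¹) * (u₀ * p₀ * u₀⁻¹)⁻¹ := by group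
        _ = c ^ l * f * (c ^ l)⁻¹ * ((c ^ l) * c * (c ^ l)⁻¹) := by rw [hl', hu0f]; rw [show c ^ l * p₀ * f * (c ^ l * p₀)⁻¹ = c ^ l * (p₀ * f * p₀⁻¹) * (c ^ l)⁻¹ by group, hpf₀]; group
        _ = f * c ^ (1 - 2 * l) := by
          rw [hcc, show c ^ l * c * (c ^ l)⁻¹ = c by group, mul_assoc, ← zpow_add_one]
          congr 2; ring
    have e2 : c ^ (l * (2 - 2 * l)) = 1 := by
      have h2 : u₀⁻¹ = u₀ := inv_eq_of_mul_eq_one_right (d.sq _ hu₀)
      have : u₀ * (c ^ l * p₀) * u₀⁻¹ = p₀ := by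
        rw [← hl', h2]; simp only [mul_assoc, d.sq _ hu₀, mul_one]
        rw [← mul_assoc, d.sq _ hu₀, one_mul]
      rw [show u₀ * (c ^ l * p₀) * u₀⁻¹ = (u₀ * c ^ l * u₀⁻¹) * (u₀ * p₀ * u₀⁻¹) by group, hl',
        ← conj_zpow, hj, e1, ← zpow_mul, ← mul_assoc, ← zpow_add] at this
      rw [show l * (2 - 2 * l) = (1 - 2 * l) * l + l by ring]
      simpa using this
    obtain ⟨m, hm⟩ : ∃ m : ℕ, orderOf c = 2 ^ m := by
      obtain ⟨m, hm⟩ := IsPGroup.iff_orderOf.1 h.p2 ⟨c, hcP⟩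
      exact ⟨m, by rw [← hm, Subgroup.orderOf_mk]⟩
    have e3 : (orderOf c : ℤ) ∣ l * (2 - 2 * l) := orderOf_dvd_iff_zpow_eq_one.2 e2
    rcases Int.even_or_odd l with ⟨s, hs⟩ | ⟨s, hs⟩
    · refine ⟨u₀, hu₀, hu₀F, mul_inv_eq_iff_eq_mul.1 ?_⟩
      have hco : IsCoprime (orderOf c : ℤ) (1 - l) := by
        rw [hm]; push_cast
        exact IsCoprime.pow_left ⟨s, 1, by rw [hs]; ring⟩
      have h3 : (orderOf c : ℤ) ∣ 2 * l := hco.dvd_of_dvd_mul_right
        (by rwa [show 2 * l * (1 - l) = l * (2 - 2 * l) by ring])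
      rw [hj, e1, zpow_sub, zpow_one, orderOf_dvd_iff_zpow_eq_one.1 h3, inv_one, mul_one]
    · refine ⟨u₀ * f, E.mul_mem hu₀ d.fE, fun hh => hu₀F ((F.mul_mem_cancel_right hfF).1 hh), ?_⟩
      have hco : IsCoprime (orderOf c : ℤ) l := by
        rw [hm]; push_cast
        exact IsCoprime.pow_left ⟨-s, 1, by rw [hs]; ring⟩
      have h3 : (orderOf c : ℤ) ∣ 2 - 2 * l := hco.dvd_of_dvd_mul_left e3
      have e4 : u₀ * c * u₀⁻¹ = c⁻¹ := by
        rw [hj, e1, show (1 - 2 * l) = (2 - 2 * l) + -1 by ring, zpow_add,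
          orderOf_dvd_iff_zpow_eq_one.1 h3, one_mul, zpow_neg_one]
      refine mul_inv_eq_iff_eq_mul.1 ?_
      rw [show u₀ * f * c * (u₀ * f)⁻¹ = u₀ * (f * c * f⁻¹) * u₀⁻¹ by group, d.f_inv, hinv,
        show u₀ * c⁻¹ * u₀⁻¹ = (u₀ * c * u₀⁻¹)⁻¹ by group, e4, inv_inv]
  have hu1 : u ≠ 1 := fun e => huF (e ▸ F.one_mem)
  have huP' : u ∉ ⁅P, P⁆ := fun hh => by
    rcases hint u hu hh with e | e
    · exact hu1 e
    · exact huF (e ▸ hzF)
  have hEcases : ∀ e ∈ E, ∃ (a : ℤ) (w : G), (w = 1 ∨ w = u ∨ w = f ∨ w = f * u) ∧ e = c ^ a * w := by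
    have h2 : (F.subgroupOf E).index = 2 := by
      have := (F.subgroupOf E).index_mul_card
      rw [Nat.card_congr (subgroupOfEquivOfLe hFE).toEquiv, hF4, d.card] at this
      omega
    have hF' : ∀ v ∈ F, ∃ (a : ℤ) (w : G), (w = 1 ∨ w = f) ∧ v = c ^ a * w := fun v hv => by
      rcases (hFmem v).1 hv with rfl | rfl | rfl | rfl
      · exact ⟨0, 1, Or.inl rfl, by simp⟩
      · exact ⟨2 * t, 1, Or.inl rfl, by rw [mul_one, ← ht]⟩
      · exact ⟨0, v, Or.inr rfl, by simp⟩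
      · exact ⟨2 * t, f, Or.inr rfl, by rw [← ht]⟩
    intro e he
    by_cases heF : e ∈ F
    · obtain ⟨a, w, hw, rfl⟩ := hF' e heF
      exact ⟨a, w, hw.imp id (fun e => Or.inr (Or.inl e)), rfl⟩
    · have hm := mul_mem_iff_of_index_two h2 (a := (⟨e, he⟩ : E)) (b := ⟨u, hu⟩)
      simp only [mem_subgroupOf, Subgroup.coe_mul, heF, huF, iff_self, iff_true] at hm
      obtain ⟨a, w, hw, hv⟩ := hF' _ hm
      refine ⟨a, w * u, ?_, ?_⟩
      · rcases hw with rfl | rfl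
        · exact Or.inr (Or.inl (one_mul u))
        · exact Or.inr (Or.inr (Or.inr rfl))
      · calc e = e * u * u := by rw [mul_assoc, d.sq u hu, mul_one]
          _ = c ^ a * (w * u) := by rw [hv, mul_assoc]
  -- normalize `p`
  obtain ⟨p, hp, hpf, i, hpc, hi4⟩ : ∃ p ∈ P, p * f * p⁻¹ = f * c ∧ ∃ i : ℤ, p * c * p⁻¹ = c ^ i ∧ i % 4 = 1 := by
    obtain ⟨i, hi⟩ := hnorm p₀ hp₀
    have hodd : i % 2 = 1 := by
      by_contra hh
      obtain ⟨s, hs⟩ : ∃ s, i = 2 * s := ⟨i / 2, by omega⟩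
      obtain ⟨o, ho⟩ : ∃ o : ℕ, orderOf c = 2 * o := (show 2 ∣ orderOf c from Dvd.dvd.trans (by norm_num) h4)
      have e1 : (p₀ * c * p₀⁻¹) ^ (o : ℤ) = 1 := by
        rw [hi, hs, ← zpow_mul, show 2 * s * (o : ℤ) = (orderOf c : ℤ) * s by rw [ho]; push_cast; ring,
          zpow_mul, zpow_natCast, pow_orderOf_eq_one, one_zpow]
      rw [conj_zpow, conj_eq_one_iff, zpow_natCast] at e1
      have := Nat.le_of_dvd (by have := orderOf_pos c; omega) (orderOf_dvd_of_pow_eq_one e1)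
      have := orderOf_pos c
      omega
    by_cases h1 : i % 4 = 1
    · exact ⟨p₀, hp₀, hpf₀, i, hi, h1⟩
    · refine ⟨p₀ * f, P.mul_mem hp₀ d.fP, ?_, -i, ?_, by omega⟩
      · rw [show p₀ * f * f * (p₀ * f)⁻¹ = p₀ * f * p₀⁻¹ by group, hpf₀]
      · rw [show p₀ * f * c * (p₀ * f)⁻¹ = p₀ * (f * c * f⁻¹) * p₀⁻¹ by group, d.f_inv, hinv,
          show p₀ * c⁻¹ * p₀⁻¹ = (p₀ * c * p₀⁻¹)⁻¹ by group, hi, zpow_neg]
  -- `P` is generated
  set M := E ⊔ ⁅P, P⁆ with hM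
  have hPn : P ≤ normalizer ((⁅P, P⁆ : Subgroup G) : Set G) := fun q hq => by
    refine mem_normalizer_iff_map_conj_eq.2 ?_
    rw [map_commutator, mem_normalizer_iff_map_conj_eq.1 (le_normalizer hq)]
  have hEn := d.EP.trans hPn
  have hMP : M ≤ P := _root_.sup_le d.EP (commutator_le_self P)
  have hMcard : Nat.card P ≤ 2 * Nat.card M := by
    have h1 := CfsgLib.Solvable.card_sup_mul_card_inf hEn
    have h2 : Nat.card ↥(E ⊓ ⁅P, P⁆) ≤ 2 := by
      refine le_of_le_of_eq (Nat.card_le_card_of_injective (β := ({1, z} : Finset G))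
        (fun a => ⟨a, by simpa using hint a a.2.1 a.2.2⟩) fun a b e => Subtype.ext (congrArg Subtype.val e :)) ?_
      rw [Nat.card_eq_fintype_card, Fintype.card_coe, Finset.card_pair h.z1.symm]
    rw [d.card, ← hM] at h1
    have := Nat.mul_le_mul_left (Nat.card M) h2
    omega
  have hMmem : ∀ m ∈ M, ∃ (r : ℤ) (w : G), (w = 1 ∨ w = u ∨ w = f ∨ w = f * u) ∧ m = c ^ r * w := by
    intro m hm
    obtain ⟨e, he, a, ha, rfl⟩ := (CfsgLib.Solvable.mem_sup_of_le_normalizer hEn).1 hm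
    have ha' : e * a * e⁻¹ ∈ ⁅P, P⁆ := (mem_normalizer_iff.1 (hEn he) a).1 ha
    obtain ⟨r, hr⟩ := mem_zpowers_iff.1 (hgen ▸ ha' : _ ∈ zpowers c)
    obtain ⟨b, w, hw, hb⟩ := hEcases e he
    refine ⟨r + b, w, hw, ?_⟩
    rw [zpow_add, mul_assoc, ← hb, hr, inv_mul_cancel_right]
  have hfw : ∀ w, (w = 1 ∨ w = u ∨ w = f ∨ w = f * u) → w * f * w⁻¹ = f := by
    rintro w (rfl | rfl | rfl | rfl)
    · simp
    · rw [d.comm _ hu _ d.fE, mul_inv_cancel_right]
    · rw [mul_inv_cancel_right]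
    · rw [d.comm _ (E.mul_mem d.fE hu) _ d.fE, mul_inv_cancel_right]
  have hpM : p ∉ M := fun hh => by
    obtain ⟨r, w, hw, rfl⟩ := hMmem p hh
    have e : f * c ^ (-(2 * r)) = f * c ^ (1 : ℤ) := by
      rw [zpow_one, ← hpf, ← hcc r,
        show c ^ r * w * f * (c ^ r * w)⁻¹ = c ^ r * (w * f * w⁻¹) * (c ^ r)⁻¹ by group, hfw w hw]
    have := four_dvd_of_zpow_eq h4 (mul_left_cancel e)
    omega
  have hidx : (M.subgroupOf P).index = 2 := by
    have h1 := (M.subgroupOf P).index_mul_card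
    rw [Nat.card_congr (subgroupOfEquivOfLe hMP).toEquiv] at h1
    have hne : (M.subgroupOf P).index ≠ 1 := fun e => hpM (mem_subgroupOf.1 (index_eq_one.1 e ▸ mem_top (⟨p, hp⟩ : P)))
    have hne0 : (M.subgroupOf P).index ≠ 0 := index_ne_zero_of_finite
    have hpos : 0 < Nat.card M := Nat.card_pos
    by_contra h2
    have h3 : 3 ≤ (M.subgroupOf P).index := by omega
    have := Nat.mul_le_mul_right (Nat.card M) h3
    omega
  have hfull : ∀ q ∈ P, ∃ (r : ℤ) (w : G), (w = 1 ∨ w = u ∨ w = f ∨ w = f * u) ∧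
      (q = c ^ r * w ∨ q = p * (c ^ r * w)) := by
    intro q hq
    by_cases hqM : q ∈ M
    · obtain ⟨r, w, hw, e⟩ := hMmem q hqM
      exact ⟨r, w, hw, Or.inl e⟩
    · have hm : p⁻¹ * q ∈ M := by
        have := mul_mem_iff_of_index_two hidx (a := (⟨p, hp⟩ : P)⁻¹) (b := ⟨q, hq⟩)
        simp only [inv_mem_iff, mem_subgroupOf, InvMemClass.coe_inv, Subgroup.coe_mul, hqM, hpM] at this
        exact this.2 trivial
      obtain ⟨r, w, hw, e⟩ := hMmem _ hm
      exact ⟨r, w, hw, Or.inr (by rw [← e, mul_inv_cancel_left])⟩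
  -- `u` is not central
  obtain ⟨l, hl⟩ : ∃ l : ℤ, u * p * u⁻¹ * p⁻¹ = c ^ l := by
    have := commutator_mem_commutator (H₁ := P) (H₂ := P) (d.EP hu) hp
    rw [commutatorElement_def] at this
    obtain ⟨l, hl⟩ := mem_zpowers_iff.1 (hgen ▸ this : _ ∈ zpowers c)
    exact ⟨l, hl.symm⟩
  have hl' : u * p * u⁻¹ = c ^ l * p := mul_inv_eq_iff_eq_mul.1 hl
  have huf : u * f * u⁻¹ = f := by rw [d.comm _ hu _ d.fE, mul_inv_cancel_right]
  have e1 : c ^ (-(2 * l)) = 1 := by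
    refine mul_left_cancel (a := f) (mul_right_cancel (b := c) ?_)
    calc f * c ^ (-(2 * l)) * c = c ^ l * f * (c ^ l)⁻¹ * (c ^ l * c * (c ^ l)⁻¹) := by rw [hcc]; group
      _ = c ^ l * (p * f * p⁻¹) * (c ^ l)⁻¹ := by rw [hpf]; group
      _ = (u * p * u⁻¹) * (u * f * u⁻¹) * (u * p * u⁻¹)⁻¹ := by rw [hl', huf]; group
      _ = u * (p * f * p⁻¹) * u⁻¹ := by group
      _ = (u * f * u⁻¹) * (u * c * u⁻¹) := by rw [hpf]; group
      _ = f * 1 * c := by rw [huf, huc, mul_inv_cancel_right, mul_one]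
  have hlz : c ^ l = 1 ∨ c ^ l = z := by
    have hin : c ^ l ∈ ⁅P, P⁆ := hgen ▸ zpow_mem (mem_zpowers c) l
    refine hint _ (d.mem_E (commutator_le_self P hin) ?_) hin
    have hl2 : (c ^ l)⁻¹ = c ^ l := by
      refine inv_eq_of_mul_eq_one_right ?_
      rw [← zpow_add, ← two_mul]
      simpa using e1
    calc c ^ l * f = f * (f * c ^ l * f) := by simp only [← mul_assoc, d.f_sq, one_mul]
      _ = f * c ^ l := by rw [hzc, hl2]
  rcases hlz with e | e
  · exfalso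
    rw [e, one_mul] at hl'
    have hcp : ∀ q ∈ P, u * q = q * u := by
      intro q hq
      have hw : ∀ (r : ℤ) (w : G), (w = 1 ∨ w = u ∨ w = f ∨ w = f * u) → Commute u (c ^ r * w) := fun r w hw => by
        refine ((show Commute u c from huc).zpow_right r).mul_right ?_
        rcases hw with rfl | rfl | rfl | rfl
        · exact Commute.one_right u
        · exact Commute.refl _
        · exact d.comm _ hu _ d.fE
        · exact d.comm _ hu _ (E.mul_mem d.fE hu)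
      obtain ⟨r, w, hw', rfl | rfl⟩ := hfull q hq
      · exact (hw r w hw').eq
      · exact ((show Commute u p from mul_inv_eq_iff_eq_mul.1 hl').mul_right (hw r w hw')).eq
    exact huP' (d.central_eq h hu hu1 hcp ▸ hzD)
  · refine ⟨u, p, c, i, hgen, h4, ⟨t, ht⟩, hp, hpf, hpc, hi4, hu, huP', huc, ?_, hfull⟩
    rw [e] at hl'
    calc u * p = z * p * u := mul_inv_eq_iff_eq_mul.1 hl'
      _ = z * (p * u) := mul_assoc _ _ _

end EightData

namespace Gens

variable {u p c : G} {i : ℤ}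

theorem cP (gg : Gens P E z f u p c i) : c ∈ P := commutator_le_self P (gg.gen ▸ mem_zpowers c)

/-- An involution centralizing `c` outside the derived group. -/
theorem invol_cases (h : Ctx P z) (h32 : 32 ≤ Nat.card P) (d : EightData P z f E) (gg : Gens P E z f u p c i)
    {q : G} (hq : q ∈ P) (hq2 : q * q = 1) (hqc : q * c = c * q) (hout : q ∉ ⁅P, P⁆) :
    ∃ r : ℤ, q = c ^ r * u := by
  have hinv : f * c * f = c⁻¹ := d.inverts h h32 (gg.gen ▸ mem_zpowers c)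
  have hfc : f * c * f⁻¹ = c⁻¹ := by rw [d.f_inv, hinv]
  have hfuc : f * u * c * (f * u)⁻¹ = c⁻¹ := by
    rw [show f * u * c * (f * u)⁻¹ = f * (u * c * u⁻¹) * f⁻¹ by group, gg.uc, mul_inv_cancel_right, hfc]
  obtain ⟨r, w, hw, hq'⟩ := gg.full q hq
  have hact : q * c * q⁻¹ = c := by rw [hqc, mul_inv_cancel_right]
  have hneg : w = f ∨ w = f * u → (c ^ r * w) * c * (c ^ r * w)⁻¹ = c⁻¹ := fun hw' => by
    have e1 : w * c * w⁻¹ = c⁻¹ := by rcases hw' with rfl | rfl; exacts [hfc, hfuc]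
    calc c ^ r * w * c * (c ^ r * w)⁻¹ = c ^ r * (w * c * w⁻¹) * (c ^ r)⁻¹ := by group
      _ = c⁻¹ := by rw [e1]; group
  have hbad : w = f ∨ w = f * u → False := fun hw' => by
    have h4 := gg.i4
    rcases hq' with e | e
    · have e' : c ^ (-1 : ℤ) = c ^ (1 : ℤ) := by
        rw [zpow_one, zpow_neg_one, ← hneg hw', ← e, hact]
      have := four_dvd_of_zpow_eq gg.four e'
      omega
    · have e' : c ^ (-i) = c ^ (1 : ℤ) := by
        rw [zpow_one]
        calc c ^ (-i) = (p * c * p⁻¹)⁻¹ := by rw [gg.pc, zpow_neg]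
          _ = p * (c ^ r * w * c * (c ^ r * w)⁻¹) * p⁻¹ := by rw [hneg hw']; group
          _ = q * c * q⁻¹ := by rw [e]; group
          _ = c := hact
      have := four_dvd_of_zpow_eq gg.four e'
      omega
  rcases hq' with e | e
  · rcases hw with rfl | rfl | hw' | hw'
    · exact absurd (by rw [e, mul_one, ← gg.gen]; exact zpow_mem (mem_zpowers c) r) hout
    · exact ⟨r, e⟩
    · exact (hbad (Or.inl hw')).elim
    · exact (hbad (Or.inr hw')).elim
  · exfalso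
    have hw' : w = 1 ∨ w = u := by
      rcases hw with hw | hw | hw | hw
      exacts [Or.inl hw, Or.inr hw, (hbad (Or.inl hw)).elim, (hbad (Or.inr hw)).elim]
    rcases hw' with hw | hw
    all_goals
      obtain ⟨t, ht⟩ := gg.zc
      have hpc' : Commute p c := by
        refine mul_inv_eq_iff_eq_mul.1 ?_
        calc p * c * p⁻¹ = p * (c ^ r * (w * c * w⁻¹) * (c ^ r)⁻¹) * p⁻¹ := by
              rw [hw]; first | (rw [gg.uc, mul_inv_cancel_right]; group) | group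
          _ = q * c * q⁻¹ := by rw [e]; group
          _ = c := hact
      have hwp : ∃ b : ℤ, w * p = c ^ (2 * b) * (p * w) ∧ w * w = 1 ∧ Commute w c := by
        rw [hw]
        first
          | (refine ⟨0, ?_, one_mul 1, Commute.one_left c⟩; simp; done)
          | (refine ⟨t, ?_, d.sq u gg.uE, gg.uc⟩; rw [← ht]; exact gg.up)
      obtain ⟨b, hb, hw2, hwc⟩ := hwp
      have hq3 : c ^ (2 * r + 2 * b) * (p * p) = 1 := by
        have c1 : ∀ a : ℤ, p * c ^ a = c ^ a * p := fun a => (hpc'.zpow_right a).eq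
        have c2 : ∀ a : ℤ, w * c ^ a = c ^ a * w := fun a => (hwc.zpow_right a).eq
        calc c ^ (2 * r + 2 * b) * (p * p) = c ^ (2 * r + 2 * b) * (p * p) * (w * w) := by rw [hw2, mul_one]
          _ = c ^ r * c ^ r * (c ^ (2 * b) * p) * (p * w) * w := by
            rw [zpow_add, two_mul r, zpow_add]; simp only [mul_assoc]
          _ = c ^ r * c ^ r * (p * c ^ (2 * b)) * (p * w) * w := by rw [c1]
          _ = c ^ r * c ^ r * p * (c ^ (2 * b) * (p * w)) * w := by simp only [mul_assoc]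
          _ = c ^ r * c ^ r * p * (w * p) * w := by rw [hb]
          _ = c ^ r * (c ^ r * p) * w * p * w := by simp only [mul_assoc]
          _ = c ^ r * (p * c ^ r) * w * p * w := by rw [c1]
          _ = c ^ r * p * (c ^ r * w) * p * w := by simp only [mul_assoc]
          _ = p * c ^ r * (w * c ^ r) * p * w := by rw [c1, c2]
          _ = p * c ^ r * w * (c ^ r * p) * w := by simp only [mul_assoc]
          _ = q * q := by rw [← c1, e]; simp only [mul_assoc]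
          _ = 1 := hq2
      have hpp : p * p = c ^ (-(2 * r + 2 * b)) := by
        rw [zpow_neg]; exact (inv_eq_of_mul_eq_one_right hq3).symm
      have e' : c ^ (2 : ℤ) = c ^ (4 * r + 4 * b) := by
        refine mul_left_cancel (a := f) ?_
        calc f * c ^ (2 : ℤ) = f * c * c := by rw [zpow_two, mul_assoc]
          _ = p * f * p⁻¹ * (p * c * p⁻¹) := by rw [gg.pf, hpc'.eq, mul_inv_cancel_right]
          _ = p * (f * c) * p⁻¹ := by group
          _ = (p * p) * f * (p * p)⁻¹ := by rw [← gg.pf]; group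
          _ = f * c ^ (4 * r + 4 * b) := by
            rw [hpp]
            calc c ^ (-(2 * r + 2 * b)) * f * (c ^ (-(2 * r + 2 * b)))⁻¹
                = f * (f * c ^ (-(2 * r + 2 * b)) * f) * (c ^ (-(2 * r + 2 * b)))⁻¹ := by
                  simp only [← mul_assoc, d.f_sq, one_mul]
              _ = _ := by
                rw [conj_f_zpow d.f_sq hinv, mul_assoc, ← zpow_neg, ← zpow_add]
                congr 2; ring
      have := four_dvd_of_zpow_eq gg.four e'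
      omega

theorem zpow_two_one (h : Ctx P z) (h32 : 32 ≤ Nat.card P) (d : EightData P z f E) (gg : Gens P E z f u p c i)
    {r : ℤ} (hr : c ^ r * c ^ r = 1) : c ^ r = 1 ∨ c ^ r = z := by
  have hin : c ^ r ∈ ⁅P, P⁆ := gg.gen ▸ zpow_mem (mem_zpowers c) r
  refine (d.inter h h32).2 _ (d.mem_E (commutator_le_self P hin) ?_) hin
  have e := d.inverts h h32 hin
  rw [inv_eq_of_mul_eq_one_right hr] at e
  calc c ^ r * f = f * c ^ r * f * f := by rw [e]
    _ = f * c ^ r := by rw [mul_assoc _ f f, d.f_sq, mul_one]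

theorem comm_w (d : EightData P z f E) (gg : Gens P E z f u p c i) {r : ℤ} {w : G}
    (hw : w = 1 ∨ w = u ∨ w = f ∨ w = f * u) : Commute u (c ^ r * w) := by
  refine ((show Commute u c from gg.uc).zpow_right r).mul_right ?_
  rcases hw with rfl | rfl | rfl | rfl
  · exact Commute.one_right u
  · exact Commute.refl _
  · exact d.comm _ gg.uE _ d.fE
  · exact d.comm _ gg.uE _ (E.mul_mem d.fE gg.uE)

theorem w_mem (d : EightData P z f E) (gg : Gens P E z f u p c i) {w : G}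
    (hw : w = 1 ∨ w = u ∨ w = f ∨ w = f * u) : w ∈ E := by
  rcases hw with rfl | rfl | rfl | rfl
  exacts [E.one_mem, gg.uE, d.fE, E.mul_mem d.fE gg.uE]

/-- Elements of `P` commuting with `u`. -/
theorem of_comm (h : Ctx P z) (d : EightData P z f E) (gg : Gens P E z f u p c i) {q : G} (hq : q ∈ P)
    (hu : u * q = q * u) : ∃ (r : ℤ) (w : G), (w = 1 ∨ w = u ∨ w = f ∨ w = f * u) ∧ q = c ^ r * w := by
  obtain ⟨r, w, hw, e | e⟩ := gg.full q hq
  · exact ⟨r, w, hw, e⟩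
  · refine absurd (mul_eq_right.1 (mul_right_cancel (b := u) ?_ : z * q = q)) h.z1
    calc z * q * u = z * (p * (u * (c ^ r * w))) := by rw [e, (gg.comm_w d hw).eq]; group
      _ = u * q := by rw [e, ← mul_assoc u p, gg.up]; group
      _ = q * u := hu

theorem conj_u (h : Ctx P z) (d : EightData P z f E) (gg : Gens P E z f u p c i) {q : G} (hq : q ∈ P) :
    q⁻¹ * u * q = u ∨ q⁻¹ * u * q = z * u := by
  obtain ⟨r, w, hw, e | e⟩ := gg.full q hq
  · left
    rw [mul_assoc, e, (gg.comm_w d hw).eq, inv_mul_cancel_left]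
  · right
    calc q⁻¹ * u * q = (c ^ r * w)⁻¹ * p⁻¹ * (u * p) * (c ^ r * w) := by rw [e]; group
      _ = (c ^ r * w)⁻¹ * p⁻¹ * (p * z) * (u * (c ^ r * w)) := by
        rw [gg.up, ← mul_assoc z p u, h.zc p gg.pP]; group
      _ = (c ^ r * w)⁻¹ * (z * (c ^ r * w)) * u := by rw [(gg.comm_w d hw).eq]; group
      _ = z * u := by
        rw [h.zc _ (P.mul_mem (zpow_mem gg.cP r) (d.EP (gg.w_mem d hw))), inv_mul_cancel_left]

/-- The conjugates of `z` in `P` other than `z` lie in the coset of `f`. -/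
theorem conj_in_coset (h : Ctx P z) (h32 : 32 ≤ Nat.card P) (d : EightData P z f E)
    (gg : Gens P E z f u p c i)
    (hdata : ∀ g : G, g * z * g⁻¹ ∈ P → g * z * g⁻¹ ≠ z →
      EightData P z (g * z * g⁻¹) (P ⊓ centralizer ({g * z * g⁻¹} : Set G)))
    {g : G} (hf : g * z * g⁻¹ ∈ P) (hne : g * z * g⁻¹ ≠ z) : ∃ r : ℤ, g * z * g⁻¹ = c ^ r * f := by
  have hE2 : ∀ g : G, g * z * g⁻¹ ∈ P → g * z * g⁻¹ ≠ z → g * z * g⁻¹ * c ≠ c * (g * z * g⁻¹) := by
    intro g hf hne hc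
    have d2 := hdata g hf hne
    have hcc := d2.sq c (d2.mem_E gg.cP hc.symm)
    have := Nat.le_of_dvd two_pos (gg.four.trans (orderOf_dvd_of_pow_eq_one (by rw [pow_two, hcc])))
    omega
  have hu1 : u ≠ 1 := fun e => gg.uout (e ▸ one_mem _)
  have huP : u ∈ P := d.EP gg.uE
  have hzu : z * u ≠ 1 := fun e => gg.uout (by
    have : u = z := by
      calc u = z * z * u := by rw [h.z2, one_mul]
        _ = z := by rw [mul_assoc, e, mul_one]
    exact this ▸ (d.inter h h32).1)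
  have hnotu : ∀ g : G, g * z * g⁻¹ ≠ u ∧ g * z * g⁻¹ ≠ z * u := fun g => by
    constructor <;> intro e <;> refine hE2 g ?_ ?_ ?_ <;> rw [e]
    · exact huP
    · exact fun e' => gg.uout (e' ▸ (d.inter h h32).1)
    · exact gg.uc
    · exact P.mul_mem h.zP huP
    · exact fun e' => hu1 (mul_eq_left.1 e')
    · rw [mul_assoc, gg.uc, ← mul_assoc, h.zc c gg.cP, mul_assoc]
  set f₂ := g * z * g⁻¹ with hf₂
  have d₂ := hdata g hf hne
  obtain ⟨u₂, p₂, c₂, i₂, gg₂⟩ := d₂.exists_gens h h32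
  have hu2c : u₂ * c = c * u₂ := by
    obtain ⟨k, hk⟩ := mem_zpowers_iff.1 (show c ∈ zpowers c₂ from gg₂.gen.symm ▸ gg.gen ▸ mem_zpowers c)
    rw [← hk]
    exact ((show Commute u₂ c₂ from gg₂.uc).zpow_right k).eq
  obtain ⟨r, hr⟩ := gg.invol_cases h h32 d (d₂.EP gg₂.uE) (d₂.sq _ gg₂.uE) hu2c gg₂.uout
  have hr2 : c ^ r * c ^ r = 1 := by
    have e := d₂.sq _ gg₂.uE
    rw [hr] at e
    calc c ^ r * c ^ r = c ^ r * (c ^ r * u) * u := by
          rw [mul_assoc _ _ u, mul_assoc _ u u, d.sq u gg.uE, mul_one]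
      _ = c ^ r * (u * c ^ r) * u := by rw [((show Commute u c from gg.uc).zpow_right r).eq]
      _ = c ^ r * u * (c ^ r * u) := by group
      _ = 1 := e
  have huE₂ : u ∈ P ⊓ centralizer ({f₂} : Set G) := by
    rcases gg.zpow_two_one h h32 d hr2 with e | e <;> rw [e] at hr
    · rw [one_mul] at hr; exact hr ▸ gg₂.uE
    · have := mul_mem d₂.zE gg₂.uE
      rwa [hr, ← mul_assoc, h.z2, one_mul] at this
  obtain ⟨r', w, hw, e⟩ := gg.of_comm h d hf (mem_centralizer_singleton_iff.1 huE₂.2)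
  rcases hw with rfl | rfl | rfl | rfl
  · exfalso
    rw [mul_one] at e
    refine hE2 g hf hne ?_
    change f₂ * c = c * f₂
    rw [e]
    exact ((Commute.refl c).zpow_left r').eq
  · exfalso
    refine hE2 g hf hne ?_
    change f₂ * c = c * f₂
    rw [e]
    exact (((Commute.refl c).zpow_left r').mul_left gg.uc).eq
  · exact ⟨r', e⟩
  exfalso
  obtain ⟨t, ht⟩ := gg.zc
  have hfi : ∀ a : ℤ, c ^ a * f = f * c ^ (-a) := fun a => by
    rw [zpow_neg, ← conj_f_zpow d.f_sq (d.inverts h h32 (gg.gen ▸ mem_zpowers c)) a]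
    simp only [← mul_assoc, d.f_sq, one_mul]
  obtain ⟨q, hq, hqf⟩ := (d.orbit h h32).1 _ (gg.gen ▸ zpow_mem (mem_zpowers c) (-r'))
  rw [← hfi] at hqf
  have hqc : q⁻¹ * (c ^ r' * f) * q = f := by rw [← hqf]; group
  have hfu : (∃ g' : G, g' * z * g'⁻¹ = f * u) ∧ ∃ g' : G, g' * z * g'⁻¹ = f * (z * u) := by
    have e0 : q⁻¹ * g * z * (q⁻¹ * g)⁻¹ = f * (q⁻¹ * u * q) := by
      calc q⁻¹ * g * z * (q⁻¹ * g)⁻¹ = q⁻¹ * f₂ * q := by rw [hf₂]; group
        _ = q⁻¹ * (c ^ r' * (f * u)) * q := by rw [e]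
        _ = q⁻¹ * (c ^ r' * f) * q * (q⁻¹ * u * q) := by group
        _ = f * (q⁻¹ * u * q) := by rw [hqc]
    -- conjugation by `c ^ t` multiplies by `z`
    have e1 : ∀ v : G, v ∈ E → (v = u ∨ v = z * u) → c ^ (-t) * (f * v) * (c ^ (-t))⁻¹ = f * (z * v) := by
      intro v _ hv
      have hvc : Commute v c := by
        rcases hv with rfl | rfl
        · exact gg.uc
        · exact (Commute.mul_left (h.zc c gg.cP) gg.uc)
      have hzc' : Commute v (c ^ t) := hvc.zpow_right t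
      calc c ^ (-t) * (f * v) * (c ^ (-t))⁻¹ = c ^ (-t) * f * (v * c ^ t) := by group
        _ = f * c ^ t * (c ^ t * v) := by rw [hfi, neg_neg, hzc'.eq]
        _ = f * (c ^ (2 * t) * v) := by rw [two_mul, zpow_add]; group
        _ = f * (z * v) := by rw [← ht]
    rcases gg.conj_u h d hq with e2 | e2 <;> rw [e2] at e0
    · refine ⟨⟨_, e0⟩, c ^ (-t) * (q⁻¹ * g), ?_⟩
      rw [← e1 u gg.uE (Or.inl rfl), ← e0]; group
    · refine ⟨⟨c ^ (-t) * (q⁻¹ * g), ?_⟩, _, e0⟩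
      rw [show f * u = f * (z * (z * u)) by rw [← mul_assoc z z, h.z2, one_mul],
        ← e1 _ (E.mul_mem d.zE gg.uE) (Or.inr rfl), ← e0]
      group
  obtain ⟨x, hx, hxo, hxP⟩ := d.moved
  obtain ⟨g₀, hg₀⟩ := d.conj
  have hfz : ∃ g' : G, g' * z * g'⁻¹ = z * f := by
    refine ⟨c ^ (-t) * g₀, ?_⟩
    calc c ^ (-t) * g₀ * z * (c ^ (-t) * g₀)⁻¹ = c ^ (-t) * (g₀ * z * g₀⁻¹) * c ^ t := by group
      _ = f * (c ^ t * c ^ t) := by rw [hg₀, hfi, neg_neg, mul_assoc]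
      _ = z * f := by rw [← zpow_add, ← two_mul, ← ht, h.zc f d.fP]
  have hlist : ∀ v ∈ E, v = u ∨ v = z * u ∨ v = 1 ∨ ∃ g' : G, g' * z * g'⁻¹ = v := by
    intro v hv
    obtain ⟨a, w, hw, ev⟩ := gg.of_comm h d (d.EP hv) (d.comm _ gg.uE _ hv)
    have ha : c ^ a ∈ E := by
      have := E.mul_mem hv (E.inv_mem (gg.w_mem d hw))
      rwa [ev, mul_inv_cancel_right] at this
    have hz0 : ∃ g' : G, g' * z * g'⁻¹ = z := ⟨1, by group⟩
    rcases (d.inter h h32).2 _ ha (gg.gen ▸ zpow_mem (mem_zpowers c) a) with e3 | e3 <;> rw [e3] at ev <;>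
      rcases hw with rfl | rfl | rfl | rfl
    · exact Or.inr (Or.inr (Or.inl (by rw [ev, one_mul])))
    · exact Or.inl (by rw [ev, one_mul])
    · exact Or.inr (Or.inr (Or.inr ⟨g₀, by rw [ev, one_mul, hg₀]⟩))
    · exact Or.inr (Or.inr (Or.inr (by rw [ev, one_mul]; exact hfu.1)))
    · exact Or.inr (Or.inr (Or.inr (by rw [ev, mul_one]; exact hz0)))
    · exact Or.inr (Or.inl ev)
    · exact Or.inr (Or.inr (Or.inr (by rw [ev]; exact hfz)))
    · refine Or.inr (Or.inr (Or.inr ?_))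
      rw [ev, ← mul_assoc, h.zc f d.fP, mul_assoc]
      exact hfu.2
  have hperm : ∀ v ∈ E, (v = u ∨ v = z * u) → x * v * x⁻¹ = u ∨ x * v * x⁻¹ = z * u := by
    intro v hv hv'
    rcases hlist _ ((mem_normalizer_iff.1 hx v).1 hv) with h1 | h1 | h1 | ⟨g', h1⟩
    · exact Or.inl h1
    · exact Or.inr h1
    · rcases hv' with rfl | rfl
      · exact absurd (conj_eq_one_iff.1 h1) hu1
      · exact absurd (conj_eq_one_iff.1 h1) hzu
    · exfalso
      have h2 : x⁻¹ * g' * z * (x⁻¹ * g')⁻¹ = v := by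
        calc x⁻¹ * g' * z * (x⁻¹ * g')⁻¹ = x⁻¹ * (g' * z * g'⁻¹) * x := by group
          _ = v := by rw [h1]; group
      rcases hv' with rfl | rfl
      · exact (hnotu _).1 h2
      · exact (hnotu _).2 h2
  refine hxP (h.mem_P_of_fix ?_)
  have hzz : x * z * x⁻¹ = x * u * x⁻¹ * (x * (z * u) * x⁻¹) := by
    calc x * z * x⁻¹ = x * (z * (u * u)) * x⁻¹ := by rw [d.sq u gg.uE, mul_one]
      _ = x * (u * (z * u)) * x⁻¹ := congrArg (x * · * x⁻¹)
          ((mul_assoc z u u).symm.trans ((congrArg (· * u) (h.zc u huP)).trans (mul_assoc u z u)))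
      _ = _ := by group
  have h1 : z * u * u = z := by rw [mul_assoc, d.sq u gg.uE, mul_one]
  have h2 : u * (z * u) = z := by rw [← mul_assoc, ← h.zc u huP, h1]
  have hne' : x * u * x⁻¹ ≠ x * (z * u) * x⁻¹ := fun e =>
    h.z1 (mul_eq_right.1 (mul_left_cancel (mul_right_cancel e)).symm)
  rcases hperm u gg.uE (Or.inl rfl) with a | a <;>
    rcases hperm _ (E.mul_mem d.zE gg.uE) (Or.inr rfl) with b | b
  · exact absurd (a.trans b.symm) hne'
  · rw [hzz, a, b, h2]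
  · rw [hzz, a, b, h1]
  · exact absurd (a.trans b.symm) hne'

end Gens

/-- The focal subgroup has index at least four. -/
theorem focal_small (h : Ctx P z) (hk : Bound z 4) (hno : ¬ HasFour P) (h32 : 32 ≤ Nat.card P)
    {g₀ : G} (hg₀ : g₀ * z * g₀⁻¹ ∈ P) (hne₀ : g₀ * z * g₀⁻¹ ≠ z) :
    4 * Nat.card ↥(P ⊓ commutator G) ≤ Nat.card P := by
  haveI := two_fact
  set f := g₀ * z * g₀⁻¹
  have d := data_of_conj h hk hno hg₀ hne₀
  have hdata := fun g hf hne => data_of_conj h hk hno (g := g) hf hne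
  obtain ⟨u, p, c, i, gg⟩ := d.exists_gens h h32
  obtain ⟨S, hS⟩ := h.exists_sylow
  set D := ⁅P, P⁆
  set R : Subgroup G := zpowers f ⊔ D
  have hfn : zpowers f ≤ normalizer (D : Set G) := zpowers_le.2 (mem_normalizer_iff_map_conj_eq.2 (by
    rw [map_commutator, mem_normalizer_iff_map_conj_eq.1 (le_normalizer hg₀)]))
  have hfP : zpowers f ≤ P := zpowers_le.2 hg₀
  have hR : Nat.card R ≤ 2 * Nat.card D := by
    have h1 := CfsgLib.Solvable.card_sup_mul_card_inf hfn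
    have h2 : Nat.card (zpowers f) = 2 := by
      rw [Nat.card_zpowers]
      exact orderOf_eq_prime (by rw [pow_two]; exact d.f_sq) (d.f_ne_one h)
    have h3 : 0 < Nat.card ↥(zpowers f ⊓ D) := Nat.card_pos
    rw [h2] at h1
    calc Nat.card R ≤ Nat.card R * Nat.card ↥(zpowers f ⊓ D) := Nat.le_mul_of_pos_right _ h3
      _ = 2 * Nat.card D := h1
  suffices hle : P ⊓ commutator G ≤ R by
    have h1 := (d.orbit h h32).2
    have h2 := Nat.card_le_card_of_injective _ (inclusion_injective hle)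
    change Nat.card P = 8 * Nat.card D at h1
    omega
  have hfoc := CfsgLib.Grun.inf_commutator_le S R
  rw [hS] at hfoc
  refine hfoc ?_ ?_
  · rw [h.normalizer_self]
    exact inf_le_right.trans le_sup_right
  rintro g y ⟨hy, a, ha, rfl⟩
  show g * a * g⁻¹ ∈ R
  change g * a * g⁻¹ ∈ P at hy
  by_cases ha1 : a = 1
  · rw [ha1, mul_one, mul_inv_cancel]; exact one_mem R
  obtain ⟨m, hm⟩ := IsPGroup.iff_orderOf.1 h.p2 ⟨a, commutator_le_self P ha⟩
  rw [Subgroup.orderOf_mk] at hm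
  obtain ⟨m, rfl⟩ := Nat.exists_eq_succ_of_ne_zero
    (fun e => ha1 (orderOf_eq_one_iff.1 (by rw [hm, e, pow_zero])) : m ≠ 0)
  have hN : a ^ 2 ^ m = z := by
    obtain ⟨s, hs⟩ := mem_zpowers_iff.1 (gg.gen.symm ▸ pow_mem ha (2 ^ m) : a ^ 2 ^ m ∈ zpowers c)
    rw [← hs]
    refine (gg.zpow_two_one h h32 d ?_).resolve_left fun e => ?_
    · rw [hs, ← pow_add, ← two_mul, ← pow_succ', ← hm, pow_orderOf_eq_one]
    · rw [hs] at e
      have := Nat.le_of_dvd (Nat.two_pow_pos m) (orderOf_dvd_of_pow_eq_one e)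
      rw [hm, pow_succ'] at this
      have := Nat.two_pow_pos m
      omega
  have hyN : (g * a * g⁻¹) ^ 2 ^ m = g * z * g⁻¹ := by rw [conj_pow, hN]
  have hgP : g * z * g⁻¹ ∈ P := hyN ▸ pow_mem hy _
  by_cases hgz : g * z * g⁻¹ = z
  · have hg := h.mem_P_of_fix hgz
    have hgn : g ∈ normalizer (D : Set G) := mem_normalizer_iff_map_conj_eq.2 (by
      rw [map_commutator, mem_normalizer_iff_map_conj_eq.1 (le_normalizer hg)])
    exact mem_sup_right ((mem_normalizer_iff.1 hgn a).1 ha)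
  · have d₂ := hdata g hgP hgz
    have hy2 := d₂.sq _ (d₂.mem_E hy (by rw [← hyN]; exact (Commute.self_pow _ _).eq))
    obtain rfl : m = 0 := by
      by_contra hm0
      obtain ⟨m', rfl⟩ := Nat.exists_eq_succ_of_ne_zero hm0
      rw [pow_succ', pow_mul, pow_two, hy2, one_pow] at hyN
      exact h.z1 (conj_eq_one_iff.1 hyN.symm)
    rw [pow_zero, pow_one] at hyN
    rw [hyN]
    obtain ⟨r, hr⟩ := gg.conj_in_coset h h32 d hdata hgP hgz
    rw [hr]
    exact R.mul_mem (mem_sup_right (gg.gen.le (zpow_mem (mem_zpowers c) r))) (mem_sup_left (mem_zpowers f))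

end CfsgLib.MaxTwo
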