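import Cfsg.Agent.MaxTwo.Index
import Cfsg.Agent.MaxTwo.Focal
import Cfsg.Agent.MaxTwo.Chain
import Cfsg.Agent.Solvable.MaximalClass

/-!
# A 2-local with Sylow subgroup of order 64
-/

set_option autoImplicit false
set_option linter.style.haveILetI false
set_option linter.unusedSectionVars false

namespace CfsgLib.MaxTwo

open Subgroup
open scoped commutatorElement

universe u

variable {G : Type u} [Group G] [Finite G] {P : Subgroup G} {z : G} {X R : Subgroup G}

/-- An elementary group of order eight excludes a self-centralizing four-group. -/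
theorem not_hasFour (hP : IsPGroup 2 P) {E : Subgroup G} (hEP : E ≤ P) (hE : Nat.card E = 8)
    (hE2 : ∀ e ∈ E, e * e = 1) : ¬ HasFour P := by
  rintro ⟨V, hVP, hV4, hV2, hVC⟩
  haveI := two_fact
  obtain ⟨n, hn⟩ := IsPGroup.iff_card.1 hP
  set V' := V.subgroupOf P
  have hV' : Nat.card V' = 2 ^ 2 := (Nat.card_congr (subgroupOfEquivOfLe hVP).toEquiv).trans (hV4.trans (by norm_num))
  have hC : centralizer (V' : Set P) = V' := by
    refine le_antisymm (fun c hc => mem_subgroupOf.2 (hVC ⟨c.2, mem_centralizer_iff.2 fun v hv => ?_⟩)) ?_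
    · exact congrArg Subtype.val (mem_centralizer_iff.1 hc ⟨v, hVP hv⟩ (mem_subgroupOf.2 hv))
    · haveI : IsMulCommutative V' := IsPGroup.isMulCommutative_of_card_eq_prime_sq (p := 2) hV'
      exact le_centralizer V'
  have hn3 : 3 ≤ n := (Nat.pow_le_pow_iff_right Nat.one_lt_two).1 (by
    rw [← hn]
    exact le_of_eq_of_le (by rw [hE]) (Nat.card_le_card_of_injective _ (inclusion_injective hEP)))
  have hcl := CfsgLib.MaximalClass.class_of_self_centralizing n hn V' hV' hC
  obtain ⟨C, hC', hC2⟩ := CfsgLib.MaximalClass.cyclic_index_two n hn3 hn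
    (CfsgLib.MaximalClass.index_commutator_of_class hn3 hn hcl)
  set E' := E.subgroupOf P
  have hE' : Nat.card E' = 8 := (Nat.card_congr (subgroupOfEquivOfLe hEP).toEquiv).trans hE
  have h1 : 4 ≤ Nat.card ↥(C ⊓ E') := by
    haveI := normal_of_index_eq_two hC2
    have hr : C.relIndex E' ≤ 2 := hC2 ▸ Nat.le_of_dvd (by omega) (relIndex_dvd_index_of_normal C E')
    have hm := relIndex_mul_relIndex ⊥ (C ⊓ E') E' bot_le inf_le_right
    rw [relIndex_bot_left, relIndex_bot_left, inf_relIndex_right, hE'] at hm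
    have := Nat.mul_le_mul_left (Nat.card ↥(C ⊓ E')) hr
    omega
  haveI := hC'
  haveI : IsCyclic ↥(C ⊓ E') := Subgroup.isCyclic_of_le inf_le_left
  obtain ⟨y, hy⟩ := IsCyclic.exists_generator (α := ↥(C ⊓ E'))
  rw [← orderOf_eq_card_of_forall_mem_zpowers hy] at h1
  have h2 : orderOf y ≤ 2 := orderOf_le_of_pow_eq_one (by norm_num) (Subtype.ext (Subtype.ext (by
    simpa [pow_two] using hE2 ((y : P) : G) y.2.2)))
  omega

/-- Transport of normalisation through a normal subgroup. -/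
theorem le_normalizer_inf {H C : Subgroup G} {A : Subgroup G} (hAH : A ≤ normalizer (H : Set G))
    (hAC : A ≤ normalizer (C : Set G)) : A ≤ normalizer ((H ⊓ C : Subgroup G) : Set G) := fun a ha =>
  mem_normalizer_iff.2 fun v =>
    and_congr (mem_normalizer_iff.1 (hAH ha) v) (mem_normalizer_iff.1 (hAC ha) v)

/-- No normal 2-subgroup of a 64-local is in a member. -/
theorem core_eq_bot (h : Ctx P z) (h128 : Nat.card P = 128) (hch : NoLongChain G) (hk : Bound z 5)
    (b : Best P z 5 X R) {y : G} (hyP : y ∈ P) (hyT : y ∉ X ⊓ P)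
    {L : Subgroup G} (hL : L ≤ X ⊓ P) (hLX : X ≤ normalizer (L : Set G))
    (hLy : y ∈ normalizer (L : Set G)) : L = ⊥ := by
  classical
  haveI := two_fact
  by_contra hL1
  have h2R : 2 * Nat.card R = 32 := (b.two_mul_R h hk le_rfl (by norm_num)).trans (by norm_num)
  have hR16 : Nat.card R = 16 := by omega
  have hT : Nat.card ↥(X ⊓ P) = 32 := b.card.trans (by norm_num)
  set H : Subgroup G := normalizer (L : Set G)
  have hHtop : H ≠ ⊤ := fun e => hL1 (h.core L (normalizer_eq_top_iff.1 e) (h.p2.to_le (hL.trans inf_le_right)))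
  have hHnon : ¬ IsPGroup 2 H := fun hp => b.non (hp.to_le hLX)
  set S : Subgroup G := P ⊓ H
  have hS2 : IsPGroup 2 S := h.p2.to_le inf_le_left
  have hTS : X ⊓ P ≤ S := le_inf inf_le_right (inf_le_left.trans hLX)
  have hTlt : X ⊓ P < S := lt_of_le_of_ne hTS fun e => hyT (e.ge ⟨hyP, hLy⟩)
  have hSP : S ≠ P := fun e => by
    rcases h.max.le_iff.1 (e ▸ inf_le_right : P ≤ H) with e' | e'
    · exact hHtop e'
    · exact hHnon (e' ▸ h.p2)
  have hS64 : Nat.card S = 2 ^ 6 := by
    obtain ⟨n, hn⟩ := IsPGroup.iff_card.1 hS2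
    have h1 := Ctx.two_mul_card_le hTlt
    have h2 := Ctx.two_mul_card_le (lt_of_le_of_ne inf_le_left hSP : S < P)
    rw [hT, hn] at h1
    rw [hn, h128] at h2
    have : 6 ≤ n := (Nat.pow_le_pow_iff_right Nat.one_lt_two).1 (by norm_num; omega)
    have : n ≤ 6 := (Nat.pow_le_pow_iff_right Nat.one_lt_two).1 (by norm_num; omega)
    rw [hn, show n = 6 by omega]
  have hSn : P ≤ normalizer (S : Set G) := by
    have h1 := lt_inf_normalizer h.p2 (lt_of_le_of_ne inf_le_left hSP : S < P)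
    have h2 := Ctx.two_mul_card_le h1
    have : P ⊓ normalizer (S : Set G) = P := eq_of_le_of_card_ge inf_le_left (by rw [h128]; omega)
    exact this ▸ inf_le_right
  have hSco : ∀ Y : Subgroup G, S ≤ Y → Y ≤ H → Y = S ∨ Y = H := fun Y h1 h2 => by
    by_contra hc
    push Not at hc
    exact false_of_chain_sixty_four hch hS64 (lt_of_le_of_ne h1 (Ne.symm hc.1)) (lt_of_le_of_ne h2 hc.2)
      (lt_top_iff_ne_top.2 hHtop)
  -- the normal 2-subgroups of `H`
  have hnoconj : ∀ N : Subgroup G, N ≤ H → IsPGroup 2 N → H ≤ normalizer (N : Set G) →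
      ∀ g : G, g * z * g⁻¹ ∉ N := fun N hNH hN hHN g hg => by
    have := hk H ⟨hHnon, N, hN, hNH, hHN, g, hg⟩ S inf_le_right hS2
    rw [hS64] at this
    norm_num at this
  obtain ⟨Q, ⟨hQH, hQ2, hHQ⟩, hQmax⟩ := Set.Finite.exists_maximalFor (fun N : Subgroup G => Nat.card N)
    {N | N ≤ H ∧ IsPGroup 2 N ∧ H ≤ normalizer (N : Set G)} (Set.toFinite _)
    ⟨⊥, bot_le, IsPGroup.of_bot, by rw [normalizer_eq_top_iff.2 inferInstance]; exact le_top⟩
  have hQle : ∀ N : Subgroup G, N ≤ H → IsPGroup 2 N → H ≤ normalizer (N : Set G) → N ≤ Q := by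
    intro N hNH hN hHN
    have hm : N ⊔ Q ∈ {N : Subgroup G | N ≤ H ∧ IsPGroup 2 N ∧ H ≤ normalizer (N : Set G)} :=
      ⟨_root_.sup_le hNH hQH, hN.to_sup_of_normal_right' hQ2 (hNH.trans hHQ), fun a ha =>
        mem_normalizer_iff_map_conj_eq.2 (by
          rw [Subgroup.map_sup, mem_normalizer_iff_map_conj_eq.1 (hHN ha), mem_normalizer_iff_map_conj_eq.1 (hHQ ha)])⟩
    have hge := Nat.card_le_card_of_injective _ (inclusion_injective (le_sup_right : Q ≤ N ⊔ Q))
    exact (eq_of_le_of_card_ge le_sup_right (hQmax hm hge)).ge.trans' le_sup_left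
  have hQ1 : Q ≠ ⊥ := fun e => hL1 (le_bot_iff.1 (e ▸ hQle L le_normalizer (h.p2.to_le (hL.trans inf_le_right)) le_rfl))
  have hQS : Q ≤ S := by
    rcases hSco (S ⊔ Q) le_sup_left (_root_.sup_le inf_le_right hQH) with e | e
    · exact e ▸ le_sup_right
    · exact absurd (e ▸ hS2.to_sup_of_normal_right' hQ2 ((inf_le_right : S ≤ H).trans hHQ)) hHnon
  have hzH : z ∈ H := hLX (b.RX b.zR)
  have hXH : X ≤ H := hLX
  have hRH : R ≤ H := b.RX.trans hXH
  have hQR : Q ≤ R := by
    have hXQ : X ≤ normalizer (Q : Set G) := hXH.trans hHQ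
    have hRQ2 : IsPGroup 2 ↥(R ⊔ Q) := (h.p2.to_le b.RP).to_sup_of_normal_right' hQ2 (hRH.trans hHQ)
    have hn1 : X ≤ normalizer ((R ⊔ Q : Subgroup G) : Set G) := fun a ha => mem_normalizer_iff_map_conj_eq.2 (by
      rw [Subgroup.map_sup, mem_normalizer_iff_map_conj_eq.1 (b.nR ha), mem_normalizer_iff_map_conj_eq.1 (hXQ ha)])
    have hm : Member z (X ⊔ Q) := ⟨fun hp => b.non (hp.to_le le_sup_left), R ⊔ Q, hRQ2,
      _root_.sup_le (b.RX.trans le_sup_left) le_sup_right,
      _root_.sup_le hn1 (le_trans le_sup_right le_normalizer), 1, by simpa using mem_sup_left b.zR⟩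
    have h1 := hk _ hm ((X ⊓ P) ⊔ Q) (_root_.sup_le (inf_le_left.trans le_sup_left) le_sup_right)
      ((h.p2.to_le inf_le_right).to_sup_of_normal_right' hQ2 (inf_le_left.trans hXQ))
    have hQT : Q ≤ X ⊓ P := (eq_of_le_of_card_ge le_sup_left (by rw [hT]; simpa using h1)).ge.trans' le_sup_right
    exact b.le_R h hk (hQT.trans inf_le_left) hQ2 hXQ
  have hzQ : z ∉ Q := fun hz => hnoconj Q hQH hQ2 hHQ 1 (by simpa using hz)
  set C := H ⊓ centralizer (Q : Set G)
  have hCH : H ≤ normalizer (C : Set G) :=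
    le_normalizer_inf le_normalizer ((hHQ).trans (fun a ha => mem_normalizer_iff.2 fun v => by
      simp only [SetLike.mem_coe, mem_centralizer_iff]
      constructor
      · intro hv q hq
        have hq' : a⁻¹ * q * a ∈ Q := by simpa using (mem_normalizer_iff.1 (inv_mem ha) q).1 hq
        calc q * (a * v * a⁻¹) = a * (a⁻¹ * q * a * v) * a⁻¹ := by group
          _ = a * (v * (a⁻¹ * q * a)) * a⁻¹ := by rw [hv _ hq']
          _ = a * v * a⁻¹ * q := by group
      · intro hv q hq
        have := hv _ ((mem_normalizer_iff.1 ha q).1 hq)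
        calc q * v = a⁻¹ * (a * q * a⁻¹ * (a * v * a⁻¹)) * a := by group
          _ = a⁻¹ * (a * v * a⁻¹ * (a * q * a⁻¹)) * a := by rw [this]
          _ = v * q := by group))
  have hzC : z ∈ C := ⟨hzH, mem_centralizer_iff.2 fun q hq => (h.zc q (inf_le_left (b := H) (hQS hq))).symm⟩
  have hCnon : ¬ IsPGroup 2 C := fun hp =>
    hzQ (hQle C inf_le_left hp hCH hzC)
  have hSC : S ⊔ C = H := (hSco _ le_sup_left (_root_.sup_le inf_le_right inf_le_left)).resolve_left fun e =>
    hCnon (hS2.to_le (e ▸ le_sup_right))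
  -- odd elements of `H` centralize `Q`
  have hodd : ∀ a ∈ H, Odd (orderOf a) → a ∈ C := by
    intro a ha hao
    haveI : (C.subgroupOf H).Normal := (normal_subgroupOf_iff_le_normalizer inf_le_left).2 hCH
    have hq : IsPGroup 2 (H ⧸ C.subgroupOf H) := by
      refine (hS2.of_equiv (subgroupOfEquivOfLe (inf_le_right : S ≤ H)).symm).of_surjective
        ((QuotientGroup.mk' _).comp (S.subgroupOf H).subtype) fun v => ?_
      obtain ⟨⟨v, hv⟩, rfl⟩ := QuotientGroup.mk'_surjective _ v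
      obtain ⟨s, hs, c, hc, rfl⟩ := (CfsgLib.Solvable.mem_sup_of_le_normalizer
        ((inf_le_right : S ≤ H).trans hCH)).1 (hSC.ge hv)
      refine ⟨⟨⟨s, inf_le_right (a := P) hs⟩, mem_subgroupOf.2 hs⟩, QuotientGroup.eq.2 ?_⟩
      rw [mem_subgroupOf]; simpa using hc
    obtain ⟨m, hm⟩ := hq (QuotientGroup.mk ⟨a, ha⟩)
    have h1 : orderOf (QuotientGroup.mk ⟨a, ha⟩ : H ⧸ C.subgroupOf H) ∣ 2 ^ m := orderOf_dvd_of_pow_eq_one hm
    have h2 : orderOf (QuotientGroup.mk ⟨a, ha⟩ : H ⧸ C.subgroupOf H) ∣ orderOf a := by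
      rw [← Subgroup.orderOf_mk a ha]; exact orderOf_map_dvd (QuotientGroup.mk' _) _
    have h3 := Nat.eq_one_of_dvd_coprimes (Nat.Coprime.pow_left m (Nat.coprime_two_left.2 hao)) h1 h2
    exact mem_subgroupOf.1 ((QuotientGroup.eq_one_iff _).1 (orderOf_eq_one_iff.1 h3))
  obtain ⟨x, hx, hxP, hxo⟩ := b.exists_odd h
  have hxC : x ∈ C := hodd x (hXH hx) hxo
  set f := x * z * x⁻¹
  have hfR : f ∈ R := b.f_mem hx
  have hf2 : f * f = 1 := by
    rw [show f * f = x * (z * z) * x⁻¹ by simp [f, mul_assoc], h.z2]; group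
  have hfQ : f ∉ Q := fun hf => hnoconj Q hQH hQ2 hHQ x hf
  have hzfQ : z * f ∉ Q := fun hq => by
    have e : x * (z * f) * x⁻¹ = z * f := by
      rw [(mem_centralizer_iff.1 hxC.2 _ hq).symm, mul_inv_cancel_right]
    refine conj_conj_ne h hxo hxP (mul_left_cancel (a := f) ?_)
    calc f * (x * (x * z * x⁻¹) * x⁻¹) = x * (z * f) * x⁻¹ := by simp [f, mul_assoc]
      _ = z * f := e
      _ = f * z := h.zc f (b.RP hfR)
  -- the second conjugate of `Q`
  obtain ⟨y', hy'P, hy'S⟩ := SetLike.exists_of_lt (lt_of_le_of_ne inf_le_left hSP : S < P)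
  have hPS : ∀ p ∈ P, p ∈ S ∨ y'⁻¹ * p ∈ S := by
    have hi : (S.subgroupOf P).index = 2 := by
      have := (S.subgroupOf P).index_mul_card
      rw [Nat.card_congr (subgroupOfEquivOfLe (inf_le_left : S ≤ P)).toEquiv, hS64, h128] at this
      omega
    intro p hp
    by_cases hpS : p ∈ S
    · exact Or.inl hpS
    · right
      have := mul_mem_iff_of_index_two hi (a := (⟨y', hy'P⟩ : P)⁻¹) (b := ⟨p, hp⟩)
      simp only [inv_mem_iff, mem_subgroupOf, InvMemClass.coe_inv, Subgroup.coe_mul, hy'S, hpS] at this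
      exact this.2 trivial
  set Q' := Q.map (MulAut.conj y').toMonoidHom
  have hQ'S : Q' ≤ S := by
    rintro _ ⟨q, hq, rfl⟩
    exact (mem_normalizer_iff.1 (hSn hy'P) q).1 (hQS hq)
  have hcentP : ∀ t ∈ Q, t * t = 1 → (∀ p ∈ P, t * p = p * t) → t = 1 := fun t ht ht2 hc => by
    by_contra ht1
    have e := h.cent_central ((inf_le_left : S ≤ P) (hQS ht)) ht2 ht1 hc
    refine hCnon (h.p2.to_le fun c hc' => e.le (mem_centralizer_singleton_iff.2 ?_))
    exact (mem_centralizer_iff.1 hc'.2 t ht).symm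
  have hinter : ∀ q ∈ Q, q ∈ Q' → q = 1 := by
    intro q hq hq'
    by_contra hq1
    set I := Q ⊓ Q'
    have hIn : P ≤ normalizer (I : Set G) := by
      intro p hp
      refine mem_normalizer_iff_map_conj_eq.2 (eq_of_le_of_card_ge ?_ (card_map_of_injective (MulAut.conj p).injective).ge)
      rintro _ ⟨v, ⟨hv, hv'⟩, rfl⟩
      show p * v * p⁻¹ ∈ I
      have hSQ : ∀ s ∈ S, ∀ v ∈ Q, s * v * s⁻¹ ∈ Q := fun s hs v hv =>
        (mem_normalizer_iff.1 (hHQ hs.2) v).1 hv
      have hSQ' : ∀ s ∈ S, ∀ v ∈ Q', s * v * s⁻¹ ∈ Q' := by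
        rintro s hs _ ⟨v, hv, rfl⟩
        refine ⟨y'⁻¹ * s * y' * v * (y'⁻¹ * s * y')⁻¹, hSQ _ ?_ v hv, by
          show y' * _ * y'⁻¹ = s * (y' * v * y'⁻¹) * s⁻¹; group⟩
        simpa using (mem_normalizer_iff.1 (hSn (P.inv_mem hy'P)) s).1 hs
      have hyy : y' * y' ∈ S := (hPS _ (P.mul_mem hy'P hy'P)).resolve_right fun e => hy'S (by
        simpa [← mul_assoc] using e)
      have hy'Q : ∀ v ∈ Q ⊓ Q', y' * v * y'⁻¹ ∈ Q ⊓ Q' := by
        rintro _ ⟨hv1, w, hw, rfl⟩
        refine ⟨?_, ⟨_, hv1, rfl⟩⟩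
        show y' * (y' * w * y'⁻¹) * y'⁻¹ ∈ Q
        rw [show y' * (y' * w * y'⁻¹) * y'⁻¹ = (y' * y') * w * (y' * y')⁻¹ by group]
        exact hSQ _ hyy _ hw
      rcases hPS p hp with hs | hs
      · exact ⟨hSQ p hs v hv, hSQ' p hs v hv'⟩
      · have := hy'Q _ (show (y'⁻¹ * p) * v * (y'⁻¹ * p)⁻¹ ∈ Q ⊓ Q' from ⟨hSQ _ hs v hv, hSQ' _ hs v hv'⟩)
        rwa [show y' * ((y'⁻¹ * p) * v * (y'⁻¹ * p)⁻¹) * y'⁻¹ = p * v * p⁻¹ by group] at this
    haveI : (I.subgroupOf P).Normal := (normal_subgroupOf_iff_le_normalizer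
      ((inf_le_left : I ≤ Q).trans (hQS.trans inf_le_left))).2 hIn
    obtain ⟨t, htI, ht1, htc⟩ := CfsgLib.UniqueInvol.exists_central h.p2 (I.subgroupOf P) (fun e => hq1 (by
      have : (⟨q, (inf_le_left : S ≤ P) (hQS hq)⟩ : P) ∈ I.subgroupOf P := mem_subgroupOf.2 ⟨hq, hq'⟩
      rw [e, mem_bot] at this
      exact congrArg Subtype.val this))
    obtain ⟨j, hj⟩ := IsPGroup.iff_orderOf.1 h.p2 t
    obtain ⟨j, rfl⟩ := Nat.exists_eq_succ_of_ne_zero
      (fun e => ht1 (orderOf_eq_one_iff.1 (by rw [hj, e, pow_zero])) : j ≠ 0)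
    set s := t ^ 2 ^ j with hs
    have hs1 : s ≠ 1 := pow_ne_one_of_lt_orderOf (by positivity)
      (by rw [hj]; exact Nat.pow_lt_pow_right (by norm_num) (by omega))
    have hs2 : s * s = 1 := by rw [hs, ← pow_add, ← two_mul, ← pow_succ', ← hj, pow_orderOf_eq_one]
    refine hs1 (Subtype.ext (hcentP s (mem_subgroupOf.1 (pow_mem htI (2 ^ j))).1 ?_ fun p hp => ?_))
    · exact congrArg Subtype.val hs2
    · exact congrArg Subtype.val (mem_center_iff.1 (pow_mem htc (2 ^ j)) ⟨p, hp⟩).symm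
  -- central elements of `S` in `Q` and their conjugates
  have hconjR : ∀ e ∈ Q, (∀ s ∈ S, e * s = s * e) →
      y' * e * y'⁻¹ ∈ R ∧ (∀ s ∈ S, y' * e * y'⁻¹ * s = s * (y' * e * y'⁻¹)) ∧ (y' * e * y'⁻¹ ∈ Q → e = 1) := by
    intro e he hec
    have hc : ∀ s ∈ S, y' * e * y'⁻¹ * s = s * (y' * e * y'⁻¹) := fun s hs => by
      have := hec (y'⁻¹ * s * y') (by simpa using (mem_normalizer_iff.1 (hSn (P.inv_mem hy'P)) s).1 hs)
      calc y' * e * y'⁻¹ * s = y' * (e * (y'⁻¹ * s * y')) * y'⁻¹ := by group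
        _ = s * (y' * e * y'⁻¹) := by rw [this]; group
    refine ⟨b.centralizer_R h hk ⟨(inf_le_left : S ≤ P) (hQ'S ⟨e, he, rfl⟩), mem_centralizer_iff.2 fun r hr => ?_⟩, hc,
      fun hQ => conj_eq_one_iff.1 (hinter _ hQ ⟨e, he, rfl⟩)⟩
    exact (hc r (hTS ⟨b.RX hr, b.RP hr⟩)).symm
  obtain ⟨u, huQ, hu1, hu2, huS⟩ : ∃ u ∈ Q, u ≠ 1 ∧ u * u = 1 ∧ ∀ s ∈ S, u * s = s * u := by
    haveI : (Q.subgroupOf S).Normal := (normal_subgroupOf_iff_le_normalizer hQS).2
      ((inf_le_right : S ≤ H).trans hHQ)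
    obtain ⟨t, htI, ht1, htc⟩ := CfsgLib.UniqueInvol.exists_central hS2 (Q.subgroupOf S) (fun e => by
      have := (subgroupOf_eq_bot (H := Q) (K := S)).1 e
      exact hQ1 (this.eq_bot_of_le hQS))
    obtain ⟨j, hj⟩ := IsPGroup.iff_orderOf.1 hS2 t
    obtain ⟨j, rfl⟩ := Nat.exists_eq_succ_of_ne_zero
      (fun e => ht1 (orderOf_eq_one_iff.1 (by rw [hj, e, pow_zero])) : j ≠ 0)
    set s := t ^ 2 ^ j with hs
    have hs1 : s ≠ 1 := pow_ne_one_of_lt_orderOf (by positivity)
      (by rw [hj]; exact Nat.pow_lt_pow_right (by norm_num) (by omega))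
    have hs2 : s * s = 1 := by rw [hs, ← pow_add, ← two_mul, ← pow_succ', ← hj, pow_orderOf_eq_one]
    exact ⟨s, mem_subgroupOf.1 (pow_mem htI (2 ^ j)), fun e => hs1 (Subtype.ext e), congrArg Subtype.val hs2,
      fun a ha => congrArg Subtype.val (mem_center_iff.1 (pow_mem htc (2 ^ j)) ⟨a, ha⟩).symm⟩
  -- a normal subgroup above `X`
  have hfinish : ∀ N : Subgroup G, N ≤ H → H ≤ normalizer (N : Set G) → R ≤ N → x ∈ N →
      Nat.card ↥(S ⊓ N) = 32 → False := by
    intro N hNH hHN hRN hxN hSN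
    have hRS : R ≤ S ⊓ N := le_inf ((le_inf b.RX b.RP).trans hTS) hRN
    have hnorm : S ⊓ N ≤ normalizer (R : Set G) := by
      have h1 := lt_inf_normalizer (hS2.to_le inf_le_left)
        (lt_of_le_of_ne hRS fun e => by rw [← e, hR16] at hSN; omega)
      have h2 := Ctx.two_mul_card_le h1
      have : (S ⊓ N) ⊓ normalizer (R : Set G) = S ⊓ N := eq_of_le_of_card_ge inf_le_left (by rw [hSN]; omega)
      exact this ▸ inf_le_right
    have hTN : X ⊓ P ≤ N := by
      have h1 : S ⊓ N ≤ X ⊓ P := by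
        rw [← b.normalizer_R h hk]
        exact le_inf (inf_le_left.trans inf_le_left) hnorm
      exact (eq_of_le_of_card_ge h1 (by rw [hT, hSN])).ge.trans inf_le_right
    have hXN : X ≤ N := by
      rcases b.maximal h hk (Y := (X ⊓ P) ⊔ zpowers x) le_sup_left
        (_root_.sup_le inf_le_left (zpowers_le.2 hx)) with e | e
      · exact absurd (e ▸ mem_sup_right (mem_zpowers x) : x ∈ X ⊓ P).2 hxP
      · rw [← e]; exact _root_.sup_le hTN (zpowers_le.2 hxN)
    have hNneH : N ≠ H := fun e => by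
      rw [e, show S ⊓ H = S from inf_eq_left.2 inf_le_right, hS64] at hSN
      norm_num at hSN
    have hXneN : X ≠ N := by
      intro e
      subst e
      have hRn : ∀ a ∈ H, R.map (MulAut.conj a).toMonoidHom ≤ R := by
        intro a ha
        have hmapX := mem_normalizer_iff_map_conj_eq.1 (hHN ha)
        refine b.le_R h hk (hmapX ▸ map_mono b.RX) ((h.p2.to_le b.RP).map _) ?_
        intro v hv
        obtain ⟨v', hv', rfl⟩ := hmapX.ge hv
        exact le_normalizer_map _ (mem_map_of_mem _ (b.nR hv'))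
      refine hTlt.not_ge ?_
      rw [← b.normalizer_R h hk]
      exact le_inf inf_le_left fun s hs => mem_normalizer_iff_map_conj_eq.2
        (eq_of_le_of_card_ge (hRn s hs.2) (card_map_of_injective (MulAut.conj s).injective).ge)
    have hTX : X ⊓ P < X := lt_of_le_of_ne inf_le_left fun e => hxP (e.ge hx).2
    exact false_of_chain_thirty_two hch (hT.trans (by norm_num)) hTX (lt_of_le_of_ne hXN hXneN)
      (lt_of_le_of_ne hNH hNneH) (lt_top_iff_ne_top.2 hHtop)
  -- the order of `Q`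
  have hzR := b.zR
  have hR4 : 4 * Nat.card Q ≤ Nat.card R := by
    obtain ⟨V, hV4, hzV, hfV, hVmem, -⟩ := exists_four h.z2 hf2 h.z1 (fun e => hfQ (e ▸ Q.one_mem))
      (fun e => hzfQ (by rw [← e, h.z2]; exact Q.one_mem)) (h.zc f (b.RP hfR))
    have hVR : V ≤ R := fun v hv => by
      rcases (hVmem v).1 hv with rfl | rfl | rfl | rfl
      exacts [R.one_mem, b.zR, hfR, R.mul_mem b.zR hfR]
    have hVQ : V ⊓ Q = ⊥ := eq_bot_iff.2 fun v ⟨hv, hvQ⟩ => by
      rcases (hVmem v).1 hv with rfl | rfl | rfl | rfl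
      exacts [mem_bot.2 rfl, absurd hvQ hzQ, absurd hvQ hfQ, absurd hvQ hzfQ]
    have h1 := CfsgLib.Solvable.card_sup_of_disjoint ((hVR.trans hRH).trans hHQ) hVQ
    rw [hV4] at h1
    rw [← h1]
    exact Nat.card_le_card_of_injective _ (inclusion_injective (_root_.sup_le hVR hQR))
  obtain ⟨q, hq⟩ := IsPGroup.iff_card.1 hQ2
  have hq1 : q = 1 ∨ q = 2 := by
    have h1 : q ≤ 2 := (Nat.pow_le_pow_iff_right Nat.one_lt_two).1 (by rw [← hq]; norm_num; omega)
    have h0 : q ≠ 0 := fun e => hQ1 (eq_bot_of_card_eq Q (by rw [hq, e, pow_zero]))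
    omega
  rcases hq1 with rfl | rfl
  · -- `Q` of order two: pass to the quotient
    set Qn := Q.subgroupOf H
    haveI : Qn.Normal := (normal_subgroupOf_iff_le_normalizer hQH).2 hHQ
    set π := QuotientGroup.mk' Qn
    have hπ : Function.Surjective π := QuotientGroup.mk'_surjective Qn
    have hπ1 : ∀ (a : H), π a = 1 ↔ (a : G) ∈ Q := fun a =>
      (QuotientGroup.eq_one_iff a).trans mem_subgroupOf
    set Sq := (S.subgroupOf H).map π
    have hSq2 : IsPGroup 2 Sq := (hS2.of_equiv (subgroupOfEquivOfLe inf_le_right).symm).map π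
    have hmemS : ∀ a : H, π a ∈ Sq ↔ (a : G) ∈ S := fun a => ⟨fun ha => by
      have : a ∈ (S.subgroupOf H) ⊔ Qn := by
        rw [← QuotientGroup.ker_mk' Qn, ← comap_map_eq]; exact ha
      rw [sup_eq_left.2 (fun v hv => mem_subgroupOf.2 (hQS (mem_subgroupOf.1 hv)))] at this
      exact mem_subgroupOf.1 this, fun ha => mem_map_of_mem π (mem_subgroupOf.2 ha)⟩
    have hzS : z ∈ S := ⟨h.zP, hzH⟩
    set zq := π ⟨z, hzH⟩
    have hctx : Ctx Sq zq := by
      refine ⟨hSq2, ⟨fun e => ?_, fun Y hY => ?_⟩, fun N hN hN2 => ?_, (hmemS _).2 hzS,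
        fun e => hzQ ((hπ1 _).1 e), ?_, ?_⟩
      · exact hxP ((hmemS ⟨x, hXH hx⟩).1 (e ▸ mem_top _)).1
      · set Y₀ := (Y.comap π).map H.subtype
        have h0 : S ≤ Y₀ := fun s hs =>
          ⟨⟨s, inf_le_right (a := P) hs⟩, hY.le ((hmemS _).2 hs), rfl⟩
        rcases hSco Y₀ h0 (map_subtype_le _) with e | e
        · refine absurd (le_antisymm hY.le fun v hv => ?_) hY.ne
          obtain ⟨a, rfl⟩ := hπ v
          exact (hmemS a).2 (e ▸ mem_map_of_mem H.subtype (show a ∈ Y.comap π from hv) : (a : G) ∈ S)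
        · refine eq_top_iff.2 fun v _ => ?_
          obtain ⟨a, rfl⟩ := hπ v
          obtain ⟨a', ha', e'⟩ := (e.ge a.2 : (a : G) ∈ Y₀)
          rw [← H.subtype_injective e']
          exact ha'
      · have h2 : IsPGroup 2 (N.comap π) := hN2.comap_of_ker_isPGroup π (by
          rw [QuotientGroup.ker_mk']
          exact hQ2.of_equiv (subgroupOfEquivOfLe hQH).symm)
        have hle := hQle ((N.comap π).map H.subtype) (map_subtype_le _) (h2.map _) (by
          have := (le_normalizer_map H.subtype : (normalizer ((N.comap π) : Set H)).map H.subtype ≤ _)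
          rwa [normalizer_eq_top_iff.2 (hN.comap π), ← MonoidHom.range_eq_map, range_subtype] at this)
        refine eq_bot_iff.2 fun v hv => ?_
        obtain ⟨a, rfl⟩ := hπ v
        exact mem_bot.2 ((hπ1 a).2 (hle (mem_map_of_mem _ hv)))
      · show π _ * π _ = 1
        rw [← map_mul, show (⟨z, hzH⟩ : H) * ⟨z, hzH⟩ = 1 from Subtype.ext h.z2, map_one]
      · rintro _ ⟨a, ha, rfl⟩
        show π _ * π a = π a * π _
        rw [← map_mul, ← map_mul]
        exact congrArg π (Subtype.ext (h.zc a (mem_subgroupOf.1 ha).1))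
    have hbd : Bound zq 4 := by
      rintro Y ⟨hYnon, Rq, hRq, hRY, hYn, gq, hgq⟩ U hUY hU
      obtain ⟨g, rfl⟩ := hπ gq
      have hker2 : IsPGroup 2 π.ker := by
        rw [QuotientGroup.ker_mk']
        exact hQ2.of_equiv (subgroupOfEquivOfLe hQH).symm
      have hmem : Member z ((Y.comap π).map H.subtype) := by
        refine ⟨fun hp => hYnon ?_, (Rq.comap π).map H.subtype, (hRq.comap_of_ker_isPGroup π hker2).map _,
          map_mono (comap_mono hRY), ?_, (g : G), ⟨g * ⟨z, hzH⟩ * g⁻¹, ?_, rfl⟩⟩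
        · have := (hp.of_equiv (equivMapOfInjective _ _ H.subtype_injective).symm).map π
          rwa [map_comap_eq_self_of_surjective hπ] at this
        · refine (map_mono fun a ha => ?_).trans (le_normalizer_map H.subtype)
          exact mem_normalizer_iff.2 fun v => by
            simp only [mem_comap, map_mul, map_inv]
            exact mem_normalizer_iff.1 (hYn ha) (π v)
        · show π _ ∈ Rq
          rw [map_mul, map_mul, map_inv]
          exact hgq
      have h1 := hk _ hmem ((U.comap π).map H.subtype) (map_mono (comap_mono hUY))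
        ((hU.comap_of_ker_isPGroup π hker2).map _)
      rw [card_map_of_injective H.subtype_injective] at h1
      have h2 : Nat.card (U.comap π) = Nat.card Qn * Nat.card U := by
        have h3 := (U.comap π).card_mul_index
        rw [index_comap_of_surjective U hπ, card_eq_card_quotient_mul_card_subgroup Qn, ← U.card_mul_index] at h3
        refine Nat.eq_of_mul_eq_mul_right (Nat.pos_of_ne_zero U.index_ne_zero_of_finite) ?_
        rw [h3]; ring
      rw [h2, Nat.card_congr (subgroupOfEquivOfLe hQH).toEquiv, hq] at h1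
      norm_num at h1 ⊢
      omega
    have hSq32 : Nat.card Sq = 32 := by
      have h1 := Sq.card_mul_index
      have h2 := (S.subgroupOf H).card_mul_index
      rw [index_map_eq (S.subgroupOf H) hπ (by
        rw [QuotientGroup.ker_mk']; exact fun v hv => mem_subgroupOf.2 (hQS (mem_subgroupOf.1 hv)))] at h1
      rw [card_eq_card_quotient_mul_card_subgroup Qn, ← h1, Nat.card_congr (subgroupOfEquivOfLe hQH).toEquiv,
        hq, Nat.card_congr (subgroupOfEquivOfLe (inf_le_right : S ≤ H)).toEquiv, hS64] at h2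
      refine (Nat.eq_of_mul_eq_mul_right (Nat.pos_of_ne_zero (S.subgroupOf H).index_ne_zero_of_finite) ?_).symm
      linarith
    set Rq := (R.subgroupOf H).map π
    have hQRH : Qn ≤ R.subgroupOf H := fun v hv => mem_subgroupOf.2 (hQR (mem_subgroupOf.1 hv))
    have hRq8 : Nat.card Rq = 8 := by
      have h1 := Rq.card_mul_index
      have h2 := (R.subgroupOf H).card_mul_index
      rw [index_map_eq (R.subgroupOf H) hπ (by rw [QuotientGroup.ker_mk']; exact hQRH)] at h1
      rw [card_eq_card_quotient_mul_card_subgroup Qn, ← h1, Nat.card_congr (subgroupOfEquivOfLe hQH).toEquiv,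
        hq, Nat.card_congr (subgroupOfEquivOfLe hRH).toEquiv, hR16] at h2
      refine (Nat.eq_of_mul_eq_mul_right (Nat.pos_of_ne_zero (R.subgroupOf H).index_ne_zero_of_finite) ?_).symm
      linarith
    set xq := π ⟨x, hXH hx⟩
    have hxS : xq ∉ Sq := fun e => hxP ((hmemS _).1 e).1
    have hxo' : Odd (orderOf xq) := hxo.of_dvd_nat ((orderOf_map_dvd π _).trans (orderOf_mk x (hXH hx)).dvd)
    have hxn : xq ∈ normalizer (Rq : Set (H ⧸ Qn)) := le_normalizer_map π (mem_map_of_mem π
      (mem_normalizer_iff.2 fun v => by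
        simp only [mem_subgroupOf, Subgroup.coe_mul, InvMemClass.coe_inv]
        exact mem_normalizer_iff.1 (b.nR hx) v))
    have hzRq : zq ∈ Rq := mem_map_of_mem π (mem_subgroupOf.2 b.zR)
    have hRqS : Rq ≤ Sq := map_mono fun v hv =>
      mem_subgroupOf.2 (hTS ⟨b.RX (mem_subgroupOf.1 hv), b.RP (mem_subgroupOf.1 hv)⟩)
    obtain ⟨hRqsq, hRqc⟩ := elementary_eight hctx hRqS hRq8 hzRq hxn hxo' hxS
    have hfz' : xq * zq * xq⁻¹ ≠ zq := Best.f_ne hctx hxS
    have hfR' : xq * zq * xq⁻¹ ∈ Rq := (mem_normalizer_iff.1 hxn zq).1 hzRq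
    have hfoc := focal_small hctx hbd (not_hasFour hSq2 hRqS hRq8 hRqsq) hSq32.ge (hRqS hfR') hfz'
    set D := commutator (H ⧸ Qn)
    -- the abelian quotient is a 2-group of order at least four
    have hSD : Sq ⊔ D = ⊤ := by
      refine (hctx.max.le_iff.1 le_sup_left).resolve_right fun e => hctx.z1 ?_
      have hD : D = ⊥ := hctx.core D inferInstance (hSq2.to_le (e ▸ le_sup_right))
      have hcen : ∀ g : H ⧸ Qn, g * zq = zq * g := fun g => by
        have : ⁅g, zq⁆ ∈ D := commutator_mem_commutator (mem_top g) (mem_top zq)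
        rw [hD, mem_bot, commutatorElement_eq_one_iff_mul_comm] at this
        exact this
      exact absurd (by rw [hcen, mul_inv_cancel_right]) hfz'
    have hDn : Sq ≤ normalizer (D : Set (H ⧸ Qn)) := le_normalizer_of_normal
    have h1 := CfsgLib.Solvable.card_sup_mul_card_inf hDn
    rw [hSD, card_top, hSq32] at h1
    -- the intersection with the elementary group
    have hxD : xq ∈ D := by
      have hd2 : IsPGroup 2 ((H ⧸ Qn) ⧸ D) := hSq2.of_surjective ((QuotientGroup.mk' D).comp Sq.subtype) fun v => by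
        obtain ⟨v, rfl⟩ := QuotientGroup.mk'_surjective D v
        obtain ⟨s, hs, c, hc, rfl⟩ := (CfsgLib.Solvable.mem_sup_of_le_normalizer hDn).1 (hSD.ge (mem_top v))
        exact ⟨⟨s, hs⟩, QuotientGroup.eq.2 (by simpa using hc)⟩
      obtain ⟨m, hm⟩ := hd2 (QuotientGroup.mk xq)
      have h3 := Nat.eq_one_of_dvd_coprimes (Nat.Coprime.pow_left m (Nat.coprime_two_left.2 hxo'))
        (orderOf_dvd_of_pow_eq_one hm) (orderOf_map_dvd (QuotientGroup.mk' D) xq)
      exact (QuotientGroup.eq_one_iff _).1 (orderOf_eq_one_iff.1 h3)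
    set fq := xq * zq * xq⁻¹
    have hzf : zq * fq ∈ D := by
      have : ⁅zq, xq⁆ ∈ D := commutator_mem_commutator (mem_top zq) (mem_top xq)
      rw [commutatorElement_def, inv_eq_of_mul_eq_one_right hctx.z2] at this
      simpa [fq, mul_assoc] using this
    have hzfR : zq * fq ∈ Rq := Rq.mul_mem hzRq hfR'
    set v' := xq * (zq * fq) * xq⁻¹
    have hv'R : v' ∈ Rq := (mem_normalizer_iff.1 hxn _).1 hzfR
    have hv'D : v' ∈ D := Normal.conj_mem inferInstance _ hzf xq
    have hzf1 : zq * fq ≠ 1 := fun e => hfz' (by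
      calc fq = zq * zq * fq := by rw [hctx.z2, one_mul]
        _ = zq := by rw [mul_assoc, e, mul_one])
    have hv'ne : v' ≠ zq * fq := fun e => by
      refine conj_conj_ne hctx hxo' hxS ?_
      refine mul_left_cancel (a := fq) ?_
      calc fq * (xq * fq * xq⁻¹) = v' := by simp [v', fq, mul_assoc]
        _ = zq * fq := e
        _ = fq * zq := hctx.zc fq (hRqS hfR')
    have h3 : 3 ≤ Nat.card ↥(Rq ⊓ D) := by
      have hF : ({⟨1, one_mem _⟩, ⟨_, hzfR, hzf⟩, ⟨_, hv'R, hv'D⟩} : Finset ↥(Rq ⊓ D)).card = 3 := by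
        rw [Finset.card_insert_of_notMem, Finset.card_insert_of_notMem, Finset.card_singleton]
        · simpa [Subtype.ext_iff] using hv'ne.symm
        · have hv'1 : (1 : H ⧸ Qn) ≠ v' := fun e => hzf1 (conj_eq_one_iff.1 e.symm)
          simp [Subtype.ext_iff, hzf1.symm, hv'1]
      haveI := Fintype.ofFinite ↥(Rq ⊓ D)
      exact hF ▸ (Finset.card_le_univ _).trans_eq Nat.card_eq_fintype_card.symm
    obtain ⟨i, hi⟩ := IsPGroup.iff_card.1 ((hSq2.to_le hRqS).to_le (inf_le_left : Rq ⊓ D ≤ Rq))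
    have hi2 : 4 ≤ Nat.card ↥(Rq ⊓ D) := by
      rw [hi] at h3 ⊢
      have : i ≠ 1 := fun e => by rw [e] at h3; omega
      have : i ≠ 0 := fun e => by rw [e] at h3; omega
      exact le_of_eq_of_le (by norm_num) (Nat.pow_le_pow_right two_pos (by omega : 2 ≤ i))
    set E := Rq ⊔ D
    have hE := CfsgLib.Solvable.card_sup_mul_card_inf (A := Rq) (K := D) le_normalizer_of_normal
    rw [hRq8] at hE
    change Nat.card E * _ = _ at hE
    have hElt : 2 * Nat.card E ≤ Nat.card (H ⧸ Qn) := by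
      have hd0 : 0 < Nat.card D := Nat.card_pos
      rw [hSq32] at hfoc
      have ha : Nat.card ↥(Sq ⊓ D) ≤ 8 := by omega
      have hb := Nat.mul_le_mul_left (Nat.card (H ⧸ Qn)) ha
      have hc := Nat.mul_le_mul_left (Nat.card E) hi2
      omega
    -- a normal subgroup of index two
    have hq2 : IsPGroup 2 ((H ⧸ Qn) ⧸ D) := hSq2.of_surjective ((QuotientGroup.mk' D).comp Sq.subtype) fun v => by
      obtain ⟨v, rfl⟩ := QuotientGroup.mk'_surjective D v
      obtain ⟨s, hs, c, hc, rfl⟩ := (CfsgLib.Solvable.mem_sup_of_le_normalizer hDn).1 (hSD.ge (mem_top v))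
      exact ⟨⟨s, hs⟩, QuotientGroup.eq.2 (by simpa using hc)⟩
    obtain ⟨n, hn⟩ := IsPGroup.iff_card.1 hq2
    set A := E.map (QuotientGroup.mk' D)
    obtain ⟨m, hm⟩ := IsPGroup.iff_card.1 (hq2.to_subgroup A)
    have hAi : A.index = E.index := index_map_eq E (QuotientGroup.mk'_surjective D) (by
      rw [QuotientGroup.ker_mk']; exact le_sup_right)
    have hEi : 2 ≤ E.index := by
      have := E.card_mul_index
      by_contra hlt
      have h1 : E.index = 1 := by have := E.index_ne_zero_of_finite; omega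
      rw [h1, mul_one] at this
      have : 0 < Nat.card E := Nat.card_pos
      omega
    have hmn : m < n := by
      have := A.card_mul_index
      rw [hn, hm, hAi] at this
      by_contra hge
      push Not at hge
      have h2 := Nat.pow_le_pow_right two_pos hge
      have h3 := Nat.mul_le_mul h2 hEi
      have := Nat.two_pow_pos n
      omega
    obtain ⟨M, hM, hAM⟩ := Sylow.exists_subgroup_card_pow_prime_le 2 (m := n - 1)
      (hn ▸ pow_dvd_pow 2 (Nat.sub_le n 1)) A hm (by omega)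
    have hMi : M.index = 2 := by
      have := M.card_mul_index
      rw [hn, hM, ← Nat.sub_add_cancel (show 1 ≤ n by omega), pow_succ, Nat.add_sub_cancel] at this
      exact Nat.eq_of_mul_eq_mul_left (Nat.two_pow_pos _) this
    set N₀ : Subgroup H := (M.comap (QuotientGroup.mk' D)).comap π
    have hN₀i : N₀.index = 2 := by
      rw [index_comap_of_surjective _ hπ, index_comap_of_surjective _ (QuotientGroup.mk'_surjective D), hMi]
    haveI := normal_of_index_eq_two hN₀i
    refine hfinish (N₀.map H.subtype) (map_subtype_le _) ?_ ?_ ⟨⟨x, hXH hx⟩, hAM (mem_map_of_mem _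
      (mem_sup_right hxD)), rfl⟩ ?_
    · have := (le_normalizer_map H.subtype : (normalizer (N₀ : Set H)).map H.subtype ≤ _)
      rwa [normalizer_eq_top_iff.2 inferInstance, ← MonoidHom.range_eq_map, range_subtype] at this
    · intro r hr
      exact ⟨⟨r, hRH hr⟩, hAM (mem_map_of_mem _ (mem_sup_left (mem_map_of_mem π (mem_subgroupOf.2 hr)))), rfl⟩
    · have hne : ¬ S.subgroupOf H ≤ N₀ := fun hle => by
        have hle' : S ≤ N₀.map H.subtype := fun s hs => ⟨⟨s, inf_le_right (a := P) hs⟩, hle (mem_subgroupOf.2 hs), rfl⟩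
        rcases hSco _ hle' (map_subtype_le _) with e | e
        · exact hxP (e ▸ ⟨⟨x, hXH hx⟩, hAM (mem_map_of_mem _ (mem_sup_right hxD)), rfl⟩ : x ∈ S).1
        · have : N₀ = ⊤ := eq_top_iff.2 fun a _ => by
            obtain ⟨a', ha', e'⟩ := (e.ge a.2 : (a : G) ∈ N₀.map H.subtype)
            rwa [← H.subtype_injective e']
          rw [this, index_top] at hN₀i
          omega
      have hrel : N₀.relIndex (S.subgroupOf H) = 2 := by
        refine le_antisymm (hN₀i ▸ Nat.le_of_dvd (by omega) (relIndex_dvd_index_of_normal N₀ _)) ?_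
        have h1 : N₀.relIndex (S.subgroupOf H) ≠ 1 := fun e => hne (relIndex_eq_one.1 e)
        have h2 : N₀.relIndex (S.subgroupOf H) ≠ 0 := index_ne_zero_of_finite
        omega
      have hm' := relIndex_mul_relIndex ⊥ (N₀ ⊓ S.subgroupOf H) (S.subgroupOf H) bot_le inf_le_right
      rw [relIndex_bot_left, relIndex_bot_left, inf_relIndex_right, hrel,
        Nat.card_congr (subgroupOfEquivOfLe (inf_le_right : S ≤ H)).toEquiv, hS64] at hm'
      have hmap : S ⊓ N₀.map H.subtype = (N₀ ⊓ S.subgroupOf H).map H.subtype := by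
        rw [map_inf _ _ _ H.subtype_injective, map_subgroupOf_eq_of_le inf_le_right, inf_comm]
      rw [hmap, card_map_of_injective H.subtype_injective]
      omega
  · -- `Q` of order four
    have hQc : ∀ a ∈ Q, ∀ c ∈ Q, a * c = c * a := fun a ha c hc =>
      congrArg Subtype.val (IsPGroup.commutative_of_card_eq_prime_sq (p := 2) hq ⟨a, ha⟩ ⟨c, hc⟩)
    -- `R` is generated by `Q`, `z` and `f`
    have hgen : ∀ K : Subgroup G, Q ≤ K → z ∈ K → f ∈ K → R ≤ K := by
      intro K hQK hzK hfK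
      obtain ⟨V, hV4, hzV, hfV, hVmem, -⟩ := exists_four h.z2 hf2 h.z1 (fun e => hfQ (e ▸ Q.one_mem))
        (fun e => hzfQ (by rw [← e, h.z2]; exact Q.one_mem)) (h.zc f (b.RP hfR))
      have hVR : V ≤ R := fun v hv => by
        rcases (hVmem v).1 hv with rfl | rfl | rfl | rfl
        exacts [R.one_mem, b.zR, hfR, R.mul_mem b.zR hfR]
      have hVK : V ≤ K := fun v hv => by
        rcases (hVmem v).1 hv with rfl | rfl | rfl | rfl
        exacts [K.one_mem, hzK, hfK, K.mul_mem hzK hfK]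
      have hVQ : V ⊓ Q = ⊥ := eq_bot_iff.2 fun v ⟨hv, hvQ⟩ => by
        rcases (hVmem v).1 hv with rfl | rfl | rfl | rfl
        exacts [mem_bot.2 rfl, absurd hvQ hzQ, absurd hvQ hfQ, absurd hvQ hzfQ]
      have h1 := CfsgLib.Solvable.card_sup_of_disjoint ((hVR.trans hRH).trans hHQ) hVQ
      rw [hV4, hq] at h1
      rw [← eq_of_le_of_card_ge (_root_.sup_le hVR hQR) (by rw [h1, hR16]; norm_num)]
      exact _root_.sup_le hVK hQK
    have hRC : R ≤ C := by
      refine hgen C (fun v hv => ⟨hQH hv, mem_centralizer_iff.2 fun w hw => hQc w hw v hv⟩) hzC ?_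
      refine ⟨hRH hfR, mem_centralizer_iff.2 fun w hw => ?_⟩
      exact (b.f_central h hx (hQR hw)).symm
    -- some element of the Sylow subgroup moves `f` modulo `Q`
    obtain ⟨c, hcT, hcf⟩ : ∃ c ∈ X ⊓ P, c * f * c⁻¹ * f⁻¹ ∉ Q := by
      by_contra hcon
      push Not at hcon
      let M : Subgroup G :=
        { carrier := {g | g ∈ X ∧ ∀ r ∈ R, g * r * g⁻¹ * r⁻¹ ∈ Q}
          one_mem' := ⟨X.one_mem, fun r _ => by simp⟩
          mul_mem' := fun {g g'} hg hg' => ⟨X.mul_mem hg.1 hg'.1, fun r hr => by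
            have h1 := hg.2 _ ((mem_normalizer_iff.1 (b.nR hg'.1) r).1 hr)
            have h2 := hg'.2 r hr
            have := Q.mul_mem h1 h2
            simpa [mul_assoc] using this⟩
          inv_mem' := fun {g} hg => ⟨X.inv_mem hg.1, fun r hr => by
            have hr' : g⁻¹ * r * g ∈ R := by simpa using (mem_normalizer_iff.1 (b.nR (X.inv_mem hg.1)) r).1 hr
            have := Q.inv_mem (hg.2 _ hr')
            simpa [mul_assoc] using this⟩ }
      have hMn : X ≤ normalizer (M : Set G) := fun a ha => by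
        have key : ∀ a ∈ X, ∀ g ∈ M, a * g * a⁻¹ ∈ M := fun a ha g hg =>
          ⟨X.mul_mem (X.mul_mem ha hg.1) (X.inv_mem ha), fun r hr => by
            have hr' : a⁻¹ * r * a ∈ R := by simpa using (mem_normalizer_iff.1 (b.nR (X.inv_mem ha)) r).1 hr
            have := (mem_normalizer_iff.1 (hHQ (hXH ha)) _).1 (hg.2 _ hr')
            simpa [mul_assoc] using this⟩
        exact mem_normalizer_iff.2 fun g => ⟨key a ha g, fun hg => by
          simpa [mul_assoc] using key a⁻¹ (X.inv_mem ha) _ hg⟩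
      have hTM : X ⊓ P ≤ M := by
        intro g hg
        refine ⟨hg.1, fun r hr => ?_⟩
        let K : Subgroup G :=
          { carrier := {r | r ∈ R ∧ g * r * g⁻¹ * r⁻¹ ∈ Q}
            one_mem' := ⟨R.one_mem, by simp⟩
            mul_mem' := fun {r r'} hr hr' => ⟨R.mul_mem hr.1 hr'.1, by
              have h2 := (mem_normalizer_iff.1 (hHQ (hRH hr.1)) _).1 hr'.2
              have := Q.mul_mem hr.2 h2
              simpa [mul_assoc] using this⟩
            inv_mem' := fun {r} hr => ⟨R.inv_mem hr.1, by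
              have := (mem_normalizer_iff.1 (hHQ (hRH (R.inv_mem hr.1))) _).1 (Q.inv_mem hr.2)
              simpa [mul_assoc] using this⟩ }
        refine (hgen K (fun v hv => ⟨hQR hv, Q.mul_mem ((mem_normalizer_iff.1 (hHQ (hXH hg.1)) v).1 hv)
          (Q.inv_mem hv)⟩) ⟨b.zR, ?_⟩ ⟨hfR, hcon g hg⟩ hr).2
        rw [← h.zc g hg.2]; simp
      have hMX : M ≤ X := fun g hg => hg.1
      rcases b.maximal h hk hTM hMX with e | e
      · exact b.not_normalizes h hk (e ▸ hMn)
      · obtain ⟨-, hxm⟩ := (e.ge hx : x ∈ M)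
        refine hzfQ ?_
        have := hxm z b.zR
        rwa [inv_eq_of_mul_eq_one_right h.z2, show x * z * x⁻¹ * z = f * z from rfl, ← h.zc f (b.RP hfR)] at this
    -- the conjugates of the central elements lie in `z Q`
    have hzQ' : ∀ e ∈ Q, (∀ s ∈ S, e * s = s * e) → e ≠ 1 → z * (y' * e * y'⁻¹) ∈ Q := by
      intro e he hec he1
      obtain ⟨hR, hc, hnot⟩ := hconjR e he hec
      have hcen := hc c (hTS hcT)
      set e' := y' * e * y'⁻¹
      have hcases : ∀ r ∈ R, r ∈ Q ∨ z * r ∈ Q ∨ f * r ∈ Q ∨ z * (f * r) ∈ Q := by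
        intro r hr
        obtain ⟨V, hV4, hzV, hfV, hVmem, -⟩ := exists_four h.z2 hf2 h.z1 (fun e => hfQ (e ▸ Q.one_mem))
          (fun e => hzfQ (by rw [← e, h.z2]; exact Q.one_mem)) (h.zc f (b.RP hfR))
        have hVR : V ≤ R := fun v hv => by
          rcases (hVmem v).1 hv with rfl | rfl | rfl | rfl
          exacts [R.one_mem, b.zR, hfR, R.mul_mem b.zR hfR]
        have hVn : V ≤ normalizer (Q : Set G) := (hVR.trans hRH).trans hHQ
        have hr' : r ∈ V ⊔ Q := hgen (V ⊔ Q) le_sup_right (mem_sup_left hzV) (mem_sup_left hfV) hr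
        obtain ⟨v, hv, w, hw, rfl⟩ := (CfsgLib.Solvable.mem_sup_of_le_normalizer hVn).1 hr'
        have hv2 : v * v = 1 := by
          rcases (hVmem v).1 hv with rfl | rfl | rfl | rfl
          · exact one_mul 1
          · exact h.z2
          · exact hf2
          · rw [mul_assoc, ← mul_assoc f z, ← h.zc f (b.RP hfR), mul_assoc z f f, hf2, mul_one, h.z2]
        rcases (hVmem v).1 hv with rfl | rfl | rfl | rfl
        · exact Or.inl (by simpa using hw)
        · exact Or.inr (Or.inl (by rwa [← mul_assoc, hv2, one_mul]))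
        · exact Or.inr (Or.inr (Or.inl (by rwa [← mul_assoc, hv2, one_mul])))
        · refine Or.inr (Or.inr (Or.inr ?_))
          rwa [← mul_assoc, ← mul_assoc, hv2, one_mul]
      have hbad : ∀ a : G, a * e' ∈ Q → c * a * c⁻¹ * a⁻¹ ∈ Q := fun a ha => by
        have h1 := (mem_normalizer_iff.1 (hHQ (hTS hcT).2) _).1 ha
        have := Q.mul_mem h1 (Q.inv_mem ha)
        rwa [show c * (a * e') * c⁻¹ * (a * e')⁻¹ = c * a * (e' * c⁻¹) * e'⁻¹ * a⁻¹ by group,
          show e' * c⁻¹ = c⁻¹ * e' from (show Commute e' c from hcen).inv_right.eq,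
          show c * a * (c⁻¹ * e') * e'⁻¹ * a⁻¹ = c * a * c⁻¹ * a⁻¹ by group] at this
      rcases hcases e' hR with h1 | h1 | h1 | h1
      · exact absurd (hnot h1) he1
      · exact h1
      · exact absurd (hbad f h1) hcf
      · rw [← mul_assoc] at h1
        refine absurd ?_ hcf
        have h2 := hbad _ h1
        rwa [show c * (z * f) * c⁻¹ * (z * f)⁻¹ = z * (c * f * c⁻¹ * f⁻¹) * z⁻¹ by
          rw [← mul_assoc c z f, ← h.zc c hcT.2]; group, ← mem_normalizer_iff.1 (hHQ hzH)] at h2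
    have hcenQ : ∀ e ∈ Q, (∀ s ∈ S, e * s = s * e) → e = 1 ∨ e = u := by
      intro e he hec
      by_cases he1 : e = 1
      · exact Or.inl he1
      right
      have h1 := hzQ' e he hec he1
      have h2 := hzQ' u huQ huS hu1
      have h3 := hinter (y' * (e⁻¹ * u) * y'⁻¹) ?_ ⟨_, Q.mul_mem (Q.inv_mem he) huQ, rfl⟩
      · exact inv_mul_eq_one.1 (conj_eq_one_iff.1 h3)
      · have := Q.mul_mem (Q.inv_mem h1) h2
        rwa [show (z * (y' * e * y'⁻¹))⁻¹ * (z * (y' * u * y'⁻¹)) = y' * (e⁻¹ * u) * y'⁻¹ by group] at this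
    -- the centralizer of `Q` has index two on `S`
    obtain ⟨v, hvQ, hv1, hvu⟩ : ∃ v ∈ Q, v ≠ 1 ∧ v ≠ u := by
      by_contra hcon
      push Not at hcon
      have := Nat.card_le_card_of_injective (fun w : Q => (⟨(w : G), by
        by_cases hh : (w : G) = 1
        · simp [hh]
        · simp [hcon w w.2 hh]⟩ : ({1, u} : Finset G))) fun a c e => Subtype.ext (congrArg Subtype.val e :)
      rw [hq, Nat.card_eq_fintype_card (α := ({1, u} : Finset G)), Fintype.card_coe] at this
      have := Finset.card_le_two (a := (1 : G)) (b := u)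
      omega
    have hQlist : ∀ w ∈ Q, w = 1 ∨ w = u ∨ w = v ∨ w = v * u := by
      intro w hw
      by_contra hcon
      push Not at hcon
      haveI := Fintype.ofFinite Q
      have hF : ({⟨1, Q.one_mem⟩, ⟨u, huQ⟩, ⟨v, hvQ⟩, ⟨v * u, Q.mul_mem hvQ huQ⟩, ⟨w, hw⟩} : Finset Q).card = 5 := by
        have h1 : v * u ≠ 1 := fun e => hvu ((eq_inv_of_mul_eq_one_left e).trans (inv_eq_of_mul_eq_one_right hu2))
        have h2 : v * u ≠ u := fun e => hv1 (mul_eq_right.1 e)
        have h3 : v * u ≠ v := fun e => hu1 (mul_eq_left.1 e)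
        simp [Subtype.ext_iff, hcon.1.symm, hcon.2.1.symm, hcon.2.2.1.symm, hcon.2.2.2.symm, hu1.symm,
          hv1.symm, h1.symm, Ne.symm hvu, h2.symm, h3.symm]
      have := (Finset.card_le_univ ({⟨1, Q.one_mem⟩, ⟨u, huQ⟩, ⟨v, hvQ⟩, ⟨v * u, Q.mul_mem hvQ huQ⟩,
        ⟨w, hw⟩} : Finset Q)).trans_eq (Nat.card_eq_fintype_card.symm.trans hq)
      omega
    have hact : ∀ s ∈ S, s * v * s⁻¹ = v ∨ s * v * s⁻¹ = v * u := by
      intro s hs
      rcases hQlist _ ((mem_normalizer_iff.1 (hHQ hs.2) v).1 hvQ) with e | e | e | e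
      · exact absurd (conj_eq_one_iff.1 e) hv1
      · refine absurd ?_ hvu
        calc v = s⁻¹ * (s * v * s⁻¹) * s := by group
          _ = s⁻¹ * (u * s) := by rw [e]; group
          _ = u := by rw [huS s hs, inv_mul_cancel_left]
      · exact Or.inl e
      · exact Or.inr e
    have hSC' : ∀ s ∈ S, s * v * s⁻¹ = v → s ∈ C := fun s hs e => ⟨hs.2, mem_centralizer_iff.2 fun w hw => by
      rcases hQlist w hw with rfl | rfl | rfl | rfl
      · simp
      · exact huS s hs
      · exact (mul_inv_eq_iff_eq_mul.1 e).symm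
      · rw [mul_assoc, huS s hs, ← mul_assoc, ← mul_inv_eq_iff_eq_mul.1 e, mul_assoc]⟩
    have hcard : Nat.card ↥(S ⊓ C) = 32 := by
      obtain ⟨s₀, hs₀, hs₀C⟩ : ∃ s ∈ S, s ∉ C := by
        by_contra hcon
        push Not at hcon
        rcases hcenQ v hvQ fun s hs => mem_centralizer_iff.1 (hcon s hs).2 v hvQ with e | e
        exacts [hv1 e, hvu e]
      have h1 : Nat.card S = 2 * Nat.card ↥(S ⊓ C) := CfsgLib.DihedralEdge.card_eq_two_mul inf_le_left
        ⟨s₀, hs₀, fun e => hs₀C e.2⟩ fun a ha c hc ha' hc' => by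
          have ea := (hact a ha).resolve_left fun e => ha' ⟨ha, hSC' a ha e⟩
          have ec := (hact c hc).resolve_left fun e => hc' ⟨hc, hSC' c hc e⟩
          refine ⟨S.mul_mem ha hc, hSC' _ (S.mul_mem ha hc) ?_⟩
          calc a * c * v * (a * c)⁻¹ = a * (c * v * c⁻¹) * a⁻¹ := by group
            _ = a * (v * u) * a⁻¹ := by rw [ec]
            _ = a * v * a⁻¹ * (a * u * a⁻¹) := by group
            _ = v * u * u := by rw [ea, ← huS a ha, mul_inv_cancel_right]
            _ = v := by rw [mul_assoc, hu2, mul_one]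
      rw [hS64] at h1
      omega
    exact hfinish C inf_le_left hCH hRC hxC hcard

end CfsgLib.MaxTwo
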