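import Cfsg.Agent.MaxTwo.Best

/-!
# The small case: a four-group or an elementary group of order eight
-/

set_option autoImplicit false
set_option linter.style.haveILetI false
set_option linter.unusedSectionVars false

namespace CfsgLib.MaxTwo

open Subgroup

universe u

variable {G : Type u} [Group G] [Finite G] {P : Subgroup G} {z : G}

/-- A four-group which is its own centralizer in `P`. -/
def HasFour (P : Subgroup G) : Prop :=
  ∃ V : Subgroup G, V ≤ P ∧ Nat.card V = 4 ∧ (∀ v ∈ V, v * v = 1) ∧ P ⊓ centralizer (V : Set G) ≤ V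

theorem pow_two_card {A : Subgroup G} (hA : IsPGroup 2 A) {a b : ℕ} (h1 : 2 ^ a ≤ Nat.card A)
    (h2 : Nat.card A ≤ 2 ^ b) : ∃ j, a ≤ j ∧ j ≤ b ∧ Nat.card A = 2 ^ j := by
  obtain ⟨j, hj⟩ := IsPGroup.iff_card.1 hA
  rw [hj] at h1 h2
  exact ⟨j, (Nat.pow_le_pow_iff_right Nat.one_lt_two).1 h1, (Nat.pow_le_pow_iff_right Nat.one_lt_two).1 h2, hj⟩

/-- Two commuting involutions make a four-group. -/
theorem exists_four {a b : G} (ha : a * a = 1) (hb : b * b = 1) (ha1 : a ≠ 1) (hb1 : b ≠ 1) (hab : a ≠ b)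
    (hc : a * b = b * a) : ∃ V : Subgroup G, Nat.card V = 4 ∧ a ∈ V ∧ b ∈ V ∧
      (∀ v : G, v ∈ V ↔ v = 1 ∨ v = a ∨ v = b ∨ v = a * b) ∧ (∀ v ∈ V, v * v = 1) := by
  classical
  have hinv : a⁻¹ = a := inv_eq_of_mul_eq_one_right ha
  have hinvb : b⁻¹ = b := inv_eq_of_mul_eq_one_right hb
  let V : Subgroup G :=
    { carrier := {v | v = 1 ∨ v = a ∨ v = b ∨ v = a * b}
      one_mem' := Or.inl rfl
      mul_mem' := by
        have e1 : a * (a * b) = b := by rw [← mul_assoc, ha, one_mul]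
        have e2 : b * (a * b) = a := by rw [hc, ← mul_assoc, hb, one_mul]
        have e3 : a * b * a = b := by rw [hc, mul_assoc, ha, mul_one]
        have e4 : a * b * b = a := by rw [mul_assoc, hb, mul_one]
        have e5 : a * b * (a * b) = 1 := by rw [← mul_assoc, e3, hb]
        rintro x y (rfl | rfl | rfl | rfl) (rfl | rfl | rfl | rfl) <;>
          simp [ha, hb, e1, e2, e3, e4, e5, ← hc]
      inv_mem' := by
        rintro x (rfl | rfl | rfl | rfl) <;> simp [hinv, hinvb, hc] }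
  have hmem : ∀ v : G, v ∈ V ↔ v = 1 ∨ v = a ∨ v = b ∨ v = a * b := fun v => Iff.rfl
  refine ⟨V, ?_, Or.inr (Or.inl rfl), Or.inr (Or.inr (Or.inl rfl)), hmem, ?_⟩
  · have : (V : Set G) = ↑({1, a, b, a * b} : Finset G) := by ext v; simp [hmem]
    rw [← SetLike.coe_sort_coe, this, Nat.card_coe_set_eq, Set.ncard_coe_finset]
    have h1 : a * b ≠ 1 := fun e => hab (by rw [← hinv]; exact (eq_inv_of_mul_eq_one_right e).symm)
    rw [Finset.card_insert_of_notMem, Finset.card_insert_of_notMem, Finset.card_insert_of_notMem,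
      Finset.card_singleton]
    · simp [ha1]
    · simp [hb1, hab, Ne.symm hb1]
    · simp [ha1.symm, hb1.symm, h1.symm]
  · rintro v (rfl | rfl | rfl | rfl)
    · exact one_mul 1
    · exact ha
    · exact hb
    · rw [← mul_assoc, mul_assoc a b a, ← hc, ← mul_assoc, ha, one_mul, hb]

theorem odd_not_sq (h : Ctx P z) {x : G} (hx : Odd (orderOf x)) (hxP : x ∉ P) : x ^ 2 ∉ P := by
  intro hx2
  obtain ⟨m, hm⟩ := hx
  have : (x ^ 2) ^ (m + 1) = x := by
    rw [← pow_mul, show 2 * (m + 1) = orderOf x + 1 by omega, pow_succ, pow_orderOf_eq_one, one_mul]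
  exact hxP (this ▸ pow_mem hx2 _)

theorem conj_conj_ne (h : Ctx P z) {x : G} (hx : Odd (orderOf x)) (hxP : x ∉ P) :
    x * (x * z * x⁻¹) * x⁻¹ ≠ z := fun e => odd_not_sq h hx hxP (h.mem_P_of_fix (by
  rw [pow_two, mul_inv_rev]; simpa [mul_assoc] using e))

/-- An invariant subgroup of order eight containing `z` is elementary. -/
theorem elementary_eight (h : Ctx P z) {E : Subgroup G} (hEP : E ≤ P) (hE : Nat.card E = 8) (hz : z ∈ E)
    {x : G} (hxE : x ∈ normalizer (E : Set G)) (hx : Odd (orderOf x)) (hxP : x ∉ P) :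
    (∀ e ∈ E, e * e = 1) ∧ ∀ a ∈ E, ∀ b ∈ E, a * b = b * a := by
  suffices hsq : ∀ e ∈ E, e * e = 1 from ⟨hsq, fun a ha b hb => by
    have hab := hsq _ (E.mul_mem ha hb)
    calc a * b = a * (a * b * (a * b)) * b := by rw [hab, mul_one]
      _ = a * a * (b * a) * (b * b) := by group
      _ = b * a := by rw [hsq a ha, hsq b hb, one_mul, mul_one]⟩
  set f := x * z * x⁻¹
  have hfE : f ∈ E := (mem_normalizer_iff.1 hxE z).1 hz
  have hfc : ∀ e ∈ E, f * e = e * f := fun e he => by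
    have he' : x⁻¹ * e * x ∈ P := hEP (by simpa using (mem_normalizer_iff.1 (inv_mem hxE) e).1 he)
    exact (mem_centralizer_singleton_iff.1 (h.mem_cent_conj.2 he')).symm
  have hfz : f ≠ z := fun e => hxP (h.mem_P_of_fix e)
  have hf2 : f * f = 1 := by
    rw [show f * f = x * (z * z) * x⁻¹ by simp [f, mul_assoc], h.z2]; group
  have hf1 : f ≠ 1 := fun e => h.z1 (conj_eq_one_iff.1 e)
  obtain ⟨F, hF4, hzF, hfF, hFmem, hF2⟩ := exists_four h.z2 hf2 h.z1 hf1 hfz.symm (h.zc f (hEP hfE))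
  have hFE : F ≤ E := fun v hv => by
    rcases (hFmem v).1 hv with rfl | rfl | rfl | rfl
    exacts [E.one_mem, hz, hfE, E.mul_mem hz hfE]
  have hFc : ∀ a ∈ F, ∀ e ∈ E, a * e = e * a := fun a ha e he => by
    rcases (hFmem a).1 ha with rfl | rfl | rfl | rfl
    · rw [one_mul, mul_one]
    · exact h.zc e (hEP he)
    · exact hfc e he
    · rw [mul_assoc, hfc e he, ← mul_assoc, h.zc e (hEP he), mul_assoc]
  have h2 : (F.subgroupOf E).index = 2 := by
    have := (F.subgroupOf E).index_mul_card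
    rw [Nat.card_congr (subgroupOfEquivOfLe hFE).toEquiv, hF4, hE] at this
    omega
  intro e he
  set s := e * e
  have hsF : s ∈ F := mem_subgroupOf.1 (mul_self_mem_of_index_two h2 ⟨e, he⟩)
  obtain ⟨r, hr, hr'⟩ : ∃ r ∈ E, r * r = x * s * x⁻¹ :=
    ⟨x * e * x⁻¹, (mem_normalizer_iff.1 hxE e).1 he, by simp [s, mul_assoc]⟩
  by_cases heF : e ∈ F
  · exact hF2 e heF
  have hr'' : r * r = 1 ∨ r * r = s := by
    by_cases hrF : r ∈ F
    · exact Or.inl (hF2 r hrF)
    · right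
      have hm : e⁻¹ * r ∈ F := by
        have := (mul_mem_iff_of_index_two h2 (a := (⟨e, he⟩ : E)⁻¹) (b := ⟨r, hr⟩))
        simp only [inv_mem_iff, mem_subgroupOf, InvMemClass.coe_inv, Subgroup.coe_mul, hrF, heF] at this
        exact this.2 trivial
      have hc := hFc _ hm e he
      calc r * r = e * (e⁻¹ * r) * e * (e⁻¹ * r) := by group
        _ = e * (e * (e⁻¹ * r)) * (e⁻¹ * r) := by rw [mul_assoc e _ e, hc]
        _ = s * ((e⁻¹ * r) * (e⁻¹ * r)) := by simp [s, mul_assoc]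
        _ = s := by rw [hF2 _ hm, mul_one]
  rcases hr'' with e1 | e1 <;> rw [hr'] at e1
  · exact conj_eq_one_iff.1 e1
  · rcases (hFmem s).1 hsF with e2 | e2 | e2 | e2
    · exact e2
    · exact absurd (h.mem_P_of_fix (e2 ▸ e1)) hxP
    · refine absurd (h.mem_P_of_fix ?_) hxP
      rw [e2] at e1
      exact mul_left_cancel (mul_right_cancel e1)
    · rw [e2] at e1
      have e3 : x * f * x⁻¹ = z := by
        have e4 : f * (x * f * x⁻¹) = f * z := by
          calc f * (x * f * x⁻¹) = x * (z * f) * x⁻¹ := by simp [f, mul_assoc]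
            _ = z * f := e1
            _ = f * z := h.zc f (hEP hfE)
        exact mul_left_cancel e4
      exact absurd e3 (conj_conj_ne h hx hxP)

/-- The data of the case with an elementary group of order eight. -/
structure EightData (P : Subgroup G) (z f : G) (E : Subgroup G) : Prop where
  card : Nat.card E = 8
  EP : E ≤ P
  sq : ∀ e ∈ E, e * e = 1
  comm : ∀ a ∈ E, ∀ b ∈ E, a * b = b * a
  zE : z ∈ E
  fE : f ∈ E
  fne : f ≠ z
  conj : ∃ g : G, g * z * g⁻¹ = f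
  cent : P ⊓ centralizer ({f} : Set G) = E
  norm : Nat.card ↥(P ⊓ normalizer (E : Set G)) ≤ 16
  moved : ∃ x : G, x ∈ normalizer (E : Set G) ∧ Odd (orderOf x) ∧ x ∉ P

theorem data_of_conj (h : Ctx P z) (hk : Bound z 4) (hno : ¬ HasFour P) {g : G} (hf : g * z * g⁻¹ ∈ P)
    (hne : g * z * g⁻¹ ≠ z) :
    EightData P z (g * z * g⁻¹) (P ⊓ centralizer ({g * z * g⁻¹} : Set G)) := by
  set f := g * z * g⁻¹ with hfdef
  set D := P ⊓ centralizer ({f} : Set G) with hD
  have hle8 : ∀ a : G, a * z * a⁻¹ ∈ P → a * z * a⁻¹ ≠ z →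
      Nat.card ↥(P ⊓ centralizer ({a * z * a⁻¹} : Set G)) ≤ 8 := fun a ha ha' => by
    have h' := h.two_mul_inter hk ha ha'
    exact Nat.le_of_mul_le_mul_left (show 2 * _ ≤ 2 * 8 from h'.trans_eq (by norm_num)) two_pos
  have hzD : z ∈ D := ⟨h.zP, mem_centralizer_singleton_iff.2 (h.zc f hf)⟩
  have hfD : f ∈ D := ⟨hf, mem_centralizer_singleton_iff.2 rfl⟩
  have hf2 : f * f = 1 := by
    rw [show f * f = g * (z * z) * g⁻¹ by simp [hfdef, mul_assoc], h.z2]; group
  have hf1 : f ≠ 1 := fun e => h.z1 (conj_eq_one_iff.1 e)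
  obtain ⟨V, hV4, hzV, hfV, hVmem, hV2⟩ := exists_four h.z2 hf2 h.z1 hf1 (Ne.symm hne) (h.zc f hf)
  have hVD : V ≤ D := fun v hv => by
    rcases (hVmem v).1 hv with rfl | rfl | rfl | rfl
    exacts [D.one_mem, hzD, hfD, D.mul_mem hzD hfD]
  have h4 : 4 ≤ Nat.card D := hV4 ▸ Nat.card_le_card_of_injective _ (inclusion_injective hVD)
  obtain ⟨j, hj2, hj3, hj⟩ := pow_two_card (h.p2.to_le inf_le_left : IsPGroup 2 D) (a := 2) (b := 3)
    h4 (hle8 g hf hne)
  obtain rfl : j = 3 := by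
    by_contra hne3
    obtain rfl : j = 2 := by omega
    refine hno ⟨V, hVD.trans inf_le_left, hV4, hV2, ?_⟩
    rw [eq_of_le_of_card_ge hVD (by rw [hV4, hj]; norm_num)]
    exact fun c hc => ⟨hc.1, mem_centralizer_singleton_iff.2 (mem_centralizer_iff.1 hc.2 f hfD).symm⟩
  have hN : ¬ IsPGroup 2 (normalizer (D : Set G)) := h.normalizer_not_two hf hne fun a ha ha' hlt => by
    have hl := Set.Finite.card_lt_card (Set.toFinite _) (SetLike.coe_ssubset_coe.2 hlt)
    exact (hl.trans_le (hle8 a ha ha')).not_ge (by rw [SetLike.coe_sort_coe, hj]; norm_num)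
  have hm : Member z (normalizer (D : Set G)) :=
    ⟨hN, D, h.p2.to_le inf_le_left, le_normalizer, le_rfl, 1, by simpa using hzD⟩
  obtain ⟨x, hx, hx1, hxo⟩ := exists_odd_element hN
  have hxP : x ∉ P := fun hP => not_two_group hP hx1 hxo h.p2
  obtain ⟨hsq, hcomm⟩ := elementary_eight h inf_le_left (by rw [hj]; norm_num) hzD hx hxo hxP
  refine ⟨by rw [hj]; norm_num, inf_le_left, hsq, hcomm, hzD, hfD, hne, ⟨g, rfl⟩, rfl, ?_, x, hx, hxo, hxP⟩
  simpa using h.card_lt hk hm inf_le_right (h.p2.to_le inf_le_left : IsPGroup 2 ↥(P ⊓ normalizer (D : Set G)))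

namespace Best

variable {k : ℕ} {X R : Subgroup G}

theorem four_le (h : Ctx P z) (b : Best P z k X R) {x : G} (hx : x ∈ X) (hxP : x ∉ P) :
    ∃ V : Subgroup G, V ≤ R ∧ Nat.card V = 4 ∧ z ∈ V ∧ x * z * x⁻¹ ∈ V ∧
      (∀ v : G, v ∈ V ↔ v = 1 ∨ v = z ∨ v = x * z * x⁻¹ ∨ v = z * (x * z * x⁻¹)) ∧
      (∀ v ∈ V, v * v = 1) := by
  have hf := b.f_mem hx
  obtain ⟨V, h4, hzV, hfV, hmem, h2⟩ := exists_four h.z2
    (show x * z * x⁻¹ * (x * z * x⁻¹) = 1 by
      rw [show x * z * x⁻¹ * (x * z * x⁻¹) = x * (z * z) * x⁻¹ by group, h.z2]; group)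
    h.z1 (fun e => h.z1 (conj_eq_one_iff.1 e)) (f_ne h hxP).symm (h.zc _ (b.RP hf))
  refine ⟨V, fun v hv => ?_, h4, hzV, hfV, hmem, h2⟩
  rcases (hmem v).1 hv with rfl | rfl | rfl | rfl
  exacts [R.one_mem, b.zR, hf, R.mul_mem b.zR hf]

theorem card_R_ge (h : Ctx P z) (b : Best P z k X R) : 4 ≤ Nat.card R := by
  obtain ⟨x, hx, hxP, -⟩ := b.exists_odd h
  obtain ⟨V, hV, h4, -⟩ := b.four_le h hx hxP
  exact h4 ▸ Nat.card_le_card_of_injective _ (inclusion_injective hV)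

/-- Small `R`. -/
theorem four_or_eight (h : Ctx P z) (hk : Bound z k) (b : Best P z k X R) (h8 : Nat.card R ≤ 8) :
    (Nat.card R = 4 ∧ HasFour P ∧ (∀ r ∈ R, r * r = 1)) ∨
      (Nat.card R = 8 ∧ (∀ r ∈ R, r * r = 1) ∧ ∀ a ∈ R, ∀ c ∈ R, a * c = c * a) := by
  obtain ⟨x, hx, hxP, hxo⟩ := b.exists_odd h
  obtain ⟨j, hj2, hj3, hj⟩ := pow_two_card (h.p2.to_le b.RP : IsPGroup 2 R) (a := 2) (b := 3)
    (by simpa using b.card_R_ge h) (by simpa using h8)
  obtain rfl | rfl : j = 2 ∨ j = 3 := by omega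
  · obtain ⟨V, hV, h4, -, -, -, h2⟩ := b.four_le h hx hxP
    obtain rfl : V = R := eq_of_le_of_card_ge hV (by rw [h4, hj]; norm_num)
    exact Or.inl ⟨h4, ⟨V, b.RP, h4, h2, b.centralizer_R h hk⟩, h2⟩
  · exact Or.inr ⟨hj.trans (by norm_num), elementary_eight h b.RP (hj.trans (by norm_num)) b.zR (b.nR hx) hxo hxP⟩

end Best

end CfsgLib.MaxTwo
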