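import Cfsg.Agent.MaxTwo.Push
import Cfsg.Agent.MaxTwo.Focal
import Cfsg.Agent.ZStar.Final
import Cfsg.Agent.SolvTwoLocals.CharTwo
import Cfsg.Agent.Invol.CentralizerPattern
import Cfsg.Agent.GW.Top.Statement
import Cfsg.Agent.Classical.PSLTwoFour
import Cfsg.Agent.DGroup.NonSimple

/-!
# Simple groups with a maximal Sylow 2-subgroup of order 128 and short chains
-/

set_option autoImplicit false
set_option linter.style.haveILetI false
set_option linter.unusedSectionVars false

namespace CfsgLib.MaxTwo

open Subgroup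
open scoped commutatorElement

universe u

variable {G : Type u} [Group G] [Finite G]

theorem psl_one_two_seven [IsSimpleGroup G] (hG : ¬ IsMulCommutative G) (hch : NoLongChain G)
    (S : Sylow 2 G) (hS : Nat.card (S : Subgroup G) = 2 ^ 7) :
    ∃ (F : Type) (_ : Field F) (_ : Fintype F), Fintype.card F = 127 ∧
      Nonempty (G ≃* Matrix.ProjectiveSpecialLinearGroup (Fin 2) F) := by
  classical
  haveI := two_fact
  set P := (S : Subgroup G) with hPdef
  have hP2 : IsPGroup 2 P := S.2
  have h128 : Nat.card P = 128 := hS.trans (by norm_num)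
  have hperf : commutator G = ⊤ := (IsSimpleGroup.eq_bot_or_eq_top_of_normal _ inferInstance).resolve_left fun e =>
    hG ⟨⟨fun a b => by
      have : ⁅a, b⁆ ∈ commutator G := commutator_mem_commutator (mem_top a) (mem_top b)
      rwa [e, mem_bot, commutatorElement_eq_one_iff_mul_comm] at this⟩⟩
  have hnotTwo : ¬ IsPGroup 2 G := fun hp => by
    haveI := hp.isNilpotent
    exact hG ⟨⟨IsSimpleGroup.comm_iff_isSolvable.2 inferInstance⟩⟩
  have hPtop : P ≠ ⊤ := fun e => hnotTwo ((e ▸ hP2 : IsPGroup 2 (⊤ : Subgroup G)).of_equiv topEquiv)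
  -- a central involution
  haveI : Nontrivial P := Finite.one_lt_card_iff_nontrivial.1 (h128 ▸ by norm_num)
  haveI : Nontrivial (center P) := hP2.center_nontrivial
  obtain ⟨t, ht⟩ : ∃ t : center P, orderOf t = 2 := exists_prime_orderOf_dvd_card' 2 (by
    obtain ⟨j, hj⟩ := IsPGroup.iff_card.1 (hP2.to_subgroup (center P))
    rw [hj]
    refine dvd_pow_self 2 fun e => ?_
    have := Finite.one_lt_card (α := center P)
    rw [hj, e] at this
    omega)
  set z : G := ((t : P) : G)
  have hzo : orderOf z = 2 := by rw [orderOf_coe, orderOf_coe, ht]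
  have hzP : z ∈ P := (t : P).2
  have hzc : ∀ p ∈ P, z * p = p * z := fun p hp =>
    congrArg Subtype.val (mem_center_iff.1 t.2 ⟨p, hp⟩).symm
  have hz1 : z ≠ 1 := fun e => by rw [e, orderOf_one] at hzo; omega
  have hz2 : z * z = 1 := by rw [← pow_two, ← hzo]; exact pow_orderOf_eq_one z
  have hctx : Ctx P z := by
    refine ⟨hP2, ⟨hPtop, fun Y hY => ?_⟩, fun N hN hN2 => ?_, hzP, hz1, hz2, hzc⟩
    · by_contra hYt
      exact false_of_chain_128 hch hS hY (lt_top_iff_ne_top.2 hYt)
    · exact (IsSimpleGroup.eq_bot_or_eq_top_of_normal N hN).resolve_right fun e =>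
        hnotTwo ((e ▸ hN2 : IsPGroup 2 (⊤ : Subgroup G)).of_equiv topEquiv)
  -- a second conjugate
  obtain ⟨g₀, hg₀, hne₀⟩ : ∃ g : G, g * z * g⁻¹ ∈ P ∧ g * z * g⁻¹ ≠ z := by
    by_contra hcon
    push Not at hcon
    obtain ⟨N, hN, hodd, hcom⟩ := CfsgLib.ZStar.zstar_of_sylow S hzo hcon
    rcases IsSimpleGroup.eq_bot_or_eq_top_of_normal N hN with e | e
    · refine hPtop ((hctx.cent_z).symm.trans (eq_top_iff.2 fun g _ => mem_centralizer_singleton_iff.2 ?_))
      have := hcom g
      rw [e, mem_bot] at this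
      exact (by first
        | exact (commutatorElement_eq_one_iff_mul_comm.1 this).symm
        | exact commutatorElement_eq_one_iff_mul_comm.1 this
        | exact (mul_inv_eq_one.1 (by simpa [mul_assoc] using this)).symm)
    · rw [e, card_top] at hodd
      have h2 : 2 ∣ Nat.card G := hzo ▸ orderOf_dvd_natCard z
      exact absurd hodd (Nat.not_odd_iff_even.2 (even_iff_two_dvd.2 h2))
  -- the bound
  obtain ⟨D, -, -, hmem⟩ := hctx.exists_member hg₀ hne₀
  obtain ⟨k, hk, hat⟩ := exists_bound ⟨_, hmem⟩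
  have hk4 : k ≤ 4 := le_four hctx h128 hch hk hat
  have hk' : Bound z 4 := fun X hX U hU hU2 => (hk X hX U hU hU2).trans (Nat.pow_le_pow_right two_pos hk4)
  have hfour : HasFour P := by
    by_contra hno
    have := focal_small hctx hk' hno (by omega) hg₀ hne₀
    rw [hperf, inf_top_eq] at this
    omega
  obtain ⟨V, hVP, hV4, hV2, hVC⟩ := hfour
  set A := V.subgroupOf P
  haveI : IsKleinFour A := by
    have hA4 : Nat.card A = 4 := (Nat.card_congr (subgroupOfEquivOfLe hVP).toEquiv).trans hV4
    haveI : Nontrivial A := Finite.one_lt_card_iff_nontrivial.1 (hA4 ▸ by norm_num)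
    refine ⟨hA4, ?_⟩
    refine (Monoid.exponent_eq_prime_iff Nat.prime_two).2 fun a ha => orderOf_eq_prime ?_ ha
    exact Subtype.ext (Subtype.ext (by simpa [pow_two] using hV2 _ (mem_subgroupOf.1 a.2)))
  have hAC : centralizer (A : Set P) = A := by
    refine le_antisymm (fun c hc => mem_subgroupOf.2 (hVC ⟨c.2, mem_centralizer_iff.2 fun v hv => ?_⟩)) ?_
    · exact congrArg Subtype.val (mem_centralizer_iff.1 hc ⟨v, hVP hv⟩ (mem_subgroupOf.2 hv))
    · haveI : IsMulCommutative A := IsPGroup.isMulCommutative_of_card_eq_prime_sq (p := 2) (IsKleinFour.card_four.trans (by norm_num))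
      exact le_centralizer A
  have hni : ∀ H : Subgroup G, H.index ≠ 2 := fun H hH => by
    haveI := normal_of_index_eq_two hH
    rcases IsSimpleGroup.eq_bot_or_eq_top_of_normal H inferInstance with e | e
    · rw [e, index_bot] at hH
      have := Nat.le_of_dvd (by omega) (S : Subgroup G).card_subgroup_dvd_card
      rw [hS, hH] at this
      omega
    · rw [e, index_top] at hH; omega
  rcases CfsgLib.SolvTwoLocals.shape_of_four hP2 A hAC with ⟨n, hn, hD⟩ | hQD
  · -- dihedral
    haveI : Group.IsPerfect G := ⟨hperf⟩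
    have hO := CfsgLib.DGroup.oddCore_eq_bot_of_simple hG
    have e₀ : G ⧸ Cfsg.oddCore G ≃* G :=
      (QuotientGroup.quotientMulEquivOfEq hO).trans QuotientGroup.quotientBot
    rcases CfsgLib.GW.Top.statement G S n hn hD with ⟨F, _, _, hodd, -, ⟨e⟩⟩ | ⟨⟨e⟩⟩
    · have f : G ≃* Matrix.ProjectiveSpecialLinearGroup (Fin 2) F := e₀.symm.trans e
      refine ⟨F, inferInstance, inferInstance, ?_, ⟨f⟩⟩
      obtain ⟨x, U, m, hx, hx1, -, -, -, hm, -, hcm, -, -⟩ :=
        CfsgLib.Linear.FourGroups.centralizer_shape (F := F) hodd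
      have hz' : f z * f z = 1 := by rw [← map_mul, hz2, map_one]
      have hz'1 : f z ≠ 1 := fun e => hz1 (f.injective (e.trans f.map_one.symm))
      obtain ⟨g, hg⟩ := isConj_iff.1 (CfsgLib.Linear.FourGroups.involutions_conj hodd hz' hz'1 hx hx1)
      have hcard : Nat.card P = 2 * m := by
        rw [← hcm, ← hctx.cent_z]
        refine Nat.card_congr ((f.trans (MulAut.conj g)).toEquiv.subtypeEquiv fun a => ?_)
        rw [mem_centralizer_singleton_iff, mem_centralizer_singleton_iff]
        show a * z = z * a ↔ g * f a * g⁻¹ * x = x * (g * f a * g⁻¹)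
        rw [← hg]
        constructor
        · intro e
          calc g * f a * g⁻¹ * (g * f z * g⁻¹) = g * (f a * f z) * g⁻¹ := by group
            _ = g * (f z * f a) * g⁻¹ := by rw [← map_mul, e, map_mul]
            _ = _ := by group
        · intro e
          refine f.injective ?_
          rw [map_mul, map_mul]
          calc f a * f z = g⁻¹ * (g * f a * g⁻¹ * (g * f z * g⁻¹)) * g := by group
            _ = g⁻¹ * (g * f z * g⁻¹ * (g * f a * g⁻¹)) * g := by rw [e]
            _ = f z * f a := by group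
      rw [h128] at hcard
      split_ifs at hm with h1
      · exfalso
        have hq : Fintype.card F = 129 := by omega
        obtain ⟨p, -, n, hp, hpn⟩ := FiniteField.card' F
        rw [hq] at hpn
        have h3 : (3 : ℕ) ∣ p ^ (n : ℕ) := hpn ▸ by norm_num
        have h43 : (43 : ℕ) ∣ p ^ (n : ℕ) := hpn ▸ by norm_num
        have e3 := (Nat.prime_dvd_prime_iff_eq (by norm_num) hp).1 ((by norm_num : Nat.Prime 3).dvd_of_dvd_pow h3)
        have e43 := (Nat.prime_dvd_prime_iff_eq (by norm_num) hp).1 ((by norm_num : Nat.Prime 43).dvd_of_dvd_pow h43)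
        omega
      · omega
    · exfalso
      have hA7 : Nat.card G = 2520 := by
        rw [Nat.card_congr (e₀.symm.trans e).toEquiv, nat_card_alternatingGroup, Nat.card_fin]
        rfl
      have := (S : Subgroup G).card_subgroup_dvd_card
      rw [hS, hA7] at this
      norm_num at this
  · exfalso
    obtain ⟨R, -, ⟨K, -, -, hK2, hKQ⟩, -⟩ :=
      CfsgLib.InvolPattern.qd_centralizer hni S hQD z hzo hzP fun s hs => by
        rw [← hzc s hs, mul_inv_cancel_right]
    have hC2 : IsPGroup 2 (centralizer ({z} : Set G)) := hctx.cent_z.symm ▸ hP2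
    have hKp : IsPGroup 2 K := hC2.to_subgroup K
    obtain ⟨Q⟩ : Nonempty (Sylow 2 K) := inferInstance
    obtain ⟨m, hm, ⟨e⟩⟩ := hKQ Q
    obtain ⟨H, hH⟩ := CfsgLib.SmallSylow.exists_index_two_of_isPGroup hKp (fun h1 => by
      have h2 := (Q : Subgroup K).card_subgroup_dvd_card
      haveI : NeZero (2 ^ m) := ⟨(Nat.two_pow_pos m).ne'⟩
      rw [h1, Nat.card_congr e.toEquiv, Nat.card_eq_fintype_card, QuaternionGroup.card] at h2
      have := Nat.le_of_dvd Nat.one_pos h2
      have := Nat.two_pow_pos m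
      omega)
    exact hK2 H hH

end CfsgLib.MaxTwo
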