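import Cfsg.Agent.MaxTwo.Eight
import Cfsg.Agent.Solvable.MaximalClass
import Cfsg.Agent.InvChar.UniqueInvolution
import Mathlib.GroupTheory.SpecificGroups.Quaternion
import Mathlib.Tactic.LinearCombination

/-!
# The structure of `P` in the case of an elementary group of order eight
-/

set_option autoImplicit false
set_option linter.style.haveILetI false
set_option linter.unusedSectionVars false

namespace CfsgLib.MaxTwo

open Subgroup
open scoped commutatorElement

universe u

variable {G : Type u} [Group G] [Finite G] {P E : Subgroup G} {z f : G}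

theorem card_derived (P : Subgroup G) :
    Nat.card (commutator P) = Nat.card ↥(⁅P, P⁆) := by
  have h : (commutator P).map P.subtype = ⁅P, P⁆ := by
    rw [_root_.commutator_def, map_commutator, ← MonoidHom.range_eq_map, range_subtype]
  rw [← h, card_map_of_injective P.subtype_injective]

namespace EightData

theorem f_sq (d : EightData P z f E) : f * f = 1 := d.sq f d.fE

theorem f_inv (d : EightData P z f E) : f⁻¹ = f := inv_eq_of_mul_eq_one_right d.f_sq

theorem fP (d : EightData P z f E) : f ∈ P := d.EP d.fE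

theorem f_ne_one (h : Ctx P z) (d : EightData P z f E) : f ≠ 1 := by
  obtain ⟨g, hg⟩ := d.conj
  exact fun e => h.z1 (conj_eq_one_iff.1 (hg.trans e))

theorem mem_E (d : EightData P z f E) {a : G} (ha : a ∈ P) (hc : a * f = f * a) : a ∈ E :=
  d.cent.le ⟨ha, mem_centralizer_singleton_iff.2 hc⟩

theorem f_not_central (h : Ctx P z) (d : EightData P z f E) : ∃ p ∈ P, f * p ≠ p * f := by
  by_contra hc
  push Not at hc
  obtain ⟨g, hg⟩ := d.conj
  exact d.fne (hg ▸ h.eq_of_central (hg.symm ▸ d.fP) (fun p hp => hg.symm ▸ hc p hp))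

/-- The only central involution in `E` is `z`. -/
theorem central_eq (h : Ctx P z) (d : EightData P z f E) {t : G} (ht : t ∈ E) (ht1 : t ≠ 1)
    (hc : ∀ p ∈ P, t * p = p * t) : t = z := by
  by_contra htz
  obtain ⟨C, hC4, hzC, htC, hCmem, hC2⟩ := exists_four h.z2 (d.sq t ht) h.z1 ht1 (Ne.symm htz)
    (h.zc t (d.EP ht))
  have hCE : C ≤ E := fun v hv => by
    rcases (hCmem v).1 hv with rfl | rfl | rfl | rfl
    exacts [E.one_mem, d.zE, ht, E.mul_mem d.zE ht]
  have hCc : ∀ v ∈ C, ∀ p ∈ P, v * p = p * v := fun v hv p hp => by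
    rcases (hCmem v).1 hv with rfl | rfl | rfl | rfl
    · rw [one_mul, mul_one]
    · exact h.zc p hp
    · exact hc p hp
    · rw [mul_assoc, hc p hp, ← mul_assoc, h.zc p hp, mul_assoc]
  obtain ⟨x, hxE, hxo, hxP⟩ := d.moved
  have hout : ∀ v ∈ C, v ≠ 1 → x * v * x⁻¹ ∉ C := by
    intro v hv hv1 hv'
    refine hxP (h.normalizer_self ▸ mem_normalizer_iff.2 fun a => ?_)
    have e1 := h.cent_central (d.EP (hCE hv)) (hC2 v hv) hv1 (hCc v hv)
    have e2 := h.cent_central (d.EP (hCE hv')) (hC2 _ hv') (fun e => hv1 (conj_eq_one_iff.1 e)) (hCc _ hv')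
    conv_lhs => rw [← e1]
    rw [← e2, mem_centralizer_singleton_iff, mem_centralizer_singleton_iff]
    constructor <;> intro e
    · calc x * a * x⁻¹ * (x * v * x⁻¹) = x * (a * v) * x⁻¹ := by group
        _ = x * (v * a) * x⁻¹ := by rw [e]
        _ = x * v * x⁻¹ * (x * a * x⁻¹) := by group
    · refine mul_left_cancel (a := x) (mul_right_cancel (b := x⁻¹) ?_)
      calc x * (a * v) * x⁻¹ = x * a * x⁻¹ * (x * v * x⁻¹) := by group
        _ = x * v * x⁻¹ * (x * a * x⁻¹) := e
        _ = x * (v * a) * x⁻¹ := by group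
  have h2 : (C.subgroupOf E).index = 2 := by
    have := (C.subgroupOf E).index_mul_card
    rw [Nat.card_congr (subgroupOfEquivOfLe hCE).toEquiv, hC4, d.card] at this
    omega
  have hzt : z * t ≠ 1 := fun e => htz (by
    calc t = z * z * t := by rw [h.z2, one_mul]
      _ = z := by rw [mul_assoc, e, mul_one])
  have hm : ∀ v ∈ C, x * v * x⁻¹ ∈ E := fun v hv => (mem_normalizer_iff.1 hxE v).1 (hCE hv)
  have := mul_mem_iff_of_index_two h2 (a := (⟨_, hm z hzC⟩ : E)) (b := ⟨_, hm t htC⟩)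
  simp only [mem_subgroupOf, Subgroup.coe_mul, hout z hzC h.z1, hout t htC ht1, iff_self, iff_true] at this
  refine hout (z * t) ((hCmem _).2 (Or.inr (Or.inr (Or.inr rfl)))) hzt ?_
  rwa [show x * (z * t) * x⁻¹ = x * z * x⁻¹ * (x * t * x⁻¹) by group]

theorem eight_mul_derived_le (h : Ctx P z) (d : EightData P z f E) (h32 : 32 ≤ Nat.card P) :
    8 * Nat.card ↥(⁅P, P⁆) ≤ Nat.card P := by
  haveI := two_fact
  obtain ⟨n, hn⟩ := IsPGroup.iff_card.1 h.p2
  have hn5 : 5 ≤ n := (Nat.pow_le_pow_iff_right Nat.one_lt_two).1 (by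
    rw [← hn]; simpa using h32)
  have hi := (commutator P).index_mul_card
  rw [card_derived] at hi
  by_contra hlt
  push Not at hlt
  obtain ⟨j, -, hj⟩ := (Nat.dvd_prime_pow Nat.prime_two).1 (hn ▸ (commutator P).index_dvd_card)
  have hj4 : 4 ≤ (commutator P).index := by
    refine le_of_eq_of_le (by norm_num) (CfsgLib.Uniserial.sq_le_index_commutator (p := 2) h.p2 fun e => ?_)
    obtain ⟨p, hp, hpf⟩ := d.f_not_central h
    have hc : commutator P = ⊥ := e
    have h1 : ⁅(⟨f, d.fP⟩ : P), (⟨p, hp⟩ : P)⁆ ∈ commutator P := by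
      rw [_root_.commutator_def]
      exact commutator_mem_commutator (mem_top _) (mem_top _)
    rw [hc, mem_bot, commutatorElement_eq_one_iff_mul_comm] at h1
    exact hpf (congrArg Subtype.val h1)
  have hj8 : (commutator P).index < 8 := by
    by_contra hge
    push Not at hge
    have := Nat.mul_le_mul_right (Nat.card ↥(⁅P, P⁆)) hge
    omega
  rw [hj] at hj4 hj8
  have : 2 ≤ j := (Nat.pow_le_pow_iff_right Nat.one_lt_two).1 (by simpa using hj4)
  have : j < 3 := (Nat.pow_lt_pow_iff_right Nat.one_lt_two).1 (by simpa using hj8)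
  obtain rfl : j = 2 := by omega
  obtain ⟨C, hC, hC2⟩ := CfsgLib.MaximalClass.cyclic_index_two n (by omega) hn (by rw [hj]; norm_num)
  set E' := E.subgroupOf P
  have hE' : Nat.card E' = 8 := (Nat.card_congr (subgroupOfEquivOfLe d.EP).toEquiv).trans d.card
  have h1 : 4 ≤ Nat.card ↥(C ⊓ E') := by
    haveI := normal_of_index_eq_two hC2
    have hr : C.relIndex E' ≤ 2 := hC2 ▸ Nat.le_of_dvd (by omega) (relIndex_dvd_index_of_normal C E')
    have hm := relIndex_mul_relIndex ⊥ (C ⊓ E') E' bot_le inf_le_right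
    rw [relIndex_bot_left, relIndex_bot_left, inf_relIndex_right, hE'] at hm
    have := Nat.mul_le_mul_left (Nat.card ↥(C ⊓ E')) hr
    omega
  haveI := hC
  haveI : IsCyclic ↥(C ⊓ E') := Subgroup.isCyclic_of_le inf_le_left
  obtain ⟨y, hy⟩ := IsCyclic.exists_generator (α := ↥(C ⊓ E'))
  rw [← orderOf_eq_card_of_forall_mem_zpowers hy] at h1
  have h2 : orderOf y ≤ 2 := orderOf_le_of_pow_eq_one (by norm_num) (Subtype.ext (Subtype.ext (by
    simpa [pow_two] using d.sq ((y : P) : G) y.2.2)))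
  omega

/-- Conjugation moves `f` onto the whole coset of the derived group. -/
theorem orbit (h : Ctx P z) (d : EightData P z f E) (h32 : 32 ≤ Nat.card P) :
    (∀ c ∈ ⁅P, P⁆, ∃ q ∈ P, q * f * q⁻¹ = f * c) ∧ Nat.card P = 8 * Nat.card ↥(⁅P, P⁆) := by
  classical
  haveI := Fintype.ofFinite G
  let φ : P → ↥(⁅P, P⁆) := fun q => ⟨f * ((q : G) * f * (q : G)⁻¹), by
    have := commutator_mem_commutator (H₁ := P) (H₂ := P) d.fP q.2
    rw [commutatorElement_def, d.f_inv] at this
    simpa [mul_assoc] using this⟩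
  set I := Set.range φ
  have hP8 : Nat.card P ≤ 8 * Nat.card I := by
    have hs : ∀ i : I, ∃ q : P, φ q = i := fun i => i.2
    choose rep hrep using hs
    have hval : ∀ q : P, ((rep ⟨φ q, q, rfl⟩ : P) : G)⁻¹ * q ∈ E := by
      intro q
      refine d.mem_E (P.mul_mem (P.inv_mem (rep _).2) q.2) ?_
      have e := congrArg Subtype.val (hrep ⟨φ q, q, rfl⟩)
      simp only [φ, mul_right_inj] at e
      set a := ((rep ⟨φ q, q, rfl⟩ : P) : G)
      calc a⁻¹ * q * f = a⁻¹ * ((q : G) * f * (q : G)⁻¹) * q := by group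
        _ = a⁻¹ * (a * f * a⁻¹) * q := by rw [e]
        _ = f * (a⁻¹ * q) := by group
    refine le_of_le_of_eq (Nat.card_le_card_of_injective (fun q : P =>
      ((⟨φ q, q, rfl⟩ : I), (⟨_, hval q⟩ : E))) fun q q' e => ?_) ?_
    · simp only [Prod.mk.injEq, Subtype.mk.injEq] at e
      obtain ⟨e1, e2⟩ := e
      rw [e1] at e2
      exact Subtype.ext (mul_left_cancel e2)
    · rw [Nat.card_prod, d.card, mul_comm]
  have hle := d.eight_mul_derived_le h h32
  have hIle : Nat.card I ≤ Nat.card ↥(⁅P, P⁆) := Nat.card_le_card_of_injective _ Subtype.val_injective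
  refine ⟨fun c hc => ?_, by omega⟩
  have hI : I = Set.univ := Set.eq_of_subset_of_ncard_le (Set.subset_univ _)
    (by rw [Set.ncard_univ, ← Nat.card_coe_set_eq]; omega) (Set.toFinite _)
  obtain ⟨q, hq⟩ : (⟨c, hc⟩ : ↥(⁅P, P⁆)) ∈ I := hI ▸ Set.mem_univ _
  refine ⟨q, q.2, ?_⟩
  have e := congrArg Subtype.val hq
  simp only [φ] at e
  rw [← e, ← mul_assoc, d.f_sq, one_mul]

theorem inverts (h : Ctx P z) (d : EightData P z f E) (h32 : 32 ≤ Nat.card P) {c : G}
    (hc : c ∈ ⁅P, P⁆) : f * c * f = c⁻¹ := by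
  obtain ⟨q, -, hq⟩ := (d.orbit h h32).1 c hc
  have h1 : (f * c) * (f * c) = 1 := by
    rw [← hq, show q * f * q⁻¹ * (q * f * q⁻¹) = q * (f * f) * q⁻¹ by group, d.f_sq]; group
  refine eq_inv_of_mul_eq_one_left ?_
  simpa [mul_assoc] using h1

theorem derived_comm (h : Ctx P z) (d : EightData P z f E) (h32 : 32 ≤ Nat.card P) {a b : G}
    (ha : a ∈ ⁅P, P⁆) (hb : b ∈ ⁅P, P⁆) : a * b = b * a := by
  have e := d.inverts h h32 (Subgroup.mul_mem _ ha hb)
  have e1 := d.inverts h h32 ha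
  have e2 := d.inverts h h32 hb
  have e3 : a⁻¹ * b⁻¹ = (a * b)⁻¹ := by
    rw [← e, ← e1, ← e2]
    simp only [mul_assoc, ← mul_assoc f f, d.f_sq, one_mul]
  rw [mul_inv_rev] at e3
  have := congrArg (·⁻¹) e3
  simpa using this.symm

/-- `E` meets the derived group in `⟨z⟩`. -/
theorem inter (h : Ctx P z) (d : EightData P z f E) (h32 : 32 ≤ Nat.card P) :
    z ∈ ⁅P, P⁆ ∧ ∀ e ∈ E, e ∈ ⁅P, P⁆ → e = 1 ∨ e = z := by
  classical
  haveI := two_fact
  obtain ⟨hq, hcard⟩ := d.orbit h h32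
  choose! q hqP hq using hq
  -- at most two common elements
  have hle : Nat.card ↥(E ⊓ ⁅P, P⁆) ≤ 2 := by
    have hmem : ∀ c : ↥(E ⊓ ⁅P, P⁆), ∀ e : E, q c * (e : G) ∈ P ⊓ normalizer (E : Set G) := by
      intro c e
      refine ⟨P.mul_mem (hqP _ c.2.2) (d.EP e.2), (normalizer (E : Set G)).mul_mem ?_ (le_normalizer e.2)⟩
      refine mem_normalizer_iff_map_conj_eq.2 (eq_of_le_of_card_ge ?_ ?_).symm |> fun hh => hh
      · intro a ha
        refine ⟨(q c)⁻¹ * a * q c, d.mem_E (P.mul_mem (P.mul_mem (P.inv_mem (hqP _ c.2.2)) (d.EP ha))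
          (hqP _ c.2.2)) ?_, by simp [mul_assoc]⟩
        have e1 : q c * f * (q c)⁻¹ = f * c := hq _ c.2.2
        have hc' := d.comm a ha _ (E.mul_mem d.fE c.2.1)
        rw [← e1] at hc'
        calc (q c)⁻¹ * a * q c * f = (q c)⁻¹ * (a * (q c * f * (q c)⁻¹)) * q c := by group
          _ = (q c)⁻¹ * (q c * f * (q c)⁻¹ * a) * q c := by rw [hc']
          _ = f * ((q c)⁻¹ * a * q c) := by group
      · exact (card_map_of_injective (MulAut.conj (q c)).injective).le
    have hi := Nat.card_le_card_of_injective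
      (fun ce : ↥(E ⊓ ⁅P, P⁆) × E => (⟨_, hmem ce.1 ce.2⟩ : ↥(P ⊓ normalizer (E : Set G)))) ?_
    · rw [Nat.card_prod, d.card] at hi
      have := d.norm
      omega
    rintro ⟨c, e⟩ ⟨c', e'⟩ hh
    have hh' : q c * (e : G) = q c' * (e' : G) := congrArg Subtype.val hh
    have hfe : ∀ a : E, (a : G) * f * (a : G)⁻¹ = f := fun a => by rw [d.comm _ a.2 _ d.fE, mul_inv_cancel_right]
    have e3 : f * (c : G) = f * c' := by
      rw [← hq _ c.2.2, ← hq _ c'.2.2]
      calc q c * f * (q c)⁻¹ = q c * ((e : G) * f * (e : G)⁻¹) * (q c)⁻¹ := by rw [hfe]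
        _ = (q c * e) * f * (q c * e)⁻¹ := by group
        _ = q c' * ((e' : G) * f * (e' : G)⁻¹) * (q c')⁻¹ := by rw [hh']; group
        _ = _ := by rw [hfe]
    obtain rfl : c = c' := Subtype.ext (mul_left_cancel e3)
    exact Prod.ext rfl (Subtype.ext (mul_left_cancel hh'))
  -- a central involution
  have hne : ⁅P, P⁆ ≠ ⊥ := fun e => by
    rw [e, card_bot] at hcard
    omega
  set D := ⁅P, P⁆.subgroupOf P
  have hDn : D.Normal := by
    have : D = commutator P := by
      refine (Subgroup.map_injective P.subtype_injective ?_)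
      rw [subgroupOf_map_subtype, inf_eq_left.2 (commutator_le_self P), _root_.commutator_def,
        map_commutator, ← MonoidHom.range_eq_map, range_subtype]
    rw [this]; infer_instance
  have hDne : D ≠ ⊥ := fun e => hne (by
    have := (subgroupOf_eq_bot (H := ⁅P, P⁆) (K := P)).1 e
    exact this.eq_bot_of_le (commutator_le_self P))
  obtain ⟨t, htD, ht1, htc⟩ := CfsgLib.UniqueInvol.exists_central h.p2 D hDne
  obtain ⟨j, hj⟩ := IsPGroup.iff_orderOf.1 h.p2 t
  obtain ⟨j, rfl⟩ := Nat.exists_eq_succ_of_ne_zero (fun e => ht1 (orderOf_eq_one_iff.1 (by rw [hj, e, pow_zero])) :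
    j ≠ 0)
  set s : P := t ^ 2 ^ j
  have hs1 : s ≠ 1 := pow_ne_one_of_lt_orderOf (by positivity) (by rw [hj]; exact Nat.pow_lt_pow_right (by norm_num) (by omega))
  have hsc : ∀ p ∈ P, (s : G) * p = p * s := fun p hp => by
    exact congrArg Subtype.val (mem_center_iff.1 (pow_mem htc _) ⟨p, hp⟩).symm
  have hsE : (s : G) ∈ E := d.mem_E s.2 (hsc f d.fP)
  have hsz : (s : G) = z := d.central_eq h hsE (fun e => hs1 (Subtype.ext e)) hsc
  have hzD : z ∈ ⁅P, P⁆ := hsz ▸ mem_subgroupOf.1 (pow_mem htD _)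
  refine ⟨hzD, fun e he heD => ?_⟩
  by_contra hh
  push Not at hh
  haveI := Fintype.ofFinite ↥(E ⊓ ⁅P, P⁆)
  have h3 : ({⟨1, one_mem _⟩, ⟨z, d.zE, hzD⟩, ⟨e, he, heD⟩} : Finset ↥(E ⊓ ⁅P, P⁆)).card = 3 := by
    rw [Finset.card_insert_of_notMem, Finset.card_insert_of_notMem, Finset.card_singleton]
    · simpa [Subtype.ext_iff] using fun e' : z = e => hh.2 e'.symm
    · simp [Subtype.ext_iff, h.z1.symm, hh.1.symm]
  have := Finset.card_le_univ ({⟨1, one_mem _⟩, ⟨z, d.zE, hzD⟩, ⟨e, he, heD⟩} : Finset ↥(E ⊓ ⁅P, P⁆))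
  rw [h3, ← Nat.card_eq_fintype_card] at this
  omega

theorem derived_cyclic (h : Ctx P z) (d : EightData P z f E) (h32 : 32 ≤ Nat.card P) :
    ∃ c : G, zpowers c = ⁅P, P⁆ ∧ 4 ∣ orderOf c := by
  haveI := two_fact
  have hinv : ∀ x : ↥(⁅P, P⁆), orderOf x = 2 → (x : G) = z := fun x hx => by
    rw [← orderOf_coe] at hx
    have hx2 : (x : G) * x = 1 := by rw [← pow_two, ← hx]; exact pow_orderOf_eq_one _
    have hE : (x : G) ∈ E := d.mem_E (commutator_le_self P x.2) (by
      have := d.inverts h h32 x.2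
      rw [inv_eq_of_mul_eq_one_right hx2] at this
      calc (x : G) * f = f * x * f * f := by rw [this]
        _ = f * x := by rw [mul_assoc _ f f, d.f_sq, mul_one])
    refine ((d.inter h h32).2 _ hE x.2).resolve_left fun e => ?_
    rw [e, orderOf_one] at hx
    omega
  have hp : IsPGroup 2 ↥(⁅P, P⁆) := h.p2.to_le (commutator_le_self P)
  rcases CfsgLib.UniqueInvol.cyclic_or_quaternion hp (fun x y hx hy => by
      rw [show y = x from Subtype.ext ((hinv y hy).trans (hinv x hx).symm)]; exact mem_zpowers x) with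
    hc | ⟨-, n, hn, ⟨e⟩⟩
  · obtain ⟨c, hc⟩ := (Subgroup.isCyclic_iff_exists_zpowers_eq_top _).1 hc
    refine ⟨c, hc, ?_⟩
    obtain ⟨j, hj⟩ := IsPGroup.iff_card.1 hp
    have hcard := (d.orbit h h32).2
    rw [← hc, Nat.card_zpowers] at hj hcard
    rw [hj] at hcard ⊢
    have : 2 ≤ j := (Nat.pow_le_pow_iff_right Nat.one_lt_two).1 (by omega)
    exact Dvd.dvd.trans (by norm_num) (pow_dvd_pow 2 this)
  · exfalso
    haveI : NeZero (2 ^ n) := ⟨(Nat.two_pow_pos n).ne'⟩
    have key : ∀ x y : QuaternionGroup (2 ^ n), x * y = y * x := fun x y => by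
      have h1 := d.derived_comm h h32 (e.symm x).2 (e.symm y).2
      have h2 : e.symm x * e.symm y = e.symm y * e.symm x := Subtype.ext h1
      simpa using congrArg e h2
    have h1 := key (QuaternionGroup.a 1) (QuaternionGroup.xa 0)
    rw [QuaternionGroup.a_mul_xa, QuaternionGroup.xa_mul_a, QuaternionGroup.xa.injEq, zero_sub, zero_add] at h1
    have h2 : ((2 : ℕ) : ZMod (2 * 2 ^ n)) = 0 := by
      push_cast
      linear_combination -h1
    rw [ZMod.natCast_eq_zero_iff] at h2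
    have := Nat.le_of_dvd (by norm_num) h2
    have : 2 ≤ 2 ^ n := le_self_pow₀ (by norm_num) (by omega)
    omega

end EightData

end CfsgLib.MaxTwo
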