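import Cfsg.Agent.Solvable.Basics
import Mathlib.GroupTheory.Transfer
import Mathlib.GroupTheory.PGroup
import Mathlib.GroupTheory.SpecificGroups.Cyclic
import Mathlib.Tactic.Group
import Mathlib.Data.Finite.Perm
import Mathlib.Tactic.NormNum.Prime

/-!
# Groups with a maximal Sylow 2-subgroup of small index
-/

set_option autoImplicit false
set_option linter.style.haveILetI false
set_option linter.unusedSectionVars false

namespace CfsgLib.MaxTwo

open Subgroup

universe u

variable {Q : Type u} [Group Q] [Finite Q]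

theorem sylow_card_eq {H : Type u} [Group H] [Finite H] {p : ℕ} [hp : Fact p.Prime] (S : Sylow p H)
    (h1 : p ∣ Nat.card H) (h2 : ¬ p ^ 2 ∣ Nat.card H) : Nat.card S = p := by
  obtain ⟨j, hj⟩ := IsPGroup.iff_card.1 S.2
  have h3 : p ∣ Nat.card S := S.dvd_card_of_dvd_card h1
  have h4 : Nat.card S ∣ Nat.card H := card_subgroup_dvd_card _
  rw [hj] at h3 h4 ⊢
  rcases j with _ | _ | j
  · exact absurd (Nat.le_of_dvd Nat.one_pos h3) (by simpa using hp.out.one_lt)
  · exact pow_one p
  · exact absurd ((pow_dvd_pow p (by omega)).trans h4) h2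

/-- A maximal Sylow 2-subgroup, no normal 2-subgroup. -/
structure Tiny (T : Subgroup Q) : Prop where
  two : IsPGroup 2 T
  odd : Odd T.index
  lt : T ≠ ⊤
  max : ∀ Y : Subgroup Q, T ≤ Y → Y = T ∨ Y = ⊤
  core : ∀ N : Subgroup Q, N.Normal → IsPGroup 2 N → N = ⊥

namespace Tiny

variable {T : Subgroup Q}

theorem exists_sylow (h : Tiny T) : ∃ S : Sylow 2 Q, (S : Subgroup Q) = T :=
  ⟨h.two.toSylow (fun hd => by have := h.odd; rw [Nat.odd_iff] at this; omega), rfl⟩

theorem coprime (h : Tiny T) : (Nat.card T).Coprime T.index := by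
  haveI : Fact (Nat.Prime 2) := ⟨Nat.prime_two⟩
  obtain ⟨j, hj⟩ := IsPGroup.iff_card.1 h.two
  rw [hj]
  exact Nat.Coprime.pow_left j (Nat.coprime_two_left.2 h.odd)

theorem inf_eq_bot (h : Tiny T) {N : Subgroup Q} (hN : Odd (Nat.card N)) : N ⊓ T = ⊥ := by
  haveI : Fact (Nat.Prime 2) := ⟨Nat.prime_two⟩
  refine inf_eq_bot_of_coprime ?_
  obtain ⟨j, hj⟩ := IsPGroup.iff_card.1 h.two
  rw [hj]
  exact Nat.Coprime.pow_right j (Nat.coprime_two_right.2 hN)

/-- An odd normal subgroup is trivial or a complement. -/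
theorem card_normal (h : Tiny T) (N : Subgroup Q) [N.Normal] (hN : Odd (Nat.card N)) (h1 : N ≠ ⊥) :
    Nat.card N = T.index := by
  have h2 := CfsgLib.Solvable.card_sup_mul_card_inf (A := T) (K := N) le_normalizer_of_normal
  rw [inf_comm, h.inf_eq_bot hN, card_bot, mul_one] at h2
  rcases h.max (T ⊔ N) le_sup_left with e | e
  · refine absurd ?_ h1
    have := h.inf_eq_bot hN
    rwa [inf_eq_left.2 (e ▸ le_sup_right : N ≤ T)] at this
  · rw [e, card_top, ← T.card_mul_index] at h2
    exact (Nat.eq_of_mul_eq_mul_left Nat.card_pos h2).symm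

theorem normalizer_eq (h : Tiny T) (h1 : T ≠ ⊥) : normalizer (T : Set Q) = T :=
  (h.max _ le_normalizer).resolve_right fun e => h1 (h.core T (normalizer_eq_top_iff.1 e) h.two)

theorem exists_complement (h : Tiny T) (h1 : T ≠ ⊥) (hab : ∀ a ∈ T, ∀ b ∈ T, a * b = b * a) :
    ∃ O : Subgroup Q, O.Normal ∧ IsComplement' O T ∧ Nat.card O = T.index := by
  haveI : Fact (Nat.Prime 2) := ⟨Nat.prime_two⟩
  obtain ⟨S, hS⟩ := h.exists_sylow
  have hN : normalizer ((S : Subgroup Q) : Set Q) ≤ centralizer ((S : Subgroup Q) : Set Q) := by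
    rw [hS, h.normalizer_eq h1]
    exact fun a ha => mem_centralizer_iff.2 fun b hb => hab b hb a ha
  refine ⟨_, MonoidHom.normal_ker _, by rw [← hS]; exact MonoidHom.ker_transferSylow_isComplement' S hN, ?_⟩
  rw [← hS]
  exact (MonoidHom.ker_transferSylow_isComplement' S hN).index_eq_card.symm

/-- A normal complement of prime order `p` forces `|T|` to divide `p - 1`. -/
theorem dvd_of_prime (h : Tiny T) (O : Subgroup Q) [O.Normal] {p : ℕ} (hp : p.Prime)
    (hO : Nat.card O = p) (hpo : Odd p) (hi : T.index = p) : Nat.card T ∣ p - 1 := by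
  haveI : Fact p.Prime := ⟨hp⟩
  haveI : IsCyclic O := isCyclic_of_prime_card hO
  let φ : T →* MulAut O := (MulAut.conjNormal (H := O)).comp T.subtype
  have hd : φ.ker = ⊥ := by
    set K : Subgroup Q := φ.ker.map T.subtype
    have hKT : K ≤ T := map_subtype_le _
    have hn : K.Normal := by
      refine normalizer_eq_top_iff.1 ?_
      have h1 : T ≤ normalizer (K : Set Q) := (le_normalizer_map T.subtype).trans' (by
        rw [normalizer_eq_top_iff.2 inferInstance, ← MonoidHom.range_eq_map, range_subtype])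
      refine (h.max _ h1).resolve_left fun e => ?_
      have h2 : O ≤ normalizer (K : Set Q) := fun o ho => mem_normalizer_iff.2 fun k => by
        have key : ∀ o ∈ O, ∀ k ∈ K, o * k * o⁻¹ = k := by
          rintro o ho _ ⟨k, hk, rfl⟩
          have := congrArg (fun m : MulAut O => ((m ⟨o, ho⟩ : O) : Q)) (MonoidHom.mem_ker.1 hk)
          simp only [φ, MonoidHom.coe_comp, Function.comp_apply, MulAut.conjNormal_apply,
            MulAut.one_apply] at this
          show o * (k : Q) * o⁻¹ = k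
          rw [mul_inv_eq_iff_eq_mul]
          exact (mul_inv_eq_iff_eq_mul.1 this).symm
        exact ⟨fun hk => by rwa [key o ho k hk], fun hk => by
          have := key _ (O.inv_mem ho) _ hk
          rw [show o⁻¹ * (o * k * o⁻¹) * o⁻¹⁻¹ = k by group] at this
          rwa [this]⟩
      rw [e] at h2
      have h3 := h.inf_eq_bot (N := O) (hO ▸ hpo)
      rw [inf_eq_left.2 h2] at h3
      rw [h3, card_bot] at hO
      exact hp.ne_one hO.symm
    have := h.core K hn (h.two.to_le hKT)
    exact (map_eq_bot_iff_of_injective _ T.subtype_injective).1 this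
  have := card_dvd_of_injective φ (φ.ker_eq_bot_iff.1 hd)
  rwa [IsCyclic.card_mulAut, hO, Nat.totient_prime hp] at this

theorem fix_trivial (h : Tiny T) (O : Subgroup Q) [O.Normal] (hO : Odd (Nat.card O))
    (hOc : ∀ a ∈ O, ∀ b ∈ O, a * b = b * a) (hcomp : IsComplement' O T)
    (hab : ∀ a ∈ T, ∀ b ∈ T, a * b = b * a)
    {a : Q} (ha : a ∈ T) (ha1 : a ≠ 1) {s : Q} (hs : s ∈ O) (hc : a * s = s * a) : s = 1 := by
  set C := O ⊓ centralizer ({a} : Set Q)
  have hnC : C.Normal := by
    refine ⟨fun c hc g => ?_⟩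
    obtain ⟨⟨⟨o, ho⟩, ⟨t, ht⟩⟩, rfl⟩ := (hcomp.existsUnique g).exists
    show o * t * c * (o * t)⁻¹ ∈ C
    have h1 : t * c * t⁻¹ ∈ C := by
      refine ⟨Normal.conj_mem inferInstance _ hc.1 t, mem_centralizer_singleton_iff.2 ?_⟩
      have e := mem_centralizer_singleton_iff.1 hc.2
      have e' := hab a ha t ht
      calc t * c * t⁻¹ * a = t * c * (t⁻¹ * (a * t)) * t⁻¹ := by group
        _ = t * (c * a) * t⁻¹ := by rw [e']; group
        _ = t * a * c * t⁻¹ := by rw [e]; group
        _ = a * (t * c * t⁻¹) := by rw [← e']; group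
    rwa [show o * t * c * (o * t)⁻¹ = o * (t * c * t⁻¹) * o⁻¹ by group, hOc o ho _ h1.1, mul_inv_cancel_right]
  by_contra hs1
  have hC1 : C ≠ ⊥ := fun e => hs1 (mem_bot.1 (e ▸ ⟨hs, mem_centralizer_singleton_iff.2 hc.symm⟩))
  haveI := hnC
  have hCo : Odd (Nat.card C) := hO.of_dvd_nat (card_dvd_of_le inf_le_left)
  have hCO : C = O := eq_of_le_of_card_ge inf_le_left (by
    rw [h.card_normal C hCo hC1, h.card_normal O hO fun e => hs1 (mem_bot.1 (e ▸ hs))])
  have hn : (zpowers a).Normal := by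
    refine ⟨fun y hy g => ?_⟩
    obtain ⟨i, rfl⟩ := mem_zpowers_iff.1 hy
    obtain ⟨⟨⟨o, ho⟩, ⟨t, ht⟩⟩, rfl⟩ := (hcomp.existsUnique g).exists
    have e1 : Commute (o * t) a := (show Commute o a from
      mem_centralizer_singleton_iff.1 (hCO.ge ho).2).mul_left (hab t ht a ha)
    show o * t * a ^ i * (o * t)⁻¹ ∈ zpowers a
    rw [(e1.zpow_right i).eq, mul_inv_cancel_right]
    exact ⟨i, rfl⟩
  exact ha1 (mem_bot.1 (h.core _ hn (h.two.to_le (zpowers_le.2 ha)) ▸ mem_zpowers a))

theorem inverts (h : Tiny T) (O : Subgroup Q) [O.Normal] (hO : Odd (Nat.card O))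
    (hOc : ∀ a ∈ O, ∀ b ∈ O, a * b = b * a) (hcomp : IsComplement' O T)
    (hab : ∀ a ∈ T, ∀ b ∈ T, a * b = b * a)
    {a : Q} (ha : a ∈ T) (ha1 : a ≠ 1) (ha2 : a * a = 1) {s : Q} (hs : s ∈ O) : a * s * a = s⁻¹ := by
  have hai : a⁻¹ = a := inv_eq_of_mul_eq_one_right ha2
  have hm : a * s * a ∈ O := by simpa [hai] using Normal.conj_mem inferInstance _ hs a
  refine eq_inv_of_mul_eq_one_left (h.fix_trivial O hO hOc hcomp hab ha ha1 (O.mul_mem hm hs) ?_)
  calc a * (a * s * a * s) = a * a * s * a * s := by group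
    _ = s * (a * s) := by rw [ha2]; group
    _ = (s * (a * s * a)) * a := by simp only [mul_assoc, ha2, mul_one]
    _ = a * s * a * s * a := by rw [hOc s hs _ hm]

/-- Only one involution. -/
theorem invol_unique (h : Tiny T) (O : Subgroup Q) [O.Normal] (hO : Odd (Nat.card O))
    (hOc : ∀ a ∈ O, ∀ b ∈ O, a * b = b * a) (hcomp : IsComplement' O T)
    (hab : ∀ a ∈ T, ∀ b ∈ T, a * b = b * a) (hO1 : O ≠ ⊥)
    {a b : Q} (ha : a ∈ T) (ha1 : a ≠ 1) (ha2 : a * a = 1) (hb : b ∈ T) (hb1 : b ≠ 1)
    (hb2 : b * b = 1) : a = b := by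
  by_contra hne
  obtain ⟨s, hs, hs1⟩ := (O.bot_or_exists_ne_one).resolve_left hO1
  have hab1 : a * b ≠ 1 := fun e => hne ((eq_inv_of_mul_eq_one_left e).trans (inv_eq_of_mul_eq_one_right hb2))
  refine hs1 (h.fix_trivial O hO hOc hcomp hab (T.mul_mem ha hb) hab1 hs ?_)
  have e1 := h.inverts O hO hOc hcomp hab ha ha1 ha2 (O.inv_mem hs)
  have e2 := h.inverts O hO hOc hcomp hab hb hb1 hb2 hs
  rw [inv_inv] at e1
  calc a * b * s = a * (b * s * b) * b := by simp only [mul_assoc, hb2, mul_one]
    _ = a * s⁻¹ * a * (a * b) := by rw [e2]; simp only [← mul_assoc]; rw [mul_assoc _ a a, ha2, mul_one]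
    _ = s * (a * b) := by rw [e1]

theorem not_fifteen (h : Tiny T) (O : Subgroup Q) [O.Normal] (hi : T.index = 15)
    (hO : Nat.card O = 15) : False := by
  haveI : Fact (Nat.Prime 5) := ⟨by norm_num⟩
  obtain ⟨S⟩ : Nonempty (Sylow 5 O) := inferInstance
  have h1 : Nat.card (Sylow 5 O) = 1 := by
    have hd := S.card_dvd_index
    have hm := card_sylow_modEq_one 5 O
    have hc : Nat.card S = 5 := by
      exact sylow_card_eq S (by rw [hO]; norm_num) (by rw [hO]; norm_num)
    have hidx : (S : Subgroup O).index = 3 := by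
      have := (S : Subgroup O).card_mul_index
      rw [hO, hc] at this
      omega
    rw [hidx] at hd
    have := Nat.le_of_dvd (by norm_num) hd
    unfold Nat.ModEq at hm
    omega
  haveI := (Nat.card_eq_one_iff_unique.1 h1).1
  haveI : (S : Subgroup O).Characteristic := S.characteristic_of_normal S.normal_of_subsingleton
  have hc : Nat.card ((S : Subgroup O).map O.subtype) = 5 := by
    rw [card_map_of_injective O.subtype_injective]
    exact sylow_card_eq S (by rw [hO]; norm_num) (by rw [hO]; norm_num)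
  have := h.card_normal ((S : Subgroup O).map O.subtype) (by rw [hc]; decide) (fun e => by
    rw [e, card_bot] at hc; omega)
  omega

/-- The case of order 56. -/
theorem exists_normal_seven (h : Tiny T) (hT : Nat.card T = 8) (hi : T.index = 7) :
    ∃ O : Subgroup Q, O.Normal ∧ Nat.card O = 7 := by
  classical
  haveI : Fact (Nat.Prime 7) := ⟨by norm_num⟩
  haveI := Fintype.ofFinite Q
  have hQ : Nat.card Q = 56 := by rw [← T.card_mul_index, hT, hi]
  have hc : ∀ S : Sylow 7 Q, Nat.card S = 7 := fun S => by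
    exact sylow_card_eq S (by rw [hQ]; norm_num) (by rw [hQ]; norm_num)
  obtain ⟨S⟩ : Nonempty (Sylow 7 Q) := inferInstance
  by_cases h1 : Nat.card (Sylow 7 Q) = 1
  · haveI := (Nat.card_eq_one_iff_unique.1 h1).1
    exact ⟨S, S.normal_of_subsingleton, hc S⟩
  exfalso
  have hidx : (S : Subgroup Q).index = 8 := by
    have := (S : Subgroup Q).card_mul_index
    rw [hQ, hc S] at this
    omega
  have hn8 : Nat.card (Sylow 7 Q) = 8 := by
    have hd := S.card_dvd_index
    have hm := card_sylow_modEq_one 7 Q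
    rw [hidx] at hd
    have := Nat.le_of_dvd (by norm_num) hd
    unfold Nat.ModEq at hm
    omega
  let A : Finset Q := Finset.univ.filter fun g => orderOf g = 7
  have hA : 48 ≤ A.card := by
    have hf : ∀ x : Σ S : Sylow 7 Q, {g : (S : Subgroup Q) // g ≠ 1}, ((x.2.1 : Q)) ∈ A := by
      rintro ⟨S, g, hg⟩
      simp only [A, Finset.mem_filter, Finset.mem_univ, true_and, orderOf_coe]
      refine orderOf_eq_prime ?_ hg
      have := pow_card_eq_one' (x := g)
      rwa [hc S] at this
    have := Nat.card_le_card_of_injective (fun x => (⟨_, hf x⟩ : A)) ?_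
    · rw [Nat.card_sigma, Nat.card_eq_fintype_card (α := A), Fintype.card_coe] at this
      refine le_trans (le_of_eq ?_) this
      rw [Finset.sum_eq_card_nsmul (b := 6) fun S _ => ?_]
      · rw [Finset.card_univ, ← Nat.card_eq_fintype_card, hn8]; rfl
      · have := Nat.card_congr (Equiv.sumCompl fun g : (S : Subgroup Q) => g = 1)
        rw [Nat.card_sum, hc S, show Nat.card {g : (S : Subgroup Q) // g = 1} = 1 from
          Nat.card_eq_one_iff_unique.2 ⟨⟨fun a b => Subtype.ext (a.2.trans b.2.symm)⟩, ⟨⟨1, rfl⟩⟩⟩] at this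
        change Nat.card {g : (S : Subgroup Q) // ¬ g = 1} = 6
        omega
    rintro ⟨S, g, hg⟩ ⟨S', g', hg'⟩ e
    have e' : (g : Q) = g' := congrArg Subtype.val e
    have hSS : S = S' := by
      refine Sylow.ext ?_
      have hz : ∀ (S : Sylow 7 Q) (g : (S : Subgroup Q)), g ≠ 1 → zpowers (g : Q) = S := fun S g hg =>
        eq_of_le_of_card_ge (zpowers_le.2 g.2) (by
          have h7 := pow_card_eq_one' (x := g)
          rw [hc S] at h7
          rw [hc S, Nat.card_zpowers, orderOf_coe, orderOf_eq_prime (p := 7) h7 hg])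
      rw [← hz S g hg, ← hz S' g' hg', e']
    subst hSS
    obtain rfl : g = g' := Subtype.ext e'
    rfl
  let B : Finset Q := Finset.univ.filter fun g => g ∈ T
  have hB : B.card = 8 := by
    rw [← hT, Nat.card_eq_fintype_card, ← Fintype.card_subtype]
  have hdis : Disjoint A B := Finset.disjoint_left.2 fun g hg hg' => by
    simp only [A, B, Finset.mem_filter, Finset.mem_univ, true_and] at hg hg'
    have := T.orderOf_dvd_natCard hg'
    rw [hg, hT] at this
    omega
  have hun : A ∪ B = Finset.univ := Finset.eq_univ_of_card _ (by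
    have h2 := Finset.card_le_univ (A ∪ B)
    rw [Finset.card_union_of_disjoint hdis, ← Nat.card_eq_fintype_card, hQ] at *
    omega)
  have hTn : T.Normal := ⟨fun t ht g => by
    have h2 : g * t * g⁻¹ ∈ A ∪ B := hun ▸ Finset.mem_univ _
    simp only [A, B, Finset.mem_union, Finset.mem_filter, Finset.mem_univ, true_and] at h2
    refine h2.resolve_left fun h3 => ?_
    have h4 : orderOf (g * t * g⁻¹) = orderOf t := by
      simpa using (MulAut.conj g).orderOf_eq t
    rw [h4] at h3
    have := T.orderOf_dvd_natCard ht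
    rw [h3, hT] at this
    omega⟩
  have := h.core T hTn h.two
  rw [this, card_bot] at hT
  omega

theorem dvd_of_three (h : Tiny T) (hi : T.index = 3) : Nat.card T ∣ 2 := by
  have hk : (MulAction.toPermHom Q (Q ⧸ T)).ker = ⊥ := by
    rw [← normalCore_eq_ker]
    exact h.core _ (normalCore_normal T) (h.two.to_le (normalCore_le T))
  have h1 := card_dvd_of_injective _ ((MulAction.toPermHom Q (Q ⧸ T)).ker_eq_bot_iff.1 hk)
  rw [Nat.card_perm, ← T.index_eq_card, hi, ← T.card_mul_index, hi,
    show Nat.factorial 3 = 2 * 3 by rfl] at h1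
  exact Nat.dvd_of_mul_dvd_mul_right (by norm_num) h1

end Tiny

end CfsgLib.MaxTwo
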