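import Cfsg.Agent.MaxTwo.Eight
import Cfsg.Agent.MaxTwo.IndexQuot
import Cfsg.Agent.DihedralEdge.Basic
import Mathlib.Algebra.Group.Subgroup.Pointwise
import Mathlib.Tactic.IntervalCases

/-!
# For `k = 5, 6` the 2-radical has index two
-/

set_option autoImplicit false
set_option linter.style.haveILetI false
set_option linter.unusedSectionVars false

namespace CfsgLib.MaxTwo

open Subgroup

universe u

variable {G : Type u} [Group G] [Finite G] {P : Subgroup G} {z : G} {k : ℕ} {X R : Subgroup G}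

/-- Fixed points of an element of prime order. -/
theorem fixed_modEq {R : Subgroup G} {σ : G} {p : ℕ} (hp : p.Prime) (hσ : σ ^ p = 1)
    (hn : σ ∈ normalizer (R : Set G)) :
    Nat.card R ≡ Nat.card ↥(R ⊓ centralizer ({σ} : Set G)) [MOD p] := by
  haveI : Fact p.Prime := ⟨hp⟩
  have hmem : ∀ g ∈ zpowers σ, ∀ r ∈ R, g * r * g⁻¹ ∈ R := fun g hg r hr =>
    (mem_normalizer_iff.1 (zpowers_le.2 hn hg) r).1 hr
  letI : MulAction (zpowers σ) R :=
    { smul := fun g r => ⟨(g : G) * r * (g : G)⁻¹, hmem g g.2 r r.2⟩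
      one_smul := fun r => Subtype.ext (show ((1 : zpowers σ) : G) * r * ((1 : zpowers σ) : G)⁻¹ = r by simp)
      mul_smul := fun g g' r => Subtype.ext (show ((g * g' : zpowers σ) : G) * r * ((g * g' : zpowers σ) : G)⁻¹ =
        (g : G) * ((g' : G) * r * (g' : G)⁻¹) * (g : G)⁻¹ by simp [mul_assoc]) }
  have hP : IsPGroup p (zpowers σ) := by
    intro g
    obtain ⟨i, hi⟩ := mem_zpowers_iff.1 g.2
    exact ⟨1, Subtype.ext (by
      rw [pow_one, SubmonoidClass.coe_pow, ← hi, ← zpow_natCast (σ ^ i), ← zpow_mul, mul_comm, zpow_mul,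
        zpow_natCast, hσ, one_zpow, OneMemClass.coe_one])⟩
  have h := hP.card_modEq_card_fixedPoints R
  have e : Nat.card (MulAction.fixedPoints (zpowers σ) R) = Nat.card ↥(R ⊓ centralizer ({σ} : Set G)) := by
    refine Nat.card_congr ⟨fun r => ⟨r.1, r.1.2, mem_centralizer_singleton_iff.2 ?_⟩,
      fun r => ⟨⟨r, r.2.1⟩, fun g => Subtype.ext ?_⟩, fun r => rfl, fun r => rfl⟩
    · have := congrArg Subtype.val (r.2 ⟨σ, mem_zpowers σ⟩)
      change σ * (r.1 : G) * σ⁻¹ = r.1 at this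
      exact (mul_inv_eq_iff_eq_mul.1 this).symm
    · show (g : G) * (r : G) * (g : G)⁻¹ = r
      obtain ⟨i, hi⟩ := mem_zpowers_iff.1 g.2
      have hc : Commute (σ ^ i) (r : G) := (show Commute σ (r : G) from
        (mem_centralizer_singleton_iff.1 r.2.2).symm).zpow_left i
      rw [← hi, hc.eq, mul_inv_cancel_right]
  rw [← e]
  exact h

namespace Best

theorem false_of_fix (h : Ctx P z) (b : Best P z k X R) {σ : G} {p : ℕ} (hp : p.Prime) (hodd : p ≠ 2)
    (hσ : orderOf σ = p)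
    (hle : Nat.card R ≤ Nat.card ↥(R ⊓ centralizer ({σ} : Set G))) : False := by
  have hfix := eq_of_le_of_card_ge inf_le_left hle
  have hz : σ * z = z * σ := (mem_centralizer_singleton_iff.1 (hfix.ge b.zR).2).symm
  refine not_two_group (h.mem_P_of_comm hz) (fun e => ?_) (hσ ▸ hp.odd_of_ne_two hodd) h.p2
  rw [e, orderOf_one] at hσ
  exact hp.ne_one hσ.symm

theorem false_of_prime (h : Ctx P z) (b : Best P z k X R) {p : ℕ} (hp : p.Prime) (hodd : p ≠ 2)
    (hdvd : p ∣ Nat.card X) {j : ℕ} (hj : Nat.card R = 2 ^ j)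
    (hno : ∀ i : ℕ, i ≤ j → 2 ^ j ≡ 2 ^ i [MOD p] → i = j) : False := by
  haveI : Fact p.Prime := ⟨hp⟩
  obtain ⟨σ, hσ⟩ := exists_prime_orderOf_dvd_card' (G := X) p hdvd
  rw [← orderOf_coe] at hσ
  refine b.false_of_fix h hp hodd hσ ?_
  obtain ⟨i, hi⟩ := IsPGroup.iff_card.1 (h.p2.to_le (inf_le_left.trans b.RP) :
    IsPGroup 2 ↥(R ⊓ centralizer ({(σ : G)} : Set G)))
  haveI := two_fact
  have hm := fixed_modEq hp (hσ ▸ pow_orderOf_eq_one (σ : G)) (b.nR σ.2)
  rw [hj, hi] at hm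
  have hle : i ≤ j := (Nat.pow_le_pow_iff_right Nat.one_lt_two).1 (by
    rw [← hi, ← hj]; exact Nat.card_le_card_of_injective _ (inclusion_injective inf_le_left))
  rw [hj, hi, hno i hle hm]

/-- For `k ≥ 5` the 2-radical has index two in the Sylow subgroup. -/
theorem two_mul_R (h : Ctx P z) (hk : Bound z k) (b : Best P z k X R) (h5 : 5 ≤ k) (h6 : k ≤ 6) :
    2 * Nat.card R = 2 ^ k := by
  classical
  haveI := two_fact
  obtain ⟨x₀, hx₀, hx₀P, -⟩ := b.exists_odd h
  have hR2 : IsPGroup 2 R := h.p2.to_le b.RP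
  set Rn := R.subgroupOf X with hRn
  haveI hRnn : Rn.Normal := (normal_subgroupOf_iff_le_normalizer b.RX).2 b.nR
  set π := QuotientGroup.mk' Rn
  have hπ : Function.Surjective π := QuotientGroup.mk'_surjective Rn
  set T₀ : Subgroup X := (X ⊓ P).subgroupOf X
  have hmemT : ∀ g : X, g ∈ T₀ ↔ (g : G) ∈ P := fun g =>
    ⟨fun hg => (mem_subgroupOf.1 hg).2, fun hg => mem_subgroupOf.2 ⟨g.2, hg⟩⟩
  have hRT : Rn ≤ T₀ := fun g hg => (hmemT g).2 (b.RP (mem_subgroupOf.1 hg))
  have hker : π.ker ≤ T₀ := (QuotientGroup.ker_mk' Rn).le.trans hRT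
  set T := T₀.map π
  have hcT₀ : Nat.card T₀ = 2 ^ k :=
    (Nat.card_congr (subgroupOfEquivOfLe inf_le_left).toEquiv).trans b.card
  have hidx : T.index = T₀.index := index_map_eq T₀ hπ hker
  -- the index is odd
  have hodd : Odd T₀.index := by
    have hT₀2 : IsPGroup 2 T₀ := IsPGroup.of_card hcT₀
    obtain ⟨S, hS⟩ := hT₀2.exists_le_sylow
    have hSe : (S : Subgroup X) = T₀ := (eq_of_le_of_card_ge hS (by
      rw [hcT₀, ← card_map_of_injective X.subtype_injective (K := (S : Subgroup X))]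
      exact h.card_lt hk (b.member h.p2) (map_subtype_le _) (S.2.map _))).symm
    rw [← hSe]
    exact Nat.not_even_iff_odd.1 fun he => S.not_dvd_index he.two_dvd
  have htiny : Tiny T := by
    refine ⟨(IsPGroup.of_card hcT₀).map π, hidx ▸ hodd, fun e => ?_, fun Y hY => ?_, fun N hN hN2 => ?_⟩
    · have : (T₀.map π).comap π = ⊤ := by rw [show T₀.map π = T from rfl, e, comap_top]
      rw [comap_map_eq_self hker] at this
      exact hx₀P ((hmemT ⟨x₀, hx₀⟩).1 (this ▸ mem_top _))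
    · set Y₀ := Y.comap π
      have h0 : T₀ ≤ Y₀ := map_le_iff_le_comap.1 hY
      have hmap : Y₀.map π = Y := map_comap_eq_self_of_surjective hπ Y
      rcases b.maximal h hk (Y := Y₀.map X.subtype)
        (fun g hg => ⟨⟨g, hg.1⟩, h0 ((hmemT _).2 hg.2), rfl⟩) (map_subtype_le _) with e | e
      · left
        refine le_antisymm ?_ hY
        rw [← hmap]
        refine map_mono fun g hg => (hmemT g).2 ?_
        have : (g : G) ∈ X ⊓ P := e ▸ mem_map_of_mem _ hg
        exact this.2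
      · right
        rw [← hmap, show Y₀ = ⊤ from eq_top_iff.2 fun g _ => ?_, map_top_of_surjective π hπ]
        obtain ⟨g', hg', he⟩ := (e.ge g.2 : (g : G) ∈ Y₀.map X.subtype)
        rwa [← X.subtype_injective he]
    · have h2 : IsPGroup 2 (N.comap π) := hN2.comap_of_ker_isPGroup π (by
        rw [QuotientGroup.ker_mk']
        exact hR2.of_equiv (subgroupOfEquivOfLe b.RX).symm)
      have hle := b.le_R h hk (N := (N.comap π).map X.subtype) (map_subtype_le _) (h2.map _) (by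
        have := (le_normalizer_map X.subtype : (normalizer ((N.comap π) : Set X)).map X.subtype ≤ _)
        rwa [normalizer_eq_top_iff.2 (hN.comap π), ← MonoidHom.range_eq_map, range_subtype] at this)
      rw [← map_comap_eq_self_of_surjective hπ N, eq_bot_iff, map_le_iff_le_comap]
      intro g hg
      rw [MonoidHom.comap_bot, QuotientGroup.ker_mk']
      exact mem_subgroupOf.2 (hle (mem_map_of_mem _ hg))
  have hcard : Nat.card T * Nat.card R = 2 ^ k := by
    have h1 := T.card_mul_index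
    have h2 := T₀.card_mul_index
    have h3 : Nat.card X = Nat.card (X ⧸ Rn) * Nat.card Rn := Subgroup.card_eq_card_quotient_mul_card_subgroup Rn
    rw [Nat.card_congr (subgroupOfEquivOfLe b.RX).toEquiv, ← h1, ← h2, hcT₀, hidx] at h3
    refine Nat.eq_of_mul_eq_mul_right (show 0 < T₀.index from hodd.pos) ?_
    rw [h3]; ring
  have hR0 : 0 < Nat.card R := Nat.card_pos
  -- powers of two
  obtain ⟨a, ha⟩ := IsPGroup.iff_card.1 htiny.two
  obtain ⟨j, hj⟩ := IsPGroup.iff_card.1 hR2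
  have haj : a + j = k := Nat.pow_right_injective le_rfl (show 2 ^ (a + j) = 2 ^ k by
    rw [pow_add, ← ha, ← hj, hcard])
  have ha0 : a ≠ 0 := fun e => by
    have hlt := Ctx.two_mul_card_le (b.R_lt h hk)
    rw [b.card, hj, ← haj, e, zero_add] at hlt
    have := Nat.two_pow_pos j
    omega
  have hj2 : 2 ≤ j := (Nat.pow_le_pow_iff_right Nat.one_lt_two).1 (by
    rw [← hj]; exact (b.card_R_ge h).trans' (by norm_num))
  suffices a = 1 by rw [hj, ← haj, this, pow_add, pow_one]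
  by_contra ha1
  have hj4 : j ≤ 4 := by omega
  have hj16 : Nat.card R ≤ 16 := hj ▸ (Nat.pow_le_pow_right two_pos hj4).trans_eq (by norm_num)
  -- the conjugates of `z` in `R`
  set Ω : Set G := {r | ∃ x ∈ X, x * z * x⁻¹ = r}
  have hΩR : ∀ r ∈ Ω, r ∈ R ∧ r ≠ 1 := by
    rintro r ⟨x, hx, rfl⟩
    exact ⟨b.f_mem hx, fun e => h.z1 (conj_eq_one_iff.1 e)⟩
  have hΩi : Nat.card Ω = T₀.index := by
    let φ : X → Ω := fun x => ⟨(x : G) * z * (x : G)⁻¹, x, x.2, rfl⟩
    have hφ : ∀ x y : X, φ x = φ y ↔ x⁻¹ * y ∈ T₀ := by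
      intro x y
      rw [hmemT, Subgroup.coe_mul, InvMemClass.coe_inv]
      constructor
      · intro e
        have e' : (x : G) * z * (x : G)⁻¹ = y * z * (y : G)⁻¹ := congrArg Subtype.val e
        refine h.mem_P_of_fix ?_
        calc (x : G)⁻¹ * y * z * ((x : G)⁻¹ * y)⁻¹ = (x : G)⁻¹ * (y * z * (y : G)⁻¹) * x := by group
          _ = z := by rw [← e']; group
      · intro e
        refine Subtype.ext ?_
        have e' := h.zc _ e
        show (x : G) * z * (x : G)⁻¹ = y * z * (y : G)⁻¹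
        calc (x : G) * z * (x : G)⁻¹ = x * (z * ((x : G)⁻¹ * y)) * (y : G)⁻¹ := by group
          _ = y * z * (y : G)⁻¹ := by rw [e']; group
    refine (Nat.card_eq_of_bijective (Quotient.lift φ fun x y e => (hφ x y).2 (QuotientGroup.leftRel_apply.1 e) :
      X ⧸ T₀ → Ω) ⟨?_, ?_⟩).symm
    · rintro ⟨x⟩ ⟨y⟩ e
      exact QuotientGroup.eq.2 ((hφ x y).1 e)
    · rintro ⟨r, x, hx, rfl⟩
      exact ⟨QuotientGroup.mk ⟨x, hx⟩, rfl⟩
  have hΩlt : Nat.card Ω + 1 ≤ Nat.card R := by
    have := Nat.card_le_card_of_injective (α := Option Ω) (β := R)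
      (fun o => o.elim 1 fun r => ⟨r.1, (hΩR r r.2).1⟩) ?_
    · rwa [Finite.card_option] at this
    rintro (_ | r) (_ | r') e
    · rfl
    · exact absurd (congrArg Subtype.val e).symm (hΩR r' r'.2).2
    · exact absurd (congrArg Subtype.val e) (hΩR r r.2).2
    · exact congrArg some (Subtype.ext (congrArg Subtype.val e :))
  set i := T₀.index
  rw [hΩi] at hΩlt
  have hi3 : i ≠ 1 := fun e => by
    rw [index_eq_one] at e
    exact hx₀P ((hmemT ⟨x₀, hx₀⟩).1 (e ▸ mem_top _))
  have hdX : ∀ p : ℕ, p ∣ i → p ∣ Nat.card X := fun p hp => hp.trans T₀.index_dvd_card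
  have hi : i % 2 = 1 := Nat.odd_iff.1 hodd
  have hT4 : 4 ∣ Nat.card T := by
    rw [ha]; exact dvd_trans (by norm_num) (pow_dvd_pow 2 (show 2 ≤ a by omega))
  -- index three
  have hne3 : i ≠ 3 := fun e => by
    have h1 := Nat.le_of_dvd two_pos (hT4.trans (htiny.dvd_of_three (hidx.trans e)))
    omega
  have hne7 : ∀ O : Subgroup (X ⧸ Rn), O.Normal → Nat.card O = i → i ≠ 7 := fun O hO hOc e => by
    haveI := hO
    have h1 := hT4.trans (htiny.dvd_of_prime O (p := 7) (by norm_num) (hOc.trans e) (by decide) (hidx.trans e))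
    omega
  rcases Nat.lt_or_ge j 4 with hj3 | hj4'
  · -- at most eight
    have hR8 : Nat.card R ≤ 8 := hj ▸ (Nat.pow_le_pow_right two_pos (Nat.le_of_lt_succ hj3)).trans_eq (by norm_num)
    have : i = 5 ∨ i = 7 := by omega
    have hj' : j = 3 := by
      by_contra hh
      obtain rfl : j = 2 := by omega
      rw [hj] at hΩlt
      omega
    rcases this with e | e
    · exact b.false_of_prime h (by norm_num : Nat.Prime 5) (by norm_num) (hdX 5 (e ▸ dvd_rfl)) hj
        fun m hm hmod => by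
          subst hj'; interval_cases m <;> simp [Nat.ModEq] at hmod ⊢
    · by_cases ha2 : a = 2
      · obtain ⟨O, hO, -, hOc⟩ := htiny.exists_complement (fun e' => by rw [e', card_bot] at ha; rw [ha2] at ha; omega)
          (fun x hx y hy => congrArg Subtype.val (IsPGroup.commutative_of_card_eq_prime_sq (p := 2)
            (ha.trans (by rw [ha2])) ⟨x, hx⟩ ⟨y, hy⟩))
        exact hne7 O hO (hOc.trans hidx) e
      · have ha3 : a = 3 := by omega
        obtain ⟨O, hO, hOc⟩ := htiny.exists_normal_seven (by rw [ha, ha3]; norm_num) (hidx.trans e)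
        exact hne7 O hO (hOc.trans e.symm) e
  -- sixteen
  obtain rfl : j = 4 := by omega
  have ha2 : a = 2 := by omega
  have hR16 : Nat.card R = 16 := hj.trans (by norm_num)
  have hT4' : Nat.card T = 4 := by rw [ha, ha2]; norm_num
  have hTab : ∀ x ∈ T, ∀ y ∈ T, x * y = y * x := fun x hx y hy =>
    congrArg Subtype.val (IsPGroup.commutative_of_card_eq_prime_sq (p := 2)
      (hT4'.trans (by norm_num)) ⟨x, hx⟩ ⟨y, hy⟩)
  obtain ⟨O, hO, hcomp, hOc⟩ := htiny.exists_complement (fun e => by rw [e, card_bot] at hT4'; omega) hTab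
  haveI := hO
  rw [hidx] at hOc
  have hi59 : i = 5 ∨ i = 9 := by
    have h1 : i ≤ 15 := by omega
    have h11 : i ≠ 11 := fun e => b.false_of_prime h (by norm_num : Nat.Prime 11) (by norm_num)
      (hdX 11 (e ▸ dvd_rfl)) hj fun m hm hmod => by
        interval_cases m <;> simp [Nat.ModEq] at hmod ⊢
    have h13 : i ≠ 13 := fun e => b.false_of_prime h (by norm_num : Nat.Prime 13) (by norm_num)
      (hdX 13 (e ▸ dvd_rfl)) hj fun m hm hmod => by
        interval_cases m <;> simp [Nat.ModEq] at hmod ⊢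
    have h15 : i ≠ 15 := fun e => htiny.not_fifteen O (hidx.trans e) (hOc.trans e)
    have := hne7 O hO hOc
    omega
  -- `R` is elementary abelian
  set V := closure Ω
  have hVR : V ≤ R := (closure_le R).2 fun r hr => (hΩR r hr).1
  have hcen : ∀ r ∈ Ω, ∀ s ∈ R, r * s = s * r := by
    rintro r ⟨x, hx, rfl⟩ s hs
    exact b.f_central h hx hs
  have hVc : ∀ v ∈ V, ∀ s ∈ R, v * s = s * v := fun v hv => by
    induction hv using closure_induction with
    | mem r hr => exact hcen r hr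
    | one => intro s _; simp
    | mul r r' _ _ h1 h2 => intro s hs; rw [mul_assoc, h2 s hs, ← mul_assoc, h1 s hs, mul_assoc]
    | inv r _ h1 => intro s hs; exact (Commute.inv_left (h1 s hs)).eq
  have hV2 : ∀ v ∈ V, v * v = 1 := fun v hv => by
    induction hv using closure_induction with
    | mem r hr =>
      obtain ⟨x, -, rfl⟩ := hr
      rw [show x * z * x⁻¹ * (x * z * x⁻¹) = x * (z * z) * x⁻¹ by group, h.z2]; group
    | one => simp
    | mul r r' hr hr' h1 h2 =>
      calc r * r' * (r * r') = r * (r' * r) * r' := by group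
        _ = (r * r) * (r' * r') := by rw [hVc r' hr' r (hVR hr)]; group
        _ = 1 := by rw [h1, h2, one_mul]
    | inv r _ h1 => rw [← mul_inv_rev, h1, inv_one]
  have hVn : ∀ x ∈ X, ∀ v ∈ V, x * v * x⁻¹ ∈ V := by
    intro x hx v hv
    induction hv using closure_induction with
    | mem r hr =>
      obtain ⟨y, hy, rfl⟩ := hr
      exact subset_closure ⟨x * y, X.mul_mem hx hy, by group⟩
    | one => simp
    | mul r r' _ _ h1 h2 => simpa [mul_assoc] using V.mul_mem h1 h2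
    | inv r _ h1 => simpa [mul_assoc] using V.inv_mem h1
  have hzΩ : z ∈ Ω := ⟨1, X.one_mem, by group⟩
  have hzV : z ∈ V := subset_closure hzΩ
  have hV16 : V = R := by
    refine eq_of_le_of_card_ge hVR ?_
    obtain ⟨m, hm⟩ := IsPGroup.iff_card.1 (hR2.to_le hVR)
    have hVi : i + 1 ≤ Nat.card V := by
      rw [← hΩi, ← Finite.card_option]
      refine Nat.card_le_card_of_injective (fun o => o.elim (1 : V) fun r => ⟨r.1, subset_closure r.2⟩) ?_
      rintro (_ | r) (_ | r') e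
      · rfl
      · exact absurd (congrArg Subtype.val e).symm (hΩR r' r'.2).2
      · exact absurd (congrArg Subtype.val e) (hΩR r r.2).2
      · exact congrArg some (Subtype.ext (congrArg Subtype.val e :))
    have hm4 : m ≤ 4 := (Nat.pow_le_pow_iff_right Nat.one_lt_two).1 (by
      rw [← hm, ← hj]; exact Nat.card_le_card_of_injective _ (inclusion_injective hVR))
    rcases hi59 with e | e
    · by_contra hlt
      haveI : Fact (Nat.Prime 5) := ⟨by norm_num⟩
      obtain ⟨σ, hσ⟩ := exists_prime_orderOf_dvd_card' (G := X) 5 (hdX 5 (e ▸ dvd_rfl))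
      rw [← orderOf_coe] at hσ
      have hmod := fixed_modEq (R := V) (by norm_num : Nat.Prime 5) (hσ ▸ pow_orderOf_eq_one (σ : G))
        (mem_normalizer_iff.2 fun v => ⟨hVn σ σ.2 v, fun hv => by
          simpa [mul_assoc] using hVn _ (X.inv_mem σ.2) _ hv⟩)
      obtain ⟨l, hl⟩ := IsPGroup.iff_card.1 ((hR2.to_le hVR).to_le
        (inf_le_left : V ⊓ centralizer ({(σ : G)} : Set G) ≤ V))
      have hlm : l ≤ m := (Nat.pow_le_pow_iff_right Nat.one_lt_two).1 (by
        rw [← hl, ← hm]; exact Nat.card_le_card_of_injective _ (inclusion_injective inf_le_left))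
      rw [hl, hm] at hmod
      rw [hR16, hm] at hlt
      rw [hm, e] at hVi
      have hm3 : m = 3 := by
        interval_cases m <;> first | rfl | omega
      subst hm3
      have hl3 : l = 3 := by
        interval_cases l <;> simp [Nat.ModEq] at hmod ⊢
      have hfix := eq_of_le_of_card_ge (inf_le_left : V ⊓ centralizer ({(σ : G)} : Set G) ≤ V) (by
        rw [hl, hm, hl3])
      refine not_two_group (h.mem_P_of_comm (mem_centralizer_singleton_iff.1 (hfix.ge hzV).2).symm) (fun e' => ?_)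
        (hσ ▸ by decide) h.p2
      rw [e', orderOf_one] at hσ
      omega
    · rw [hR16, hm]
      rw [hm, e] at hVi
      interval_cases m <;> omega
  have hRc : ∀ r ∈ R, ∀ s ∈ R, r * s = s * r := fun r hr => hVc r (hV16.ge hr)
  have hRsq : ∀ r ∈ R, r * r = 1 := fun r hr => hV2 r (hV16.ge hr)
  -- a conjugate of `R` in the Sylow subgroup
  obtain ⟨y, ⟨hyP, hyN⟩, hyT⟩ := SetLike.exists_of_lt (lt_inf_normalizer h.p2 (b.T_lt_P h))
  set R' := R.map (MulAut.conj y).toMonoidHom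
  have hR'T : R' ≤ X ⊓ P := by
    rintro _ ⟨r, hr, rfl⟩
    exact (mem_normalizer_iff.1 hyN r).1 ⟨b.RX hr, b.RP hr⟩
  have hR'c : Nat.card R' = Nat.card R := card_map_of_injective (MulAut.conj y).injective
  have hR'ne : ¬ R' ≤ R := fun hle => hyT (by
    rw [← b.normalizer_R h hk]
    exact ⟨hyP, mem_normalizer_iff_map_conj_eq.2 (eq_of_le_of_card_ge hle hR'c.ge)⟩)
  have hR'sq : ∀ r ∈ R', r * r = 1 := by
    rintro _ ⟨r, hr, rfl⟩
    rw [← map_mul, hRsq r hr, map_one]
  have hR'ab : ∀ r ∈ R', ∀ s ∈ R', r * s = s * r := by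
    rintro _ ⟨r, hr, rfl⟩ _ ⟨s, hs, rfl⟩
    rw [← map_mul, hRc r hr s hs, map_mul]
  obtain ⟨t, htR', htR⟩ := SetLike.not_le_iff_exists.1 hR'ne
  have hO1 : O ≠ ⊥ := fun e => by rw [e, card_bot] at hOc; omega
  have hOab : ∀ x ∈ O, ∀ y ∈ O, x * y = y * x := fun x hx y hy => by
    rcases hi59 with e | e
    · haveI : Fact (Nat.Prime 5) := ⟨by norm_num⟩
      haveI : IsCyclic O := isCyclic_of_prime_card (hOc.trans e)
      letI := IsCyclic.commGroup (α := O)
      exact congrArg Subtype.val (mul_comm (⟨x, hx⟩ : O) ⟨y, hy⟩)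
    · haveI : Fact (Nat.Prime 3) := ⟨by norm_num⟩
      exact congrArg Subtype.val (IsPGroup.commutative_of_card_eq_prime_sq (p := 3)
        (hOc.trans (e.trans (by norm_num))) ⟨x, hx⟩ ⟨y, hy⟩)
  have hOodd : Odd (Nat.card O) := hOc ▸ hodd
  let lift : ∀ r ∈ R', X := fun r hr => ⟨r, (hR'T hr).1⟩
  have hπT : ∀ r (hr : r ∈ R'), π (lift r hr) ∈ T ∧ π (lift r hr) * π (lift r hr) = 1 ∧
      (r ∉ R → π (lift r hr) ≠ 1) := fun r hr =>
    ⟨mem_map_of_mem π ((hmemT _).2 (hR'T hr).2), by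
      rw [← map_mul, show lift r hr * lift r hr = 1 from Subtype.ext (hR'sq r hr), map_one],
      fun hrR e => hrR (mem_subgroupOf.1 ((QuotientGroup.eq_one_iff _).1 e))⟩
  set W := R' ⊓ R
  have hW8 : 8 ≤ Nat.card W := by
    have h2 : Nat.card R' = 2 * Nat.card W := by
      refine CfsgLib.DihedralEdge.card_eq_two_mul inf_le_left ⟨t, htR', fun e => htR e.2⟩ fun r hr s hs hr' hs' =>
        ⟨R'.mul_mem hr hs, ?_⟩
      have e := htiny.invol_unique O hOodd hOab hcomp hTab hO1 (hπT r hr).1 ((hπT r hr).2.2 fun e => hr' ⟨hr, e⟩)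
        (hπT r hr).2.1 (hπT s hs).1 ((hπT s hs).2.2 fun e => hs' ⟨hs, e⟩) (hπT s hs).2.1
      have e2 : π (lift r hr * lift s hs) = 1 := by rw [map_mul, e, (hπT s hs).2.1]
      exact mem_subgroupOf.1 ((QuotientGroup.eq_one_iff _).1 e2)
    rw [hR'c, hR16] at h2
    omega
  have htW : ∀ w ∈ W, t * w = w * t := fun w hw => hR'ab t htR' w hw.1
  set tb := π (lift t htR')
  have htb := hπT t htR'
  -- only `z` in `Ω` is fixed by `t`
  have hfixΩ : ∀ r ∈ Ω, t * r = r * t → r = z := by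
    rintro r ⟨x, hx, rfl⟩ hc
    obtain ⟨⟨⟨o, ho⟩, ⟨s, hs⟩⟩, hos⟩ := (hcomp.existsUnique (π ⟨x, hx⟩)).exists
    change o * s = π ⟨x, hx⟩ at hos
    have hconj : x⁻¹ * t * x ∈ X ⊓ P := ⟨X.mul_mem (X.mul_mem (X.inv_mem hx) (hR'T htR').1) hx,
      h.mem_cent_conj.1 (mem_centralizer_singleton_iff.2 hc)⟩
    have h1 : (π ⟨x, hx⟩)⁻¹ * tb * π ⟨x, hx⟩ ∈ T := by
      rw [← map_inv, ← map_mul, ← map_mul]
      exact mem_map_of_mem π ((hmemT _).2 hconj.2)
    have h2 : o⁻¹ * tb * o ∈ T := by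
      have := T.mul_mem (T.mul_mem hs h1) (T.inv_mem hs)
      rwa [← hos, show s * ((o * s)⁻¹ * tb * (o * s)) * s⁻¹ = o⁻¹ * tb * o by group] at this
    have h3 : o⁻¹ * tb * o * tb⁻¹ = 1 := by
      refine mem_bot.1 ((htiny.inf_eq_bot hOodd).le ⟨?_, T.mul_mem h2 (T.inv_mem htb.1)⟩)
      rw [show o⁻¹ * tb * o * tb⁻¹ = o⁻¹ * (tb * o * tb⁻¹) by group]
      exact O.mul_mem (O.inv_mem ho) (hO.conj_mem o ho tb)
    have ho1 : o = 1 := htiny.fix_trivial O hOodd hOab hcomp hTab htb.1 (htb.2.2 htR) ho (by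
      have := mul_inv_eq_one.1 h3
      calc tb * o = o * (o⁻¹ * tb * o) := by group
        _ = o * tb := by rw [this])
    rw [ho1, one_mul] at hos
    have hxT : (⟨x, hx⟩ : X) ∈ T₀ := (comap_map_eq_self hker).le (mem_comap.2 (hos ▸ hs))
    rw [← h.zc x ((hmemT _).1 hxT), mul_inv_cancel_right]
  rcases hi59 with e | e
  · haveI : Fact (Nat.Prime 5) := ⟨by norm_num⟩
    obtain ⟨σ, hσ⟩ := exists_prime_orderOf_dvd_card' (G := X) 5 (hdX 5 (e ▸ dvd_rfl))
    have hσO : π σ ∈ O := by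
      rw [← QuotientGroup.eq_one_iff]
      have h4 : Nat.card ((X ⧸ Rn) ⧸ O) = 4 := by
        rw [← index_eq_card, hcomp.symm.index_eq_card, hT4']
      have h1 : ((π σ : X ⧸ Rn) : (X ⧸ Rn) ⧸ O) ^ 4 = 1 := h4 ▸ pow_card_eq_one'
      have h2 : ((π σ : X ⧸ Rn) : (X ⧸ Rn) ⧸ O) ^ 5 = 1 := by
        rw [← QuotientGroup.mk_pow, ← map_pow, ← hσ, pow_orderOf_eq_one, map_one, QuotientGroup.mk_one]
      rwa [pow_succ, h1, one_mul] at h2
    have hinv : tb * π σ * tb = (π σ)⁻¹ := htiny.inverts O hOodd hOab hcomp hTab htb.1 (htb.2.2 htR) htb.2.1 hσO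
    rw [← orderOf_coe] at hσ
    set W' := W.map (MulAut.conj (σ : G)).toMonoidHom
    have hW'R : W' ≤ R := by
      rintro _ ⟨w, hw, rfl⟩
      exact (mem_normalizer_iff.1 (b.nR σ.2) w).1 hw.2
    set D := W ⊓ W'
    have hD : 4 ≤ Nat.card D := by
      have hWn : W ≤ normalizer (W' : Set G) := fun w hw => mem_normalizer_iff.2 fun v => ⟨fun hv => by
        rw [hRc w hw.2 v (hW'R hv), mul_inv_cancel_right]; exact hv, fun hv => by
        have hvR : v ∈ R := by
          have := R.mul_mem (R.mul_mem (R.inv_mem hw.2) (hW'R hv)) hw.2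
          simpa [mul_assoc] using this
        rwa [hRc w hw.2 v hvR, mul_inv_cancel_right] at hv⟩
      have h1 := CfsgLib.Solvable.card_sup_mul_card_inf hWn
      have h2 : Nat.card W' = Nat.card W := card_map_of_injective (MulAut.conj (σ : G)).injective
      have h3 : Nat.card ↥(W ⊔ W') ≤ 16 := hR16 ▸ Nat.card_le_card_of_injective _
        (inclusion_injective (_root_.sup_le inf_le_right hW'R))
      rw [h2] at h1
      have h4 := Nat.mul_le_mul hW8 hW8
      have h5 := Nat.mul_le_mul_right (Nat.card D) h3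
      change Nat.card ↥(W ⊔ W') * Nat.card D = _ at h1
      omega
    -- `σ` centralizes `D`
    have hDc : D ≤ R ⊓ centralizer ({(σ : G)} : Set G) := by
      rintro d ⟨hd, w, hw, hwd⟩
      change (σ : G) * w * (σ : G)⁻¹ = d at hwd
      refine ⟨hd.2, mem_centralizer_singleton_iff.2 ?_⟩
      have c1 : Commute t d := htW d hd
      have c2 : Commute ((σ : G) * t * (σ : G)⁻¹) d := by
        show (σ : G) * t * (σ : G)⁻¹ * d = d * ((σ : G) * t * (σ : G)⁻¹)
        rw [← hwd]
        calc (σ : G) * t * (σ : G)⁻¹ * ((σ : G) * w * (σ : G)⁻¹) = σ * (t * w) * (σ : G)⁻¹ := by group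
          _ = σ * (w * t) * (σ : G)⁻¹ := by rw [htW w hw]
          _ = _ := by group
      set tl := lift t htR'
      have e1 : π (σ * σ * (tl * σ * tl * σ⁻¹)) = 1 := by
        simp only [map_mul, map_inv]
        rw [show π tl * π σ * π tl = (π σ)⁻¹ from hinv]; group
      have e2 : ((σ * σ * (tl * σ * tl * σ⁻¹) : X) : G) ∈ R := mem_subgroupOf.1 ((QuotientGroup.eq_one_iff _).1 e1)
      simp only [Subgroup.coe_mul, InvMemClass.coe_inv, show (tl : G) = t from rfl] at e2
      have c3 : Commute ((σ : G) * σ) d := by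
        have c4 : Commute (t * (σ * t * (σ : G)⁻¹)) d := c1.mul_left c2
        have c5 : Commute ((σ : G) * σ * (t * (σ * t * (σ : G)⁻¹))) d := by
          simpa [mul_assoc] using (show Commute ((σ : G) * σ * (t * σ * t * (σ : G)⁻¹)) d from hRc _ e2 d hd.2)
        simpa [mul_assoc] using c5.mul_left c4.inv_left
      have c6 : Commute (σ : G) d := by
        have := c3.pow_left 3
        rwa [← pow_two, ← pow_mul, show (2 * 3 : ℕ) = 5 + 1 by norm_num, pow_succ, ← hσ, pow_orderOf_eq_one,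
          one_mul] at this
      exact c6.eq.symm
    obtain ⟨l, hl⟩ := IsPGroup.iff_card.1 (hR2.to_le
      (inf_le_left : R ⊓ centralizer ({(σ : G)} : Set G) ≤ R))
    have hl4 : l ≤ 4 := (Nat.pow_le_pow_iff_right Nat.one_lt_two).1 (by
      rw [← hl, ← hj]; exact Nat.card_le_card_of_injective _ (inclusion_injective inf_le_left))
    have h2l : 4 ≤ 2 ^ l := hl ▸ hD.trans (Nat.card_le_card_of_injective _ (inclusion_injective hDc))
    have hm := fixed_modEq (by norm_num : Nat.Prime 5) (hσ ▸ pow_orderOf_eq_one (σ : G)) (b.nR σ.2)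
    rw [hj, hl] at hm
    refine b.false_of_fix h (by norm_num : Nat.Prime 5) (by norm_num) hσ ?_
    rw [hj, hl]
    interval_cases l <;> simp [Nat.ModEq] at hm h2l ⊢
  · -- nine conjugates
    have hzW : z ∈ W := by
      refine ⟨⟨z, b.zR, ?_⟩, b.zR⟩
      show y * z * y⁻¹ = z
      rw [← h.zc y hyP, mul_inv_cancel_right]
    have hcompl : ∀ r ∈ R, r ∉ W → r ∈ Ω := by
      set A : Set G := (R : Set G) \ (W : Set G)
      set B : Set G := Ω \ {z}
      have hBA : B ⊆ A := fun r hr => ⟨(hΩR r hr.1).1, fun hrW => hr.2 (hfixΩ r hr.1 (htW r hrW))⟩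
      have hA : A.ncard ≤ 8 := by
        rw [Set.ncard_diff (fun r hr => hr.2), ← Nat.card_coe_set_eq, ← Nat.card_coe_set_eq]
        change Nat.card R - Nat.card W ≤ 8
        omega
      have hB : B.ncard = 8 := by
        rw [Set.ncard_sdiff_singleton_of_mem hzΩ, ← Nat.card_coe_set_eq, hΩi, e]
      have hAB := Set.eq_of_subset_of_ncard_le hBA (by omega) (Set.toFinite _)
      exact fun r hr hrW => ((Set.ext_iff.1 hAB r).2 ⟨hr, hrW⟩).1
    have hkeep : ∀ x ∈ X, ∀ w ∈ W, w ≠ 1 → w ≠ z → x * w * x⁻¹ ∈ W := by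
      intro x hx w hw hw1 hwz
      by_contra hn
      obtain ⟨x', hx', e'⟩ := hcompl _ ((mem_normalizer_iff.1 (b.nR hx) w).1 hw.2) hn
      exact hwz (hfixΩ w ⟨x⁻¹ * x', X.mul_mem (X.inv_mem hx) hx', by
        calc x⁻¹ * x' * z * (x⁻¹ * x')⁻¹ = x⁻¹ * (x' * z * x'⁻¹) * x := by group
          _ = w := by rw [e']; group⟩ (htW w hw))
    obtain ⟨w₁, hw₁, hw11, hw1z⟩ : ∃ w ∈ W, w ≠ 1 ∧ w ≠ z := by
      by_contra hcon
      push Not at hcon
      have := Nat.card_le_card_of_injective (fun w : W => (⟨(w : G), by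
        by_cases hh : (w : G) = 1
        · simp [hh]
        · simp [hcon w w.2 hh]⟩ : ({1, z} : Finset G))) fun a c e => Subtype.ext (congrArg Subtype.val e :)
      rw [Nat.card_eq_fintype_card (α := ({1, z} : Finset G)), Fintype.card_coe] at this
      have := Finset.card_le_two (a := (1 : G)) (b := z)
      omega
    refine absurd (hfixΩ _ ⟨x₀, hx₀, rfl⟩ (htW _ ?_)) (f_ne h hx₀P)
    have hw1sq := hRsq w₁ hw₁.2
    rw [show x₀ * z * x₀⁻¹ = x₀ * w₁ * x₀⁻¹ * (x₀ * (w₁ * z) * x₀⁻¹) by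
      rw [show x₀ * w₁ * x₀⁻¹ * (x₀ * (w₁ * z) * x₀⁻¹) = x₀ * (w₁ * w₁ * z) * x₀⁻¹ by group, hw1sq, one_mul]]
    refine W.mul_mem (hkeep x₀ hx₀ w₁ hw₁ hw11 hw1z) (hkeep x₀ hx₀ _ (W.mul_mem hw₁ hzW) ?_ ?_)
    · intro e'
      exact hw1z ((eq_inv_of_mul_eq_one_left e').trans (inv_eq_of_mul_eq_one_right h.z2))
    · intro e'
      exact hw11 (mul_eq_right.1 e')

end Best

end CfsgLib.MaxTwo
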