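import Cfsg.Agent.MaxTwo.Core
import Cfsg.Agent.DihedralEdge.Final

/-!
# Members have 2-subgroups of order at most sixteen
-/

set_option autoImplicit false
set_option linter.style.haveILetI false
set_option linter.unusedSectionVars false

namespace CfsgLib.MaxTwo

open Subgroup

universe u

variable {G : Type u} [Group G] [Finite G] {P : Subgroup G} {z : G} {k : ℕ}

theorem le_six (h : Ctx P z) (h128 : Nat.card P = 128) {X S : Subgroup G} (hX : Member z X) (hSX : S ≤ X)
    (hS : IsPGroup 2 S) (hcard : Nat.card S = 2 ^ k) : k ≤ 6 := by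
  haveI := two_fact
  obtain ⟨a, ha⟩ := h.le_conj hS
  have hle : Nat.card S ≤ Nat.card P := by
    refine Nat.card_le_card_of_injective (fun s : S => (⟨a⁻¹ * s * a, ha s s.2⟩ : P)) fun s t e => ?_
    exact Subtype.ext (mul_left_cancel (mul_right_cancel (congrArg Subtype.val e)))
  rw [hcard, h128] at hle
  have : k ≤ 7 := (Nat.pow_le_pow_iff_right Nat.one_lt_two).1 (hle.trans_eq (by norm_num))
  by_contra hk
  obtain rfl : k = 7 := by omega
  set φ : G →* G := (MulAut.conj a⁻¹).toMonoidHom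
  have hφ : ∀ v, φ v = a⁻¹ * v * a := fun v => by simp [φ]
  have hinj : Function.Injective φ := (MulAut.conj a⁻¹).injective
  have hSP : S.map φ = P := by
    refine eq_of_le_of_card_ge (fun v hv => ?_) ?_
    · obtain ⟨w, hw, rfl⟩ := hv
      rw [hφ]; exact ha w hw
    · rw [card_map_of_injective hinj, hcard, h128]; norm_num
  obtain ⟨hnon, R, hR, hRX, hXR, g, hg⟩ := hX
  rcases h.max.le_iff.1 (hSP ▸ map_mono hSX : P ≤ X.map φ) with e | e
  · have hXtop : X = ⊤ := eq_top_iff.2 fun v _ => by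
      obtain ⟨w, hw, hwv⟩ := (e.ge (mem_top (φ v)) : φ v ∈ X.map φ)
      rwa [← hinj hwv]
    have hN : R.Normal := normalizer_eq_top_iff.1 (top_le_iff.1 (hXtop ▸ hXR))
    exact h.z1 (conj_eq_one_iff.1 (mem_bot.1 (h.core R hN hR ▸ hg)))
  · exact hnon ((h.p2.comap_of_injective φ hinj).to_le (map_le_iff_le_comap.1 e.le))

theorem le_four (h : Ctx P z) (h128 : Nat.card P = 128) (hch : NoLongChain G) (hk : Bound z k)
    (hat : ∃ X S : Subgroup G, Member z X ∧ S ≤ X ∧ IsPGroup 2 S ∧ Nat.card S = 2 ^ k) : k ≤ 4 := by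
  classical
  haveI := two_fact
  obtain ⟨X₁, S₁, hX₁, hS₁X, hS₁, hS₁c⟩ := hat
  have hk6 := le_six h h128 hX₁ hS₁X hS₁ hS₁c
  by_contra h5
  push Not at h5
  obtain ⟨X, R, b⟩ := exists_best (exists_std h hk hX₁ hS₁X hS₁ hS₁c)
  have h2R := b.two_mul_R h hk h5 hk6
  set T := X ⊓ P
  have hT2 : IsPGroup 2 T := h.p2.to_le inf_le_right
  have hRT : R ≤ T := le_inf b.RX b.RP
  have hTc : Nat.card T = 2 * Nat.card R := b.card.trans h2R.symm
  obtain ⟨y, ⟨hyP, hyN⟩, hyT, hyy⟩ : ∃ y : G, y ∈ P ⊓ normalizer (T : Set G) ∧ y ∉ T ∧ y * y ∈ T := by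
    obtain ⟨y₀, hy₀, hy₀T⟩ := SetLike.exists_of_lt (lt_inf_normalizer h.p2 (b.T_lt_P h))
    obtain ⟨m, hm⟩ := h.p2 ⟨y₀, hy₀.1⟩
    have hm' : y₀ ^ 2 ^ m = 1 := by simpa using congrArg Subtype.val hm
    have hex : ∃ n, y₀ ^ 2 ^ n ∈ T := ⟨m, hm' ▸ T.one_mem⟩
    obtain ⟨n, hn⟩ : ∃ n, Nat.find hex = n + 1 := by
      refine Nat.exists_eq_succ_of_ne_zero fun e => hy₀T ?_
      have := Nat.find_spec hex
      rwa [e, pow_zero, pow_one] at this
    refine ⟨y₀ ^ 2 ^ n, pow_mem hy₀ _, Nat.find_min hex (by omega), ?_⟩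
    rw [← pow_add, ← two_mul, ← pow_succ', ← hn]
    exact Nat.find_spec hex
  have hidx : (R.subgroupOf T).index = 2 := by
    have := (R.subgroupOf T).index_mul_card
    rw [Nat.card_congr (subgroupOfEquivOfLe hRT).toEquiv, hTc] at this
    exact Nat.eq_of_mul_eq_mul_right Nat.card_pos this
  set T₀ := T.subgroupOf X
  have hT₀2 : IsPGroup 2 T₀ := hT2.of_equiv (subgroupOfEquivOfLe inf_le_left).symm
  have hT₀c : Nat.card T₀ = 2 ^ k :=
    (Nat.card_congr (subgroupOfEquivOfLe inf_le_left).toEquiv).trans b.card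
  obtain ⟨S, hS⟩ : ∃ S : Sylow 2 X, (S : Subgroup X) = T₀ := by
    obtain ⟨S, hS⟩ := hT₀2.exists_le_sylow
    refine ⟨S, (eq_of_le_of_card_ge hS ?_).symm⟩
    rw [hT₀c, ← card_map_of_injective X.subtype_injective (K := (S : Subgroup X))]
    exact h.card_lt hk (b.member h.p2) (map_subtype_le _) (S.2.map _)
  let D : CfsgLib.DihedralEdge.Data G :=
    { H := X
      P := T
      Q := R
      y := y
      hQP := hRT
      hPH := inf_le_left
      hQn := b.nR
      hP2 := hT2
      hQne := fun e => h.z1 (mem_bot.1 (e ▸ b.zR))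
      hidx := hidx
      two := fun U hUX hU a ha c hc haR hcR => by
        have hU2 : IsPGroup 2 ↥(U ⊔ R) := hU.to_sup_of_normal_right' (h.p2.to_le b.RP) (hUX.trans b.nR)
        have h1 : Nat.card ↥(U ⊔ R) ≤ 2 ^ k :=
          h.card_lt hk (b.member h.p2) (_root_.sup_le hUX b.RX) hU2
        have h2 := Ctx.two_mul_card_le (lt_of_le_of_ne le_sup_right fun e => haR (e.symm ▸ mem_sup_left ha) :
          R < U ⊔ R)
        have hi : (R.subgroupOf (U ⊔ R)).index = 2 := by
          have := (R.subgroupOf (U ⊔ R)).index_mul_card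
          rw [Nat.card_congr (subgroupOfEquivOfLe (le_sup_right : R ≤ U ⊔ R)).toEquiv] at this
          refine Nat.eq_of_mul_eq_mul_right (show 0 < Nat.card R from Nat.card_pos) ?_
          omega
        have := mul_mem_iff_of_index_two hi (a := (⟨a, mem_sup_left ha⟩ : ↥(U ⊔ R)))
          (b := ⟨c, mem_sup_left hc⟩)
        simp only [mem_subgroupOf, Subgroup.coe_mul, haR, hcR, iff_self, iff_true] at this
        exact this
      sylow := fun v hv hvp => by
        obtain ⟨Q', hQ'⟩ := (hvp.of_equiv (subgroupOfEquivOfLe (zpowers_le.2 hv)).symm).exists_le_sylow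
        obtain ⟨g, hg⟩ := MulAction.exists_smul_eq X S Q'
        have hv' : (⟨v, hv⟩ : X) ∈ ((g • S : Sylow 2 X) : Subgroup X) :=
          hg.symm ▸ hQ' (mem_subgroupOf.2 (mem_zpowers v))
        rw [Sylow.coe_subgroup_smul, Subgroup.mem_pointwise_smul_iff_inv_smul_mem, hS] at hv'
        refine ⟨g, g.2, CfsgLib.DihedralEdge.mem_cj.2 ?_⟩
        simpa [MulAut.smul_def, ← map_inv, T₀, mem_subgroupOf] using hv'
      exists_gen := by
        by_contra hcon
        push Not at hcon
        refine b.not_normalizes h hk fun g hg => CfsgLib.DihedralEdge.mem_normalizer_of_cj ?_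
        have hle : CfsgLib.DihedralEdge.cj g T ≤ X := fun v hv => by
          have := (CfsgLib.DihedralEdge.mem_cj.1 hv).1
          simpa [mul_assoc] using X.mul_mem (X.mul_mem hg this) (X.inv_mem hg)
        rcases b.maximal h hk (Y := T ⊔ CfsgLib.DihedralEdge.cj g T) le_sup_left
          (_root_.sup_le inf_le_left hle) with e | e
        · refine eq_of_le_of_card_ge ((le_sup_right : CfsgLib.DihedralEdge.cj g T ≤ T ⊔ CfsgLib.DihedralEdge.cj g T).trans e.le) ?_
          refine Nat.card_le_card_of_injective (fun v : T =>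
            (⟨g * v * g⁻¹, CfsgLib.DihedralEdge.conj_mem_cj.2 v.2⟩ : CfsgLib.DihedralEdge.cj g T)) fun v w e => ?_
          exact Subtype.ext (mul_left_cancel (mul_right_cancel (congrArg Subtype.val e)))
        · exact absurd e (hcon g hg)
      hyP := CfsgLib.DihedralEdge.cj_eq_of_mem hyN
      hy2 := ⟨y * y, hyy, 1, one_mem _, (mul_one _).symm⟩
      core := fun L hL hLX hLy => by
        have hyL := CfsgLib.DihedralEdge.mem_normalizer_of_cj hLy
        rcases (show k = 5 ∨ k = 6 by omega) with rfl | rfl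
        · exact core_eq_bot h h128 hch hk b hyP hyT hL hLX hyL
        · by_contra hL1
          have hN : P ≤ normalizer (L : Set G) := by
            have hlt : T < P ⊓ normalizer (L : Set G) := lt_of_le_of_ne
              (le_inf inf_le_right (inf_le_left.trans hLX)) fun e => hyT (e.ge ⟨hyP, hyL⟩)
            have h1 := Ctx.two_mul_card_le hlt
            rw [b.card] at h1
            have : P ⊓ normalizer (L : Set G) = P := eq_of_le_of_card_ge inf_le_left (by
              rw [h128]; norm_num at h1 ⊢; omega)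
            exact this ▸ inf_le_right
          exact b.non (h.p2.to_le (hLX.trans (h.normalizer_eq (hT2.to_le hL) hL1 hN).le)) }
  have hc := (D.conclusion S hS).1
  change Nat.card T = 4 ∨ Nat.card T = 8 ∨ Nat.card T = 16 at hc
  rw [b.card] at hc
  have : 32 ≤ 2 ^ k := le_of_eq_of_le (by norm_num) (Nat.pow_le_pow_right two_pos h5)
  omega

end CfsgLib.MaxTwo
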